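import Mathlib.Algebra.Homology.DerivedCategory.ExactFunctor

/-!
# Full faithfulness on derived categories from a retraction with comparison maps
-/

set_option autoImplicit false
set_option backward.isDefEq.respectTransparency false
set_option backward.isDefEq.respectTransparency.types false

universe w₁ w₂ v₁ v₂ u₁ u₂

noncomputable section

open CategoryTheory CategoryTheory.Limits

namespace Groth.Agent.FibDescLib

theorem bijective_map_of_retraction {B : Type u₁} {D : Type u₂} [Category.{v₁} B] [Category.{v₂} D]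
    (P : B ⥤ D) (R : D ⥤ B) (S : D ⥤ D) (a : 𝟭 D ⟶ S) (b : R ⋙ P ⟶ S) (ρ : P ⋙ R ≅ 𝟭 B)
    (ha : ∀ K, IsIso (a.app (P.obj K))) (hb : ∀ K, IsIso (b.app (P.obj K))) (K L : B) :
    Function.Bijective fun g : K ⟶ L => P.map g := by
  have hρ : ∀ {K L : B} (g : K ⟶ L), R.map (P.map g) = ρ.hom.app K ≫ g ≫ ρ.inv.app L := fun {K L} g => by
    have h := ρ.hom.naturality g
    dsimp at h
    rw [← reassoc_of% h, ρ.hom_inv_id_app]
    simp
  refine ⟨fun g g' h => ?_, fun φ => ?_⟩
  · have h' := congrArg R.map (show P.map g = P.map g' from h)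
    rw [hρ, hρ, cancel_epi, cancel_mono] at h'
    exact h'
  · refine ⟨ρ.inv.app K ≫ R.map φ ≫ ρ.hom.app L, ?_⟩
    haveI := ha; haveI := hb
    let ψ := ρ.inv.app K ≫ R.map φ ≫ ρ.hom.app L
    have e : R.map (P.map ψ) = R.map φ := by simp [hρ, ψ]
    have h₁ : ∀ {X X' : D} (f : X ⟶ X'), f ≫ a.app X' = a.app X ≫ S.map f := fun f => a.naturality f
    have h₂ : P.map (R.map (P.map ψ)) ≫ b.app (P.obj L) = b.app (P.obj K) ≫ S.map (P.map ψ) :=
      b.naturality (P.map ψ)
    have h₃ : P.map (R.map φ) ≫ b.app (P.obj L) = b.app (P.obj K) ≫ S.map φ := b.naturality φ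
    rw [e, h₃, cancel_epi] at h₂
    show P.map ψ = φ
    refine (cancel_mono (a.app (P.obj L))).1 ?_
    exact (h₁ _).trans ((congrArg (a.app (P.obj K) ≫ ·) h₂.symm).trans (h₁ φ).symm)

variable {B : Type u₁} {D : Type u₂} [Category.{v₁} B] [Category.{v₂} D] [Abelian B] [Abelian D]
  [HasDerivedCategory.{w₁} B] [HasDerivedCategory.{w₂} D]

variable (P : B ⥤ D) (R : D ⥤ B) (S : D ⥤ D) [P.Additive] [R.Additive] [S.Additive]
  [PreservesFiniteLimits P] [PreservesFiniteColimits P] [PreservesFiniteLimits R] [PreservesFiniteColimits R]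
  [PreservesFiniteLimits S] [PreservesFiniteColimits S]

/-- Full faithfulness of the derived functor of an exact functor with a retraction. -/
theorem bijective_mapDerived_of_retraction (α : 𝟭 D ⟶ S) (β : R ⋙ P ⟶ S) (ρ : P ⋙ R ≅ 𝟭 B)
    (hα : ∀ H, IsIso (α.app (P.obj H))) (hβ : ∀ H, IsIso (β.app (P.obj H)))
    (K L : DerivedCategory B) :
    Function.Bijective fun g : K ⟶ L => P.mapDerivedCategory.map g := by
  let c := ComplexShape.up ℤ
  let W := HomologicalComplex.quasiIso D c
  let W' := HomologicalComplex.quasiIso B c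
  let QD := DerivedCategory.Q (C := D)
  let QB := DerivedCategory.Q (C := B)
  letI : Localization.Lifting QD W (R.mapHomologicalComplex c ⋙ P.mapHomologicalComplex c ⋙ QD)
      (R.mapDerivedCategory ⋙ P.mapDerivedCategory) :=
    ⟨(Functor.associator _ _ _).symm ≪≫ Functor.isoWhiskerRight R.mapDerivedCategoryFactors _ ≪≫
      Functor.associator _ _ _ ≪≫ Functor.isoWhiskerLeft _ P.mapDerivedCategoryFactors⟩
  letI : Localization.Lifting QD W (S.mapHomologicalComplex c ⋙ QD) S.mapDerivedCategory :=
    ⟨S.mapDerivedCategoryFactors⟩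
  letI : Localization.Lifting QB W' (P.mapHomologicalComplex c ⋙ R.mapHomologicalComplex c ⋙ QB)
      (P.mapDerivedCategory ⋙ R.mapDerivedCategory) :=
    ⟨(Functor.associator _ _ _).symm ≪≫ Functor.isoWhiskerRight P.mapDerivedCategoryFactors _ ≪≫
      Functor.associator _ _ _ ≪≫ Functor.isoWhiskerLeft _ R.mapDerivedCategoryFactors⟩
  let αC : 𝟭 (HomologicalComplex D c) ⟶ S.mapHomologicalComplex c :=
    { app := fun K => { f := fun i => α.app (K.X i), comm' := fun i j _ => (α.naturality (K.d i j)).symm }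
      naturality := fun _ _ φ => HomologicalComplex.hom_ext _ _ fun i => α.naturality (φ.f i) }
  let βC : R.mapHomologicalComplex c ⋙ P.mapHomologicalComplex c ⟶ S.mapHomologicalComplex c :=
    { app := fun K => { f := fun i => β.app (K.X i), comm' := fun i j _ => (β.naturality (K.d i j)).symm }
      naturality := fun _ _ φ => HomologicalComplex.hom_ext _ _ fun i => β.naturality (φ.f i) }
  let ρC : P.mapHomologicalComplex c ⋙ R.mapHomologicalComplex c ≅ 𝟭 (HomologicalComplex B c) :=
    NatIso.ofComponents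
      (fun K => HomologicalComplex.Hom.isoOfComponents (fun i => ρ.app (K.X i))
        fun i j _ => (ρ.hom.naturality (K.d i j)).symm)
      fun {_ _} φ => HomologicalComplex.hom_ext _ _ fun i => ρ.hom.naturality (φ.f i)
  let a : 𝟭 _ ⟶ S.mapDerivedCategory :=
    Localization.liftNatTrans QD W QD (S.mapHomologicalComplex c ⋙ QD) _ _
      ((Functor.leftUnitor _).inv ≫ Functor.whiskerRight αC QD)
  let b : R.mapDerivedCategory ⋙ P.mapDerivedCategory ⟶ S.mapDerivedCategory :=
    Localization.liftNatTrans QD W (R.mapHomologicalComplex c ⋙ P.mapHomologicalComplex c ⋙ QD)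
      (S.mapHomologicalComplex c ⋙ QD) _ _ ((Functor.associator _ _ _).inv ≫ Functor.whiskerRight βC QD)
  let r : P.mapDerivedCategory ⋙ R.mapDerivedCategory ≅ 𝟭 _ :=
    Localization.liftNatIso QB W' (P.mapHomologicalComplex c ⋙ R.mapHomologicalComplex c ⋙ QB) QB _ _
      ((Functor.associator _ _ _).symm ≪≫ Functor.isoWhiskerRight ρC QB ≪≫ Functor.leftUnitor _)
  have hiso : ∀ {F : DerivedCategory D ⥤ DerivedCategory D} (t : F ⟶ S.mapDerivedCategory),
      (∀ C : HomologicalComplex B c, IsIso (t.app (QD.obj ((P.mapHomologicalComplex c).obj C)))) →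
      ∀ X, IsIso (t.app (P.mapDerivedCategory.obj X)) := fun {F} t h X => by
    haveI : IsIso (t.app ((P.mapHomologicalComplex c ⋙ QD).obj (QB.objPreimage X))) := h (QB.objPreimage X)
    exact (NatTrans.isIso_app_iff_of_iso t
      (P.mapDerivedCategory.mapIso (QB.objObjPreimageIso X).symm ≪≫ P.mapDerivedCategoryFactors.app _)).2
      inferInstance
  refine bijective_map_of_retraction P.mapDerivedCategory R.mapDerivedCategory S.mapDerivedCategory a b r
    (hiso a fun C => ?_) (hiso b fun C => ?_) K L
  · haveI : ∀ i, IsIso ((αC.app ((P.mapHomologicalComplex c).obj C)).f i) := fun i => hα (C.X i)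
    haveI := HomologicalComplex.Hom.isIso_of_components (αC.app ((P.mapHomologicalComplex c).obj C))
    rw [Localization.liftNatTrans_app]
    simp only [NatTrans.comp_app, Functor.whiskerRight_app, Functor.leftUnitor_inv_app]
    infer_instance
  · haveI : ∀ i, IsIso ((βC.app ((P.mapHomologicalComplex c).obj C)).f i) := fun i => hβ (C.X i)
    haveI := HomologicalComplex.Hom.isIso_of_components (βC.app ((P.mapHomologicalComplex c).obj C))
    rw [Localization.liftNatTrans_app]
    simp only [NatTrans.comp_app, Functor.whiskerRight_app, Functor.associator_inv_app]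
    infer_instance

end Groth.Agent.FibDescLib
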