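import Groth.Agent.FibDescLib.DerivedUnit
import Groth.Agent.FibDescLib.Derived

/-!
# Full faithfulness on bounded below derived categories: composition
-/

set_option autoImplicit false
set_option backward.isDefEq.respectTransparency false
set_option backward.isDefEq.respectTransparency.types false
set_option linter.style.haveILetI false

universe v v' v'' u u' u''

noncomputable section

open CategoryTheory CategoryTheory.Limits

attribute [local instance] HasDerivedCategory.standard

namespace Groth.Agent.FibDescLib

variable {A : Type u} [Category.{v} A] [Abelian A] {B : Type u'} [Category.{v'} B] [Abelian B]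
  {C : Type u''} [Category.{v''} C] [Abelian C]

/-- The derived functor of an exact functor is fully faithful on bounded below objects. -/
def FFPlus (F : A ⥤ B) [F.Additive] [PreservesFiniteLimits F] [PreservesFiniteColimits F] : Prop :=
  ∀ K L : DerivedCategory.Plus A, Function.Bijective fun g : K.obj ⟶ L.obj => F.mapDerivedCategory.map g

section

variable (F : A ⥤ B) [F.Additive] [PreservesFiniteLimits F] [PreservesFiniteColimits F]
  (G : B ⥤ C) [G.Additive] [PreservesFiniteLimits G] [PreservesFiniteColimits G]
  [PreservesFiniteLimits (F ⋙ G)] [PreservesFiniteColimits (F ⋙ G)]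

/-- The derived functor of a composition. -/
def mapDerivedCompIso : (F ⋙ G).mapDerivedCategory ≅ F.mapDerivedCategory ⋙ G.mapDerivedCategory :=
  let c := ComplexShape.up ℤ
  letI : Localization.Lifting DerivedCategory.Q (HomologicalComplex.quasiIso A c)
      (F.mapHomologicalComplex c ⋙ G.mapHomologicalComplex c ⋙ DerivedCategory.Q)
      (F.mapDerivedCategory ⋙ G.mapDerivedCategory) :=
    ⟨(Functor.associator _ _ _).symm ≪≫ Functor.isoWhiskerRight F.mapDerivedCategoryFactors _ ≪≫
      Functor.associator _ _ _ ≪≫ Functor.isoWhiskerLeft _ G.mapDerivedCategoryFactors⟩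
  letI : Localization.Lifting DerivedCategory.Q (HomologicalComplex.quasiIso A c)
      ((F ⋙ G).mapHomologicalComplex c ⋙ DerivedCategory.Q) (F ⋙ G).mapDerivedCategory :=
    ⟨(F ⋙ G).mapDerivedCategoryFactors⟩
  Localization.liftNatIso DerivedCategory.Q (HomologicalComplex.quasiIso A c)
    ((F ⋙ G).mapHomologicalComplex c ⋙ DerivedCategory.Q)
    (F.mapHomologicalComplex c ⋙ G.mapHomologicalComplex c ⋙ DerivedCategory.Q) _ _
    (Functor.isoWhiskerRight (NatIso.ofComponents
      (fun K => HomologicalComplex.Hom.isoOfComponents (fun i => Iso.refl _) (fun i j _ => by simp))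
      (fun φ => HomologicalComplex.hom_ext _ _ fun i => by simp) :
      (F ⋙ G).mapHomologicalComplex c ≅ F.mapHomologicalComplex c ⋙ G.mapHomologicalComplex c) DerivedCategory.Q ≪≫
      Functor.associator _ _ _)

theorem bijective_map_congr {T : Type*} [Category T] {U : Type*} [Category U] {P Q : T ⥤ U} (e : P ≅ Q)
    (K L : T) : (Function.Bijective fun g : K ⟶ L => P.map g) ↔ Function.Bijective fun g : K ⟶ L => Q.map g := by
  rw [← Function.Bijective.of_comp_iff' ((e.app K).homCongr (e.app L)).bijective (fun g : K ⟶ L => P.map g)]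
  refine iff_of_eq (congrArg _ (funext fun g => ?_))
  simp [Iso.homCongr]

theorem exists_plus_mapDerived (K : DerivedCategory.Plus A) :
    ∃ K' : DerivedCategory.Plus B, Nonempty (F.mapDerivedCategory.obj K.obj ≅ K'.obj) := by
  obtain ⟨n, hn⟩ := K.property
  haveI : K.obj.IsGE n := hn
  obtain ⟨Kc, _, ⟨e⟩⟩ := DerivedCategory.exists_iso_Q_obj_of_isGE K.obj n
  haveI : CochainComplex.IsStrictlyGE ((F.mapHomologicalComplex (ComplexShape.up ℤ)).obj Kc) n := inferInstance
  exact ⟨⟨DerivedCategory.Q.obj ((F.mapHomologicalComplex (ComplexShape.up ℤ)).obj Kc), n, inferInstance⟩,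
    ⟨F.mapDerivedCategory.mapIso e ≪≫ F.mapDerivedCategoryFactors.app Kc⟩⟩

variable {F G}

theorem bijective_map_comp_iff (hG : FFPlus G) (K L : DerivedCategory.Plus A) :
    (Function.Bijective fun g : K.obj ⟶ L.obj => (F ⋙ G).mapDerivedCategory.map g) ↔
      Function.Bijective fun g : K.obj ⟶ L.obj => F.mapDerivedCategory.map g := by
  obtain ⟨K', ⟨eK⟩⟩ := exists_plus_mapDerived F K
  obtain ⟨L', ⟨eL⟩⟩ := exists_plus_mapDerived F L
  rw [bijective_map_congr (mapDerivedCompIso F G)]
  have hb : Function.Bijective fun t : F.mapDerivedCategory.obj K.obj ⟶ F.mapDerivedCategory.obj L.obj =>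
      G.mapDerivedCategory.map t := by
    refine (Function.Bijective.of_comp_iff'
      ((G.mapDerivedCategory.mapIso eK).homCongr (G.mapDerivedCategory.mapIso eL)).bijective _).1 ?_
    have hfun : ((G.mapDerivedCategory.mapIso eK).homCongr (G.mapDerivedCategory.mapIso eL)) ∘
        (fun t : F.mapDerivedCategory.obj K.obj ⟶ F.mapDerivedCategory.obj L.obj => G.mapDerivedCategory.map t) =
        (fun t : K'.obj ⟶ L'.obj => G.mapDerivedCategory.map t) ∘ (eK.homCongr eL) :=
      funext fun t => by simp [Iso.homCongr]
    rw [hfun]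
    exact (hG K' L').comp (eK.homCongr eL).bijective
  exact Function.Bijective.of_comp_iff' hb (fun g : K.obj ⟶ L.obj => F.mapDerivedCategory.map g)

theorem FFPlus.comp (hF : FFPlus F) (hG : FFPlus G) [(F ⋙ G).Additive] : FFPlus (F ⋙ G) :=
  fun K L => (bijective_map_comp_iff hG K L).2 (hF K L)

theorem FFPlus.of_comp (hG : FFPlus G) [(F ⋙ G).Additive] (h : FFPlus (F ⋙ G)) : FFPlus F :=
  fun K L => (bijective_map_comp_iff hG K L).1 (h K L)

end

theorem FFPlus.of_iso {F F' : A ⥤ B} [F.Additive] [PreservesFiniteLimits F] [PreservesFiniteColimits F]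
    [F'.Additive] [PreservesFiniteLimits F'] [PreservesFiniteColimits F'] (e : F ≅ F') (h : FFPlus F) :
    FFPlus F' := fun K L => by
  let c := ComplexShape.up ℤ
  letI : Localization.Lifting DerivedCategory.Q (HomologicalComplex.quasiIso A c)
      (F.mapHomologicalComplex c ⋙ DerivedCategory.Q) F.mapDerivedCategory := ⟨F.mapDerivedCategoryFactors⟩
  letI : Localization.Lifting DerivedCategory.Q (HomologicalComplex.quasiIso A c)
      (F'.mapHomologicalComplex c ⋙ DerivedCategory.Q) F'.mapDerivedCategory := ⟨F'.mapDerivedCategoryFactors⟩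
  exact (bijective_map_congr (Localization.liftNatIso DerivedCategory.Q (HomologicalComplex.quasiIso A c)
    (F.mapHomologicalComplex c ⋙ DerivedCategory.Q) (F'.mapHomologicalComplex c ⋙ DerivedCategory.Q) _ _
    (Functor.isoWhiskerRight (NatIso.mapHomologicalComplex e c) DerivedCategory.Q)) K.obj L.obj).1 (h K L)

theorem ffPlus_of_equivalence (F : A ⥤ B) [F.Additive] [PreservesFiniteLimits F] [PreservesFiniteColimits F]
    [F.IsEquivalence] : FFPlus F := fun K L => by
  haveI : F.inv.Additive := Functor.additive_of_preserves_binary_products _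
  haveI : PreservesFiniteLimits F.inv := inferInstance
  haveI : PreservesFiniteColimits F.inv := inferInstance
  let e := F.asEquivalence
  exact bijective_mapDerived_of_retraction F F.inv (𝟭 B) (𝟙 _) e.counitIso.hom e.unitIso.symm
    (fun H => inferInstance) (fun H => inferInstance) K.obj L.obj

end Groth.Agent.FibDescLib
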