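import Groth.Agent.FibDescLib.Descent

/-!
# The extra degeneracy of the Cech nerve of a map with a section
-/

set_option autoImplicit false
set_option backward.isDefEq.respectTransparency false
set_option backward.isDefEq.respectTransparency.types false

universe u

noncomputable section

open CategoryTheory CategoryTheory.Limits Opposite TopologicalSpace

namespace Groth.Agent.FibDescLib

variable {X S : TopCat.{u}} (f : X ⟶ S) (s : S ⟶ X) (h : s ≫ f = 𝟙 S)

/-- The levels of the Cech nerve. -/
abbrev cechLevel (n : ℕ) : TopCat.{u} := widePullback.{0} S (fun _ : Fin (n + 1) => X) fun _ => f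

/-- The section on the base level. -/
def cechExtraStar : S ⟶ cechLevel f 0 :=
  WidePullback.lift (𝟙 S) (fun _ => s) fun _ => h

/-- The extra degeneracy on a level. -/
def cechExtraOf (n : ℕ) : cechLevel f n ⟶ cechLevel f (n + 1) :=
  WidePullback.lift (WidePullback.base _)
    (Fin.cases (WidePullback.base _ ≫ s) (WidePullback.π (fun _ : Fin (n + 1) => f))) fun j => by
    induction j using Fin.cases with
    | zero => rw [Fin.cases_zero, Category.assoc, h, Category.comp_id]
    | succ j => rw [Fin.cases_succ]; exact WidePullback.π_arrow _ _

/-- The extra degeneracy, as a family. -/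
def cechExtraApp : ∀ R : Idx, (FibDesc.cechAug f).obj R ⟶ (dec (FibDesc.cechAug f)).obj R
  | op (.star) => cechExtraStar f s h
  | op (.of a) => cechExtraOf f s h a.len

/-- The extra degeneracy of the Cech nerve of a map with a section. -/
def cechExtra : FibDesc.cechAug f ⟶ dec (FibDesc.cechAug f) where
  app := cechExtraApp f s h
  naturality := by
    rintro ⟨b⟩ ⟨a⟩ ⟨g⟩
    cases a with
    | star =>
      cases b with
      | star =>
        show 𝟙 S ≫ cechExtraStar f s h = cechExtraStar f s h ≫
          WidePullback.lift (WidePullback.base _) (fun i => WidePullback.π _ i) _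
        apply WidePullback.hom_ext
        · intro j
          simp [cechExtraStar]
        · simp [cechExtraStar]
      | of b =>
        show WidePullback.base (fun _ : Fin (b.len + 1) => f) ≫ cechExtraStar f s h = cechExtraOf f s h b.len ≫
          WidePullback.lift (WidePullback.base _) (fun i => WidePullback.π _ (0 : Fin (b.len + 2))) _
        apply WidePullback.hom_ext
        · intro j
          simp [cechExtraStar, cechExtraOf]
        · simp [cechExtraStar, cechExtraOf]
    | of a =>
      cases b with
      | star => exact (g : PEmpty).elim
      | of b =>
        show WidePullback.lift (WidePullback.base _)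
            (fun i => WidePullback.π _ ((WithInitial.down g).toOrderHom i)) _ ≫ cechExtraOf f s h a.len =
          cechExtraOf f s h b.len ≫
            WidePullback.lift (WidePullback.base _)
              (fun i => WidePullback.π _ ((shMap (WithInitial.down g)).toOrderHom i)) _
        apply WidePullback.hom_ext
        · intro j
          simp only [cechExtraOf, Category.assoc, WidePullback.lift_π]
          induction j using Fin.cases with
          | zero => simp [shMap]
          | succ j => simp [shMap]
        · simp [cechExtraOf]

theorem cechExtra_decProj : cechExtra f s h ≫ decProj (FibDesc.cechAug f) = 𝟙 (FibDesc.cechAug f) := by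
  refine NatTrans.ext (funext fun R => ?_)
  obtain ⟨a⟩ := R
  cases a with
  | star =>
    show cechExtraStar f s h ≫ WidePullback.base (fun _ : Fin 1 => f) = 𝟙 S
    simp [cechExtraStar]
  | of a =>
    show cechExtraOf f s h a.len ≫ WidePullback.lift (WidePullback.base _)
      (fun i => WidePullback.π _ ((SimplexCategory.δ (n := a.len) 0).toOrderHom i)) _ = 𝟙 (cechLevel f a.len)
    apply WidePullback.hom_ext
    · intro j
      have e : (SimplexCategory.δ (n := a.len) 0).toOrderHom j = j.succ := by
        simp [SimplexCategory.δ, SimplexCategory.mkHom]
      simp only [cechExtraOf, Category.assoc, WidePullback.lift_π, Category.id_comp]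
      rw [e, Fin.cases_succ]
    · simp [cechExtraOf]

/-- A map with a section is of cohomological descent. -/
theorem isCohDescentMap_of_section (s : S ⟶ X) (h : s ≫ f = 𝟙 S) : FibDesc.IsCohDescentMap f :=
  isCohDescentTop_of_extra (cechExtra f s h) (cechExtra_decProj f s h)

end Groth.Agent.FibDescLib
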