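import Groth.Agent.FibDescLib.LocalDescent
import Groth.Agent.FibDescLib.CechSection
import Mathlib.CategoryTheory.Limits.Shapes.Pullback.IsPullback.Basic

/-!
# The Cech nerve over an open of the base
-/

set_option autoImplicit false
set_option backward.isDefEq.respectTransparency false
set_option backward.isDefEq.respectTransparency.types false

universe u

noncomputable section

open CategoryTheory CategoryTheory.Limits Opposite TopologicalSpace Topology

namespace Groth.Agent.FibDescLib

variable {X S V : TopCat.{u}} (f : X ⟶ S) (v : V ⟶ S)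

/-- The map of levels of a base change. -/
def baseLevel (n : ℕ) : cechLevel (pullback.snd f v) n ⟶ cechLevel f n :=
  WidePullback.lift (WidePullback.base _ ≫ v) (fun i => WidePullback.π _ i ≫ pullback.fst f v) fun i => by
    rw [Category.assoc, pullback.condition, ← Category.assoc, WidePullback.π_arrow]

theorem isPullback_baseLevel (n : ℕ) :
    IsPullback (baseLevel f v n) (WidePullback.base _) (WidePullback.base fun _ : Fin (n + 1) => f) v := by
  have w : baseLevel f v n ≫ WidePullback.base (fun _ : Fin (n + 1) => f) = WidePullback.base _ ≫ v :=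
    WidePullback.lift_base _ _ _ _
  refine ⟨⟨w⟩, ⟨PullbackCone.IsLimit.mk w (fun c => WidePullback.lift c.snd
    (fun i => pullback.lift (c.fst ≫ WidePullback.π _ i) c.snd (by
      rw [Category.assoc, WidePullback.π_arrow, c.condition])) fun i => pullback.lift_snd _ _ _)
    (fun c => ?_) (fun c => WidePullback.lift_base _ _ _ _) fun c m h₁ h₂ => ?_⟩⟩
  · apply WidePullback.hom_ext
    · intro i
      simp [baseLevel]
    · simp [baseLevel, c.condition]
  · apply WidePullback.hom_ext
    · intro i
      rw [WidePullback.lift_π]
      apply pullback.hom_ext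
      · rw [pullback.lift_fst, ← h₁]
        simp [baseLevel]
      · rw [pullback.lift_snd, Category.assoc, WidePullback.π_arrow, h₂]
    · rw [WidePullback.lift_base, h₂]

/-- The map of Cech nerves of a base change. -/
def cechBase : FibDesc.cechAug (pullback.snd f v) ⟶ FibDesc.cechAug f :=
  AugmentedSimplexCategory.equivAugmentedSimplicialObject.inverse.map
    (Arrow.mapAugmentedCechNerve (f := Arrow.mk (pullback.snd f v)) (g := Arrow.mk f)
      (Arrow.homMk (pullback.fst f v) v pullback.condition))

theorem isRestriction_cechBase (hv : IsOpenEmbedding v) : IsRestriction (cechBase f v) where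
  isOpenEmbedding R := by
    obtain ⟨a⟩ := R
    cases a with
    | star => exact hv
    | of a =>
      show IsOpenEmbedding (baseLevel f v a.len)
      rw [← (isPullback_baseLevel f v a.len).isoPullback_hom_fst]
      exact (TopCat.fst_isOpenEmbedding_of_right _ hv).comp
        (TopCat.homeoOfIso (isPullback_baseLevel f v a.len).isoPullback).isOpenEmbedding
  mem_range R x hx := by
    obtain ⟨a⟩ := R
    cases a with
    | star =>
      obtain ⟨y, hy⟩ := hx
      refine ⟨y, hy.trans ?_⟩
      show (FibDesc.cechAug f).map (𝟙 _) x = x
      rw [(FibDesc.cechAug f).map_id]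
      rfl
    | of a =>
      obtain ⟨y, hy⟩ := hx
      have hy' : v y = WidePullback.base (fun _ : Fin (a.len + 1) => f) x := hy
      let P : TopCat.{u} := TopCat.of PUnit.{u + 1}
      let a₁ : P ⟶ cechLevel f a.len := TopCat.ofHom ⟨fun _ => x, continuous_const⟩
      let a₂ : P ⟶ V := TopCat.ofHom ⟨fun _ => y, continuous_const⟩
      have w : a₁ ≫ WidePullback.base _ = a₂ ≫ v := TopCat.hom_ext (ContinuousMap.ext fun _ => hy'.symm)
      refine ⟨(isPullback_baseLevel f v a.len).lift a₁ a₂ w PUnit.unit, ?_⟩
      exact ConcreteCategory.congr_hom ((isPullback_baseLevel f v a.len).lift_fst a₁ a₂ w) PUnit.unit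

/-- Cohomological descent is local on the base. -/
theorem isCohDescentMap_of_local {ι : Type*} {V : ι → TopCat.{u}} (v : ∀ i, V i ⟶ S)
    (hv : ∀ i, IsOpenEmbedding (v i)) (hcov : ∀ s : S, ∃ i, s ∈ Set.range (v i))
    (hd : ∀ i, FibDesc.IsCohDescentMap (pullback.snd f (v i))) : FibDesc.IsCohDescentMap f :=
  isCohDescentTop_of_local (g := fun i => cechBase f (v i)) (fun i => isRestriction_cechBase f (v i) (hv i))
    hcov hd

end Groth.Agent.FibDescLib
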