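import Groth.Agent.FibDescLib.GridPoint

/-!
# Doubly augmented simplicial spaces
-/

set_option autoImplicit false
set_option backward.isDefEq.respectTransparency false
set_option backward.isDefEq.respectTransparency.types false
set_option linter.style.haveILetI false

universe u

noncomputable section

open CategoryTheory CategoryTheory.Limits Opposite TopologicalSpace Pseudofunctor.CoGrothendieck

attribute [local instance] HasDerivedCategory.standard

namespace Groth.Agent.FibDescLib

variable (Z : Idx × Idx ⥤ TopCat.{u})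

/-- A row. -/
abbrev rowFam (a : Idx) : Idx ⥤ TopCat.{u} := Prod.sectR a Idx ⋙ Z

/-- A column. -/
abbrev colFam (b : Idx) : Idx ⥤ TopCat.{u} := Prod.sectL Idx b ⋙ Z

/-- The diagram with the second augmentation only. -/
abbrev halfFam : SimplexCategoryᵒᵖ × Idx ⥤ TopCat.{u} := augIdx.prod (𝟭 Idx) ⋙ Z

/-- The base leg of the second augmentation. -/
abbrev halfBase : FamMap (augIdx ⋙ colFam Z (FibDesc.bot SimplexCategory)) (halfFam Z) :=
  ⟨Prod.sectL SimplexCategoryᵒᵖ (FibDesc.bot SimplexCategory), NatIso.ofComponents (fun _ => Iso.refl _) (by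
    intro a b f
    simp [halfFam, colFam, Prod.sectL])⟩

/-- The part leg of the second augmentation. -/
abbrev halfPart : FamMap (augIdx.prod augIdx ⋙ Z) (halfFam Z) :=
  ⟨(𝟭 SimplexCategoryᵒᵖ).prod augIdx, NatIso.ofComponents (fun _ => Iso.refl _) (by
    intro a b f
    simp [halfFam])⟩

/-- The base leg of both augmentations. -/
abbrev totBase : FamMap (baseFam (colFam Z (FibDesc.bot SimplexCategory))) Z :=
  ⟨Functor.fromPUnit (FibDesc.bot SimplexCategory, FibDesc.bot SimplexCategory),
    NatIso.ofComponents (fun _ => Iso.refl _) (by intro a b f; simp [colFam, Prod.sectL])⟩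

/-- The part leg of both augmentations. -/
abbrev totPartMap : FamMap (augIdx.prod augIdx ⋙ Z) Z := FamMap.ofIdx _

instance hasInitial_halfBase (a : SimplexCategoryᵒᵖ × Idx) :
    HasInitial (StructuredArrow a (halfBase Z).idx) :=
  (IsInitial.ofUniqueHom (X := StructuredArrow.mk (Y := a.1) (f := ((𝟙 a.1, toBot a.2) :
      a ⟶ (a.1, FibDesc.bot SimplexCategory))))
    (fun j => StructuredArrow.homMk (show a ⟶ (j.right, FibDesc.bot SimplexCategory) from j.hom).1
      (Prod.ext (Category.id_comp _) (hom_bot_ext _ _)))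
    (fun j f => StructuredArrow.ext _ _ (by
      have e : 𝟙 a.1 ≫ f.right = (show a ⟶ (j.right, FibDesc.bot SimplexCategory) from j.hom).1 :=
        congrArg Prod.fst (StructuredArrow.w f)
      exact (Category.id_comp _).symm.trans e))).hasInitial

instance representablyFlat_halfBase : RepresentablyFlat (halfBase Z).re :=
  representablyFlat_re (halfBase Z) (fun a => hasInitial_halfBase Z a)

instance hasInitial_totBase (a : Idx × Idx) : HasInitial (StructuredArrow a (totBase Z).idx) :=
  (IsInitial.ofUniqueHom (X := StructuredArrow.mk (Y := (⟨PUnit.unit⟩ : Pt)) (f := ((toBot a.1, toBot a.2) :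
      a ⟶ (FibDesc.bot SimplexCategory, FibDesc.bot SimplexCategory))))
    (fun j => StructuredArrow.homMk (𝟙 _) (Prod.ext (hom_bot_ext _ _) (hom_bot_ext _ _)))
    (fun j f => StructuredArrow.ext _ _ (Subsingleton.elim _ _))).hasInitial

instance representablyFlat_totBase : RepresentablyFlat (totBase Z).re :=
  representablyFlat_re (totBase Z) (fun a => hasInitial_totBase Z a)

/-- The restriction to one row. -/
abbrev rowMap (m : SimplexCategoryᵒᵖ) : FamMap (rowFam Z (augIdx.obj m)) (halfFam Z) :=
  ⟨Prod.sectR m Idx, NatIso.ofComponents (fun _ => Iso.refl _) (by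
    intro a b f
    simp [halfFam, rowFam, Prod.sectR])⟩

/-- The restriction of the base to one row. -/
abbrev rowBase (m : SimplexCategoryᵒᵖ) :
    FamMap (baseFam (rowFam Z (augIdx.obj m))) (augIdx ⋙ colFam Z (FibDesc.bot SimplexCategory)) :=
  ⟨Functor.fromPUnit m, NatIso.ofComponents (fun _ => Iso.refl _) (by
    intro a b f
    simp [rowFam, colFam, Prod.sectR, Prod.sectL])⟩

/-- The restriction of the part to one row. -/
abbrev rowPart (m : SimplexCategoryᵒᵖ) :
    FamMap (augIdx ⋙ rowFam Z (augIdx.obj m)) (augIdx.prod augIdx ⋙ Z) :=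
  ⟨Prod.sectR m SimplexCategoryᵒᵖ, NatIso.ofComponents (fun _ => Iso.refl _) (by
    intro a b f
    simp [rowFam, Prod.sectR])⟩

/-- The square of bases of a row. -/
def rowSquareE (m : SimplexCategoryᵒᵖ) :
    FamSquare (baseMap (rowFam Z (augIdx.obj m))) (rowBase Z m) (rowMap Z m) (halfBase Z) where
  w := NatIso.ofComponents (fun _ => Iso.refl _) (fun _ => by simp [Prod.sectR, Prod.sectL])
  compat a := by simp [Prod.sectR, Prod.sectL]

/-- The square of parts of a row. -/
def rowSquareP (m : SimplexCategoryᵒᵖ) :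
    FamSquare (rowPart Z m) (partMap (rowFam Z (augIdx.obj m))) (halfPart Z) (rowMap Z m) where
  w := NatIso.ofComponents (fun _ => Iso.refl _) (fun _ => by simp [Prod.sectR])
  compat a := by simp [Prod.sectR]

theorem guitartExact_rowSquareE (m : SimplexCategoryᵒᵖ) : (rowSquareE Z m).idxSquare.GuitartExact := by
  rw [TwoSquare.guitartExact_iff_isConnected_downwards]
  intro X₂ X₃ g
  haveI : Nonempty ((rowSquareE Z m).idxSquare.CostructuredArrowDownwards g) :=
    ⟨TwoSquare.CostructuredArrowDownwards.mk _ g (⟨PUnit.unit⟩ : Pt) (toBot X₂) g.1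
      (Prod.ext ((Category.id_comp _).trans (Category.id_comp _)) (hom_bot_ext _ _))⟩
  refine zigzag_isConnected fun d d' => ?_
  obtain ⟨X₁, a, b, comm, rfl⟩ := TwoSquare.CostructuredArrowDownwards.mk_surjective d
  obtain ⟨X₁', a', b', comm', rfl⟩ := TwoSquare.CostructuredArrowDownwards.mk_surjective d'
  obtain rfl : X₁ = X₁' := Subsingleton.elim _ _
  obtain rfl : a = a' := hom_bot_ext _ _
  obtain rfl : b = b' := by
    have h : 𝟙 m ≫ 𝟙 m ≫ b = 𝟙 m ≫ 𝟙 m ≫ b' := congrArg Prod.fst (comm.trans comm'.symm)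
    simpa using h
  rfl

theorem guitartExact_rowSquareP (m : SimplexCategoryᵒᵖ) : (rowSquareP Z m).idxSquare.GuitartExact := by
  rw [TwoSquare.guitartExact_iff_isConnected_downwards]
  intro X₂ X₃ g
  let d₀ : (rowSquareP Z m).idxSquare.CostructuredArrowDownwards g :=
    TwoSquare.CostructuredArrowDownwards.mk _ g X₂.2 ((g.1, 𝟙 X₂.2) : X₂ ⟶ (m, X₂.2)) g.2
      (Prod.ext ((congrArg (g.1 ≫ ·) (Category.id_comp (𝟙 m))).trans (Category.comp_id g.1))
        (show augIdx.map (𝟙 X₂.2) ≫ 𝟙 _ ≫ g.2 = g.2 by simp))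
  haveI : Nonempty ((rowSquareP Z m).idxSquare.CostructuredArrowDownwards g) := ⟨d₀⟩
  have key : ∀ d, Zigzag d₀ d := fun d => by
    obtain ⟨X₁, a, b, comm, rfl⟩ := TwoSquare.CostructuredArrowDownwards.mk_surjective d
    have c1 : a.1 = g.1 := by
      have h : a.1 ≫ 𝟙 m ≫ 𝟙 m = g.1 := congrArg Prod.fst comm
      exact ((congrArg (a.1 ≫ ·) (Category.comp_id (𝟙 m))).trans (Category.comp_id a.1)).symm.trans h
    have c2 : augIdx.map a.2 ≫ b = g.2 := by
      have h : augIdx.map a.2 ≫ 𝟙 (augIdx.obj X₁) ≫ b = g.2 := congrArg Prod.snd comm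
      exact (congrArg (augIdx.map a.2 ≫ ·) (Category.id_comp b)).symm.trans h
    refine Zigzag.of_hom (CostructuredArrow.homMk (StructuredArrow.homMk a.2 ?_) ?_)
    · exact Prod.ext ((Category.comp_id g.1).trans c1.symm) (Category.id_comp a.2)
    · exact StructuredArrow.ext _ _ c2
  refine zigzag_isConnected fun d d' => ?_
  exact (key d).symm.trans (key d')

theorem hasComponentwiseInitial_rowPart (m : SimplexCategoryᵒᵖ) :
    HasComponentwiseInitial (rowPart Z m).idx := fun a => by
  refine ⟨a.1 ⟶ m, fun k => StructuredArrow.mk (Y := a.2) (f := ((k, 𝟙 a.2) : a ⟶ (m, a.2))), fun j => ?_⟩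
  let k₀ : a.1 ⟶ m := j.hom.1
  refine ⟨⟨k₀, StructuredArrow.homMk j.hom.2 (Prod.ext (Category.comp_id _) (Category.id_comp _))⟩, trivial, ?_⟩
  rintro ⟨k, f⟩ -
  have hw : ((k, 𝟙 a.2) : a ⟶ (m, a.2)) ≫ (rowPart Z m).idx.map f.right = j.hom := StructuredArrow.w f
  obtain rfl : k = k₀ := by
    have h := congrArg Prod.fst hw
    simpa [Prod.sectR] using h
  refine Sigma.ext rfl (heq_of_eq (StructuredArrow.ext _ _ ?_))
  have h := congrArg Prod.snd hw
  simpa [Prod.sectR] using h

/-- A row as a level. -/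
def rowLevel (m : SimplexCategoryᵒᵖ) (h : FibDesc.IsCohDescentTop (rowFam Z (augIdx.obj m))) :
    LegLevel (halfBase Z) (halfPart Z) where
  SB' := Pt
  SP' := SimplexCategoryᵒᵖ
  SH' := Idx
  B' := baseFam (rowFam Z (augIdx.obj m))
  P' := augIdx ⋙ rowFam Z (augIdx.obj m)
  H' := rowFam Z (augIdx.obj m)
  e' := baseMap _
  p' := partMap _
  b := rowBase Z m
  q := rowPart Z m
  h := rowMap Z m
  sE := rowSquareE Z m
  sP := rowSquareP Z m
  hE := guitartExact_rowSquareE Z m
  hP := guitartExact_rowSquareP Z m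
  hq := hasComponentwiseInitial_rowPart Z m
  flat := representablyFlat_baseMap _
  ff := ffPlus_leg_of_isCohDescentTop _ h

theorem ffPlus_half (h : ∀ m : SimplexCategoryᵒᵖ, FibDesc.IsCohDescentTop (rowFam Z (augIdx.obj m))) :
    FFPlus (legPull (halfBase Z) (halfPart Z)) :=
  ffPlus_of_levels (fun m => rowLevel Z m (h m)) fun a => ⟨a, (⟨PUnit.unit⟩ : Pt), ⟨Iso.refl _⟩⟩

/-- The inclusion of the first augmentation. -/
abbrev colMap : FamMap (colFam Z (FibDesc.bot SimplexCategory)) Z := FamMap.ofIdx _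

/-- The inclusion of the second augmentation. -/
abbrev halfMap : FamMap (halfFam Z) Z := FamMap.ofIdx _

/-- The square comparing the two augmentations. -/
def compSquare :
    FamSquare (halfBase Z) (partMap (colFam Z (FibDesc.bot SimplexCategory))) (halfMap Z) (colMap Z) where
  w := NatIso.ofComponents (fun _ => Iso.refl _) (fun _ => by simp [Prod.sectL])
  compat a := by simp [Prod.sectL]

theorem guitartExact_compSquare : (compSquare Z).idxSquare.GuitartExact := by
  rw [TwoSquare.guitartExact_iff_isConnected_downwards]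
  intro X₂ X₃ g
  let d₀ : (compSquare Z).idxSquare.CostructuredArrowDownwards g :=
    TwoSquare.CostructuredArrowDownwards.mk _ g X₂.1 ((𝟙 X₂.1, toBot X₂.2) : X₂ ⟶ (X₂.1, FibDesc.bot SimplexCategory))
      g.1 (Prod.ext (show augIdx.map (𝟙 X₂.1) ≫ 𝟙 _ ≫ g.1 = g.1 by simp) (hom_bot_ext _ _))
  haveI : Nonempty ((compSquare Z).idxSquare.CostructuredArrowDownwards g) := ⟨d₀⟩
  have key : ∀ d, Zigzag d₀ d := fun d => by
    obtain ⟨X₁, a, b, comm, rfl⟩ := TwoSquare.CostructuredArrowDownwards.mk_surjective d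
    have c1 : augIdx.map a.1 ≫ b = g.1 := by
      have h : augIdx.map a.1 ≫ 𝟙 (augIdx.obj X₁) ≫ b = g.1 := congrArg Prod.fst comm
      exact (congrArg (augIdx.map a.1 ≫ ·) (Category.id_comp b)).symm.trans h
    refine Zigzag.of_hom (CostructuredArrow.homMk (StructuredArrow.homMk a.1 ?_) ?_)
    · exact Prod.ext (Category.id_comp a.1) (hom_bot_ext _ _)
    · exact StructuredArrow.ext _ _ c1
  refine zigzag_isConnected fun d d' => ?_
  exact (key d).symm.trans (key d')

/-- The base of the first augmentation inside both. -/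
def baseCompIso :
    (baseMap (colFam Z (FibDesc.bot SimplexCategory))).ext ⋙ (colMap Z).ext ≅
      (totBase Z).ext :=
  FamMap.extCompIso _ _ _ (NatIso.ofComponents (fun _ => Iso.refl _) (fun _ => by simp [Prod.sectL]))
    (fun a => by simp [Prod.sectL])

/-- The parts inside both. -/
def partCompIso : (halfMap Z).res ⋙ (halfPart Z).res ≅ (totPartMap Z).res :=
  FamMap.resCompIso _ _ _ (NatIso.ofComponents (fun _ => Iso.refl _) (fun _ => by simp))
    (fun a => by simp)

/-- The two augmentations compose. -/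
def legCompIso :
    legPull (baseMap (colFam Z (FibDesc.bot SimplexCategory))) (partMap (colFam Z (FibDesc.bot SimplexCategory))) ⋙
      legPull (halfBase Z) (halfPart Z) ≅ legPull (totBase Z) (totPartMap Z) :=
  haveI := (compSquare Z).isIso_extBC (guitartExact_compSquare Z)
  Functor.associator _ _ _ ≪≫
    Functor.isoWhiskerLeft (baseMap (colFam Z (FibDesc.bot SimplexCategory))).ext
      ((Functor.associator _ _ _).symm ≪≫ Functor.isoWhiskerRight (asIso (compSquare Z).extBC) _ ≪≫
        Functor.associator _ _ _ ≪≫ Functor.isoWhiskerLeft _ (partCompIso Z)) ≪≫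
    (Functor.associator _ _ _).symm ≪≫ Functor.isoWhiskerRight (baseCompIso Z) _

instance preservesFiniteLimits_legPull_tot :
    PreservesFiniteLimits (legPull (totBase Z) (totPartMap Z)) := preservesFiniteLimits_legPull _ _

instance preservesFiniteColimits_legPull_tot :
    PreservesFiniteColimits (legPull (totBase Z) (totPartMap Z)) := preservesFiniteColimits_legPull _ _

instance additive_legPull_tot : (legPull (totBase Z) (totPartMap Z)).Additive := additive_legPull _ _

theorem ffPlus_iff_of_compIso {A : Type*} [Category A] [Abelian A] {B : Type*} [Category B] [Abelian B]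
    {C : Type*} [Category C] [Abelian C] {F : A ⥤ B} {G : B ⥤ C} {H : A ⥤ C} [F.Additive] [G.Additive] [H.Additive]
    [PreservesFiniteLimits F] [PreservesFiniteColimits F] [PreservesFiniteLimits G] [PreservesFiniteColimits G]
    [PreservesFiniteLimits H] [PreservesFiniteColimits H] (e : F ⋙ G ≅ H) (hG : FFPlus G) :
    FFPlus H ↔ FFPlus F := by
  haveI : PreservesFiniteLimits (F ⋙ G) := comp_preservesFiniteLimits _ _
  haveI : PreservesFiniteColimits (F ⋙ G) := comp_preservesFiniteColimits _ _
  exact ⟨fun hH => FFPlus.of_comp hG (FFPlus.of_iso e.symm hH), fun hF => FFPlus.of_iso e (FFPlus.comp hF hG)⟩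

theorem ffPlus_tot_iff (h : ∀ m : SimplexCategoryᵒᵖ, FibDesc.IsCohDescentTop (rowFam Z (augIdx.obj m))) :
    FFPlus (legPull (totBase Z) (totPartMap Z)) ↔
      FibDesc.IsCohDescentTop (colFam Z (FibDesc.bot SimplexCategory)) :=
  (ffPlus_iff_of_compIso (legCompIso Z) (ffPlus_half Z h)).trans
    ⟨isCohDescentTop_of_ffPlus_leg _, ffPlus_leg_of_isCohDescentTop _⟩

/-- The transposed diagram. -/
abbrev swapFam : Idx × Idx ⥤ TopCat.{u} := CategoryTheory.Prod.swap Idx Idx ⋙ Z

theorem ffPlus_tot_of_swap (h : FFPlus (legPull (totBase (swapFam Z)) (totPartMap (swapFam Z)))) :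
    FFPlus (legPull (totBase Z) (totPartMap Z)) := by
  let sG : FamMap (swapFam Z) Z := FamMap.ofIdx _
  let sG' : FamMap Z (swapFam Z) := ⟨CategoryTheory.Prod.swap Idx Idx, NatIso.ofComponents (fun _ => Iso.refl _) (by
    intro a b f; simp [swapFam])⟩
  let sP : FamMap (augIdx.prod augIdx ⋙ swapFam Z) (augIdx.prod augIdx ⋙ Z) :=
    ⟨CategoryTheory.Prod.swap _ _, NatIso.ofComponents (fun _ => Iso.refl _) (by intro a b f; simp [swapFam])⟩
  let sP' : FamMap (augIdx.prod augIdx ⋙ Z) (augIdx.prod augIdx ⋙ swapFam Z) :=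
    ⟨CategoryTheory.Prod.swap _ _, NatIso.ofComponents (fun _ => Iso.refl _) (by intro a b f; simp [swapFam])⟩
  let sB : FamMap (baseFam (colFam (swapFam Z) (FibDesc.bot SimplexCategory)))
      (baseFam (colFam Z (FibDesc.bot SimplexCategory))) :=
    ⟨𝟭 _, NatIso.ofComponents (fun _ => Iso.refl _) (by intro a b f; simp [swapFam, colFam, Prod.sectL])⟩
  let sB' : FamMap (baseFam (colFam Z (FibDesc.bot SimplexCategory)))
      (baseFam (colFam (swapFam Z) (FibDesc.bot SimplexCategory))) :=
    ⟨𝟭 _, NatIso.ofComponents (fun _ => Iso.refl _) (by intro a b f; simp [swapFam, colFam, Prod.sectL])⟩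
  haveI : sG.res.IsEquivalence := FamMap.isEquivalence_res sG sG'
    (NatIso.ofComponents (fun _ => Iso.refl _) (fun _ => by simp [sG, sG'])) (fun a => by simp [sG, sG'])
    (NatIso.ofComponents (fun _ => Iso.refl _) (fun _ => by simp [sG, sG'])) (fun a => by simp [sG, sG'])
  haveI : sP.res.IsEquivalence := FamMap.isEquivalence_res sP sP'
    (NatIso.ofComponents (fun _ => Iso.refl _) (fun _ => by simp [sP, sP'])) (fun a => by simp [sP, sP'])
    (NatIso.ofComponents (fun _ => Iso.refl _) (fun _ => by simp [sP, sP'])) (fun a => by simp [sP, sP'])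
  haveI : sB.res.IsEquivalence := FamMap.isEquivalence_res sB sB'
    (NatIso.ofComponents (fun _ => Iso.refl _) (fun _ => by simp [sB, sB'])) (fun a => by simp [sB, sB'])
    (NatIso.ofComponents (fun _ => Iso.refl _) (fun _ => by simp [sB, sB'])) (fun a => by simp [sB, sB'])
  have eB : sG.res ⋙ (totBase (swapFam Z)).res ≅ (totBase Z).res ⋙ sB.res :=
    (FamSquare.resIso (mT := sB) (mL := totBase (swapFam Z)) (mR := totBase Z) (mB := sG)
      { w := NatIso.ofComponents (fun _ => Iso.refl _) (fun _ => by simp [sG, sB])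
        compat := fun a => by simp [sG, sB] })
  have eP : sG.res ⋙ (totPartMap (swapFam Z)).res ≅ (totPartMap Z).res ⋙ sP.res :=
    (FamSquare.resIso (mT := sP) (mL := totPartMap (swapFam Z)) (mR := totPartMap Z) (mB := sG)
      { w := NatIso.ofComponents (fun _ => Iso.refl _) (fun _ => by simp [sG, sP])
        compat := fun a => by simp [sG, sP] })
  have eE : sB.res.inv ⋙ (totBase Z).ext ≅ (totBase (swapFam Z)).ext ⋙ sG.res.inv :=
    Adjunction.leftAdjointUniq ((sB.res.asEquivalence.symm.toAdjunction.comp (totBase Z).extAdj).ofNatIsoRight eB.symm)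
      ((totBase (swapFam Z)).extAdj.comp sG.res.asEquivalence.symm.toAdjunction)
  have e : legPull (totBase (swapFam Z)) (totPartMap (swapFam Z)) ≅
      sB.res.inv ⋙ legPull (totBase Z) (totPartMap Z) ⋙ sP.res :=
    Functor.isoWhiskerLeft _ ((Functor.leftUnitor _).symm ≪≫
      Functor.isoWhiskerRight sG.res.asEquivalence.counitIso.symm _ ≪≫ Functor.associator _ _ _ ≪≫
        Functor.isoWhiskerLeft _ eP) ≪≫
    (Functor.associator _ _ _).symm ≪≫ Functor.isoWhiskerRight eE.symm _ ≪≫ Functor.associator _ _ _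
  let P := legPull (totBase Z) (totPartMap Z)
  haveI : sB.res.inv.Additive := Functor.additive_of_preserves_binary_products _
  haveI : PreservesFiniteLimits (P ⋙ sP.res) := comp_preservesFiniteLimits _ _
  haveI : PreservesFiniteColimits (P ⋙ sP.res) := comp_preservesFiniteColimits _ _
  haveI : (P ⋙ sP.res).Additive := Functor.additive_of_preserves_binary_products _
  haveI : PreservesFiniteLimits (sB.res ⋙ legPull (totBase (swapFam Z)) (totPartMap (swapFam Z))) :=
    comp_preservesFiniteLimits _ _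
  haveI : PreservesFiniteColimits (sB.res ⋙ legPull (totBase (swapFam Z)) (totPartMap (swapFam Z))) :=
    comp_preservesFiniteColimits _ _
  haveI : (sB.res ⋙ legPull (totBase (swapFam Z)) (totPartMap (swapFam Z))).Additive :=
    Functor.additive_of_preserves_binary_products _
  have h₁ : FFPlus (P ⋙ sP.res) := FFPlus.of_iso
    (Functor.isoWhiskerLeft sB.res e ≪≫ (Functor.associator _ _ _).symm ≪≫
      Functor.isoWhiskerRight sB.res.asEquivalence.unitIso.symm _ ≪≫ Functor.leftUnitor _)
    (FFPlus.comp (ffPlus_of_equivalence sB.res) h)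
  exact FFPlus.of_comp (ffPlus_of_equivalence sP.res) h₁

/-- Descent along one augmentation of a doubly augmented space from descent along the other and along all
lines. -/
theorem isCohDescentTop_col (h₀ : FibDesc.IsCohDescentTop (rowFam Z (FibDesc.bot SimplexCategory)))
    (hr : ∀ m : SimplexCategoryᵒᵖ, FibDesc.IsCohDescentTop (rowFam Z (augIdx.obj m)))
    (hc : ∀ n : SimplexCategoryᵒᵖ, FibDesc.IsCohDescentTop (colFam Z (augIdx.obj n))) :
    FibDesc.IsCohDescentTop (colFam Z (FibDesc.bot SimplexCategory)) :=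
  (ffPlus_tot_iff Z hr).1 (ffPlus_tot_of_swap Z ((ffPlus_tot_iff (swapFam Z) hc).2 h₀))

end Groth.Agent.FibDescLib
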