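import Groth.Agent.FibDescLib.CechBase
import Groth.Agent.FibDescLib.GridDescent

/-!
# Descent of Cech nerves after a change of base of universal descent
-/

set_option autoImplicit false
set_option backward.isDefEq.respectTransparency false
set_option backward.isDefEq.respectTransparency.types false
set_option linter.style.haveILetI false

universe u

noncomputable section

open CategoryTheory CategoryTheory.Limits Opposite TopologicalSpace Topology

attribute [local instance] HasDerivedCategory.standard

namespace Groth.Agent.FibDescLib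

/-- Descent is invariant under isomorphisms of augmented simplicial spaces. -/
theorem isCohDescentTop_of_natIso {Y Y' : Idx ⥤ TopCat.{u}} (e : Y' ≅ Y) (h : FibDesc.IsCohDescentTop Y') :
    FibDesc.IsCohDescentTop Y := by
  have surj : ∀ (R : Idx) (x : Y.obj R), x ∈ Set.range (e.hom.app R) := fun R x =>
    ⟨e.inv.app R x, ConcreteCategory.congr_hom (e.inv_hom_id_app R) x⟩
  refine isCohDescentTop_of_local (ι := PUnit.{1}) (Z := fun _ => Y') (g := fun _ => e.hom) (fun _ => ?_)
    (fun y => ⟨PUnit.unit, surj _ y⟩) (fun _ => h)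
  exact ⟨fun R => (TopCat.homeoOfIso (e.app R)).isOpenEmbedding, fun R x _ => surj R x⟩

theorem isCohDescentMap_of_arrowIso {X S X' S' : TopCat.{u}} {f : X ⟶ S} {f' : X' ⟶ S'}
    (e : Arrow.mk f' ≅ Arrow.mk f) (h : FibDesc.IsCohDescentMap f') : FibDesc.IsCohDescentMap f :=
  isCohDescentTop_of_natIso
    (AugmentedSimplexCategory.equivAugmentedSimplicialObject.inverse.mapIso
      (SimplicialObject.augmentedCechNerve.mapIso e)) h

/-- The arrow of a pullback square is the chosen pullback. -/
def arrowIsoOfIsPullback {P X T S : TopCat.{u}} {a : P ⟶ X} {b : P ⟶ T} {f : X ⟶ S} {t : T ⟶ S}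
    (h : IsPullback a b f t) : Arrow.mk b ≅ Arrow.mk (pullback.snd f t) :=
  Arrow.isoMk h.isoPullback (Iso.refl T) (by simp)

/-- Base change of a base change. -/
def arrowPasteIso {X S T R : TopCat.{u}} (f : X ⟶ S) (t : T ⟶ S) (r : R ⟶ T) :
    Arrow.mk (pullback.snd (pullback.snd f t) r) ≅ Arrow.mk (pullback.snd f (r ≫ t)) :=
  arrowIsoOfIsPullback ((IsPullback.of_hasPullback (pullback.snd f t) r).paste_horiz (IsPullback.of_hasPullback f t))

theorem isUnivCohDescentMap_baseChange {X S T : TopCat.{u}} {f : X ⟶ S} (h : FibDesc.IsUnivCohDescentMap f)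
    (t : T ⟶ S) : FibDesc.IsUnivCohDescentMap (pullback.snd f t) :=
  fun R r => isCohDescentMap_of_arrowIso (arrowPasteIso f t r).symm (h R (r ≫ t))

theorem isUnivCohDescentMap_of_isPullback {P X T S : TopCat.{u}} {a : P ⟶ X} {b : P ⟶ T} {f : X ⟶ S}
    {t : T ⟶ S} (hf : FibDesc.IsUnivCohDescentMap f) (h : IsPullback a b f t) :
    FibDesc.IsUnivCohDescentMap b := fun R r =>
  isCohDescentMap_of_arrowIso
    (arrowIsoOfIsPullback ((IsPullback.of_hasPullback b r).paste_horiz h)).symm (hf R (r ≫ t))

/-- A map through which a map with a section factors has a section after base change. -/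
theorem isCohDescentMap_snd_of_lift {X S T : TopCat.{u}} (u : X ⟶ S) (w : T ⟶ S) (σ : T ⟶ X) (h : σ ≫ u = w) :
    FibDesc.IsCohDescentMap (pullback.snd u w) :=
  isCohDescentMap_of_section _ (pullback.lift σ (𝟙 T) (by rw [h, Category.id_comp])) (pullback.lift_snd _ _ _)

section Grid

variable {X Y S : TopCat.{u}} (u : X ⟶ S) (v : Y ⟶ S)

/-- The structure map to the base. -/
abbrev toBase (a : Idx) : (FibDesc.cechAug u).obj a ⟶ S :=
  (FibDesc.cechAug u).map (toBot a)

theorem toBase_naturality {a b : Idx} (f : a ⟶ b) : (FibDesc.cechAug u).map f ≫ toBase u b = toBase u a :=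
  ((FibDesc.cechAug u).map_comp f (toBot b)).symm.trans
    (congrArg (FibDesc.cechAug u).map (hom_bot_ext (f ≫ toBot b) (toBot a)))

/-- The doubly augmented space of two maps. -/
def cechGrid : Idx × Idx ⥤ TopCat.{u} where
  obj p := pullback (toBase u p.1) (toBase v p.2)
  map {p q} f := pullback.lift (pullback.fst _ _ ≫ (FibDesc.cechAug u).map f.1)
    (pullback.snd _ _ ≫ (FibDesc.cechAug v).map f.2) (by
      rw [Category.assoc, Category.assoc, toBase_naturality, toBase_naturality, pullback.condition])
  map_id p := by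
    apply pullback.hom_ext
    · simp only [pullback.lift_fst, prod_id_fst, Category.id_comp]
      exact (congrArg (_ ≫ ·) ((FibDesc.cechAug u).map_id p.1)).trans (Category.comp_id _)
    · simp only [pullback.lift_snd, prod_id_snd, Category.id_comp]
      exact (congrArg (_ ≫ ·) ((FibDesc.cechAug v).map_id p.2)).trans (Category.comp_id _)
  map_comp f g := by
    apply pullback.hom_ext <;>
      simp only [pullback.lift_fst, pullback.lift_snd, pullback.lift_fst_assoc, pullback.lift_snd_assoc,
        prod_comp, Functor.map_comp, Category.assoc]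

theorem isIso_toBase_bot : IsIso (toBase u (FibDesc.bot SimplexCategory)) := by
  have e : toBase u (FibDesc.bot SimplexCategory) = (FibDesc.cechAug u).map (𝟙 _) :=
    congrArg (FibDesc.cechAug u).map (hom_bot_ext _ _)
  rw [e, (FibDesc.cechAug u).map_id]
  infer_instance

/-- The base row. -/
def rowBotIso : rowFam (cechGrid u v) (FibDesc.bot SimplexCategory) ≅ FibDesc.cechAug v :=
  haveI := isIso_toBase_bot u
  NatIso.ofComponents
    (fun b => asIso (pullback.snd (toBase u (FibDesc.bot SimplexCategory)) (toBase v b)))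
    fun {a b} f => pullback.lift_snd _ _ _

/-- The base column. -/
def colBotIso : colFam (cechGrid u v) (FibDesc.bot SimplexCategory) ≅ FibDesc.cechAug u :=
  haveI := isIso_toBase_bot v
  NatIso.ofComponents
    (fun a => asIso (pullback.fst (toBase u a) (toBase v (FibDesc.bot SimplexCategory))))
    fun {a b} f => pullback.lift_fst _ _ _

variable {T : TopCat.{u}} (w : T ⟶ S)

/-- The Cech nerve of a base change, levelwise. -/
def baseChangeHom (b : Idx) :
    (FibDesc.cechAug (pullback.snd u w)).obj b ⟶ pullback (toBase u b) w :=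
  pullback.lift ((cechBase u w).app b) (toBase (pullback.snd u w) b)
    ((cechBase u w).naturality (toBot b)).symm

theorem isIso_baseChangeHom : ∀ b : Idx, IsIso (baseChangeHom u w b)
  | op (.star) => by
    let g : pullback (toBase u (FibDesc.bot SimplexCategory)) w ⟶ T := pullback.snd _ _
    haveI : IsIso g := by
      haveI := isIso_toBase_bot u
      dsimp only [g]
      infer_instance
    haveI : IsIso (toBase (pullback.snd u w) (FibDesc.bot SimplexCategory)) := isIso_toBase_bot _
    haveI : IsIso (baseChangeHom u w (FibDesc.bot SimplexCategory) ≫ g) := by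
      rw [show baseChangeHom u w (FibDesc.bot SimplexCategory) ≫ g =
        toBase (pullback.snd u w) (FibDesc.bot SimplexCategory) from pullback.lift_snd _ _ _]
      infer_instance
    exact IsIso.of_isIso_comp_right _ g
  | op (.of a) => by
    have e : baseChangeHom u w (op (WithInitial.of a)) = (isPullback_baseLevel u w a.len).isoPullback.hom := by
      apply pullback.hom_ext
      · exact (pullback.lift_fst _ _ _).trans (IsPullback.isoPullback_hom_fst _).symm
      · exact (pullback.lift_snd _ _ _).trans (IsPullback.isoPullback_hom_snd _).symm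
    rw [e]
    infer_instance

variable {Z : Idx ⥤ TopCat.{u}}

/-- A row of positive degree. -/
def rowIso (m : SimplexCategoryᵒᵖ) :
    FibDesc.cechAug (pullback.snd v (toBase u (augIdx.obj m))) ≅ rowFam (cechGrid u v) (augIdx.obj m) :=
  haveI := fun b => isIso_baseChangeHom v (toBase u (augIdx.obj m)) b
  NatIso.ofComponents
    (fun b => asIso (baseChangeHom v (toBase u (augIdx.obj m)) b) ≪≫ pullbackSymmetry _ _)
    fun {a b} f => by
      let w := toBase u (augIdx.obj m)
      show (FibDesc.cechAug (pullback.snd v w)).map f ≫ (baseChangeHom v w b ≫ (pullbackSymmetry _ _).hom) =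
        (baseChangeHom v w a ≫ (pullbackSymmetry _ _).hom) ≫
          pullback.lift (pullback.fst _ _ ≫ (FibDesc.cechAug u).map (𝟙 (augIdx.obj m)))
            (pullback.snd _ _ ≫ (FibDesc.cechAug v).map f) _
      apply pullback.hom_ext
      · simp only [Category.assoc, pullback.lift_fst, baseChangeHom, pullbackSymmetry_hom_comp_fst,
          pullbackSymmetry_hom_comp_fst_assoc, pullback.lift_snd, pullback.lift_snd_assoc, Functor.map_id,
          Category.comp_id]
        refine (toBase_naturality (pullback.snd v w) f).trans ?_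
        exact ((congrArg (_ ≫ ·) ((FibDesc.cechAug u).map_id (augIdx.obj m))).trans (Category.comp_id _)).symm
      · simp only [Category.assoc, pullback.lift_fst, baseChangeHom, pullbackSymmetry_hom_comp_snd,
          pullbackSymmetry_hom_comp_snd_assoc, pullback.lift_fst_assoc, pullback.lift_snd]
        exact (cechBase v w).naturality f

/-- A column of positive degree. -/
def colIso (n : SimplexCategoryᵒᵖ) :
    FibDesc.cechAug (pullback.snd u (toBase v (augIdx.obj n))) ≅ colFam (cechGrid u v) (augIdx.obj n) :=
  haveI := fun b => isIso_baseChangeHom u (toBase v (augIdx.obj n)) b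
  NatIso.ofComponents (fun b => asIso (baseChangeHom u (toBase v (augIdx.obj n)) b)) fun {a b} f => by
    let w := toBase v (augIdx.obj n)
    show (FibDesc.cechAug (pullback.snd u w)).map f ≫ baseChangeHom u w b =
      baseChangeHom u w a ≫
        pullback.lift (pullback.fst _ _ ≫ (FibDesc.cechAug u).map f)
          (pullback.snd _ _ ≫ (FibDesc.cechAug v).map (𝟙 (augIdx.obj n))) _
    apply pullback.hom_ext
    · simp only [Category.assoc, pullback.lift_fst, baseChangeHom, pullback.lift_fst_assoc]
      exact (cechBase u w).naturality f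
    · simp only [Category.assoc, baseChangeHom, pullback.lift_snd, pullback.lift_snd_assoc, Functor.map_id,
        Category.comp_id]
      refine (toBase_naturality (pullback.snd u w) f).trans ?_
      exact ((congrArg (_ ≫ ·) ((FibDesc.cechAug v).map_id (augIdx.obj n))).trans (Category.comp_id _)).symm

/-- Descent may be checked after base change along the Cech nerve of a map of universal descent. -/
theorem isCohDescentMap_of_baseChange (hv : FibDesc.IsUnivCohDescentMap v)
    (h : ∀ n : ℕ, FibDesc.IsCohDescentMap
      (pullback.snd u (WidePullback.base (fun _ : Fin (n + 1) => v) :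
        widePullback S (fun _ : Fin (n + 1) => Y) (fun _ => v) ⟶ S))) :
    FibDesc.IsCohDescentMap u :=
  isCohDescentTop_of_natIso (colBotIso u v) (isCohDescentTop_col (cechGrid u v)
    (isCohDescentTop_of_natIso (rowBotIso u v).symm
      (isCohDescentMap_of_arrowIso (asIso' v) (hv S (𝟙 S))))
    (fun m => isCohDescentTop_of_natIso (rowIso u v m) (hv _ (toBase u (augIdx.obj m))))
    (fun n => isCohDescentTop_of_natIso (colIso u v n) (h n.unop.len)))
where
  /-- Base change along the identity. -/
  asIso' (v : Y ⟶ S) : Arrow.mk (pullback.snd v (𝟙 S)) ≅ Arrow.mk v :=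
    (arrowIsoOfIsPullback (IsPullback.of_id_fst (f := v))).symm

theorem isCohDescentMap_of_factor (k : Y ⟶ X) (hk : k ≫ u = v) (hv : FibDesc.IsUnivCohDescentMap v) :
    FibDesc.IsCohDescentMap u :=
  isCohDescentMap_of_baseChange u v hv fun n =>
    isCohDescentMap_snd_of_lift u _ (WidePullback.π _ 0 ≫ k)
      (by rw [Category.assoc, hk]; exact WidePullback.π_arrow _ _)

end Grid

theorem isUnivCohDescentMap_of_comp {X Y S : TopCat.{u}} (f : X ⟶ Y) (g : Y ⟶ S)
    (h : FibDesc.IsUnivCohDescentMap (f ≫ g)) : FibDesc.IsUnivCohDescentMap g := fun T t =>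
  isCohDescentMap_of_factor (pullback.snd g t) (pullback.snd (f ≫ g) t)
    (pullback.lift (pullback.fst _ _ ≫ f) (pullback.snd _ _) (by rw [Category.assoc, pullback.condition]))
    (pullback.lift_snd _ _ _) (isUnivCohDescentMap_baseChange h t)

theorem isUnivCohDescentMap_iff_baseChange {X S S' : TopCat.{u}} (f : X ⟶ S) (g : S' ⟶ S)
    (hg : FibDesc.IsUnivCohDescentMap g) :
    FibDesc.IsUnivCohDescentMap f ↔ FibDesc.IsUnivCohDescentMap (pullback.snd f g) := by
  refine ⟨fun h => isUnivCohDescentMap_baseChange h g, fun h T t => ?_⟩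
  refine isCohDescentMap_of_baseChange (pullback.snd f t) (pullback.snd g t)
    (isUnivCohDescentMap_baseChange hg t) fun n => ?_
  let b := WidePullback.base (fun _ : Fin (n + 1) => pullback.snd g t)
  let π₀ : widePullback T (fun _ : Fin (n + 1) => pullback g t) (fun _ => pullback.snd g t) ⟶ S' :=
    WidePullback.π (fun _ : Fin (n + 1) => pullback.snd g t) 0 ≫ pullback.fst g t
  have e : b ≫ t = π₀ ≫ g := by
    simp only [b, π₀, Category.assoc, pullback.condition, WidePullback.π_arrow_assoc]
  refine isCohDescentMap_of_arrowIso (arrowPasteIso f t b).symm ?_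
  exact (congrArg (fun r => FibDesc.IsCohDescentMap (pullback.snd f r)) e).mpr
    (isCohDescentMap_of_arrowIso (arrowPasteIso f g π₀) (h _ π₀))

theorem isUnivCohDescentMap_comp {X Y S : TopCat.{u}} (f : X ⟶ Y) (g : Y ⟶ S)
    (hf : FibDesc.IsUnivCohDescentMap f) (hg : FibDesc.IsUnivCohDescentMap g) :
    FibDesc.IsUnivCohDescentMap (f ≫ g) := fun T t => by
  refine isCohDescentMap_of_baseChange (pullback.snd (f ≫ g) t) (pullback.snd g t)
    (isUnivCohDescentMap_baseChange hg t) fun n => ?_
  let b := WidePullback.base (fun _ : Fin (n + 1) => pullback.snd g t)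
  let π₀ : widePullback T (fun _ : Fin (n + 1) => pullback g t) (fun _ => pullback.snd g t) ⟶ Y :=
    WidePullback.π (fun _ : Fin (n + 1) => pullback.snd g t) 0 ≫ pullback.fst g t
  have e : b ≫ t = π₀ ≫ g := by
    simp only [b, π₀, Category.assoc, pullback.condition, WidePullback.π_arrow_assoc]
  refine isCohDescentMap_of_arrowIso (arrowPasteIso (f ≫ g) t b).symm ?_
  exact isCohDescentMap_of_factor (pullback.snd (f ≫ g) (b ≫ t)) (pullback.snd f π₀)
    (pullback.lift (pullback.fst f π₀) (pullback.snd f π₀) (by rw [pullback.condition_assoc, e]))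
    (pullback.lift_snd _ _ _) (isUnivCohDescentMap_baseChange hf π₀)

theorem isUnivCohDescentMap_pullback_map {X X' Y Y' S : TopCat.{u}} (pX : X' ⟶ S) (pY : Y' ⟶ S)
    (f : X ⟶ X') (g : Y ⟶ Y') (hf : FibDesc.IsUnivCohDescentMap f) (hg : FibDesc.IsUnivCohDescentMap g) :
    FibDesc.IsUnivCohDescentMap
      (pullback.map (f ≫ pX) (g ≫ pY) pX pY f g (𝟙 S) (Category.comp_id _) (Category.comp_id _)) := by
  let a : pullback (f ≫ pX) (g ≫ pY) ⟶ pullback pX (g ≫ pY) :=
    pullback.lift (pullback.fst _ _ ≫ f) (pullback.snd _ _) (by rw [Category.assoc, pullback.condition])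
  let b : pullback pX (g ≫ pY) ⟶ pullback pX pY :=
    pullback.lift (pullback.fst _ _) (pullback.snd _ _ ≫ g) (by rw [Category.assoc, pullback.condition])
  have e : pullback.map (f ≫ pX) (g ≫ pY) pX pY f g (𝟙 S) (Category.comp_id _) (Category.comp_id _) = a ≫ b := by
    apply pullback.hom_ext <;> simp [a, b]
  rw [e]
  have ha : IsPullback (pullback.fst (f ≫ pX) (g ≫ pY)) a f (pullback.fst pX (g ≫ pY)) := by
    refine IsPullback.of_bot ?_ (pullback.lift_fst _ _ _).symm (IsPullback.of_hasPullback pX (g ≫ pY))
    have h1 : a ≫ pullback.snd pX (g ≫ pY) = pullback.snd (f ≫ pX) (g ≫ pY) := pullback.lift_snd _ _ _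
    rw [h1]
    exact IsPullback.of_hasPullback (f ≫ pX) (g ≫ pY)
  have hb : IsPullback (pullback.snd pX (g ≫ pY)) b g (pullback.snd pX pY) := by
    refine IsPullback.of_bot ?_ (pullback.lift_snd _ _ _).symm (IsPullback.of_hasPullback pX pY).flip
    have h1 : b ≫ pullback.fst pX pY = pullback.fst pX (g ≫ pY) := pullback.lift_fst _ _ _
    rw [h1]
    exact (IsPullback.of_hasPullback pX (g ≫ pY)).flip
  exact isUnivCohDescentMap_comp a b (isUnivCohDescentMap_of_isPullback hf ha)
    (isUnivCohDescentMap_of_isPullback hg hb)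

end Groth.Agent.FibDescLib
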