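import Groth.Agent.FibDescLib.Ext

/-!
# The comparison transformations of an extra degeneracy
-/

set_option autoImplicit false
set_option backward.isDefEq.respectTransparency false
set_option backward.isDefEq.respectTransparency.types false

universe u

noncomputable section

open CategoryTheory CategoryTheory.Limits Opposite TopologicalSpace Pseudofunctor.CoGrothendieck

namespace Groth.Agent.FibDescLib

variable {Y : Idx ⥤ TopCat.{u}}

/-- Sheaves on the part. -/
abbrev PSh (Y : Idx ⥤ TopCat.{u}) := Sheaf (totP Y) Ab0.{u}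

/-- Restriction to the part. -/
abbrev inclRes (Y : Idx ⥤ TopCat.{u}) : Sheaf (totA Y) Ab0.{u} ⥤ PSh Y :=
  (FibDesc.incl (FibDesc.topAug Y)).sheafPushforwardContinuous Ab0.{u} (totP Y) (totA Y)

/-- Restriction to the decalage. -/
abbrev decRes (Y : Idx ⥤ TopCat.{u}) : PSh Y ⥤ Sheaf (totA (dec Y)) Ab0.{u} :=
  (decIncl Y).sheafPushforwardContinuous Ab0.{u} (totA (dec Y)) (totP Y)

variable (p : Y ⟶ dec Y)

/-- Inverse image along the section. -/
abbrev secPullSh : Sheaf (totA (dec Y)) Ab0.{u} ⥤ Sheaf (totA Y) Ab0.{u} :=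
  (secPull p).sheafPullback Ab0.{u} (totA (dec Y)) (totA Y)

/-- Its adjunction. -/
abbrev secAdj : secPullSh p ⊣ (secPull p).sheafPushforwardContinuous Ab0.{u} (totA (dec Y)) (totA Y) :=
  (secPull p).sheafAdjunctionContinuous Ab0.{u} (totA (dec Y)) (totA Y)

/-- The shifted functor, with values on the augmented family. -/
abbrev shiftAug : PSh Y ⥤ Sheaf (totA Y) Ab0.{u} := decRes Y ⋙ secPullSh p

variable (Y) in
/-- `decIncl ∘ projPull ⟶ id` on the part. -/
def projCounitPart : FibDesc.incl (FibDesc.topAug Y) ⋙ projPull ⋙ decIncl Y ⟶ 𝟭 _ where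
  app A := mkHom (show (sh.op.obj ((FibDesc.toAug SimplexCategory).obj A.base)) ⟶ A.base from
      (SimplexCategory.δ (n := A.base.unop.len) 0).op)
    (homOfLE le_rfl : (Opens.map ((decProj Y).app ((FibDesc.toAug SimplexCategory).obj A.base))).obj A.fiber ⟶
      (Opens.map ((decProj Y).app ((FibDesc.toAug SimplexCategory).obj A.base))).obj A.fiber)
  naturality A B f := hom_ext' ((FibDesc.toAug SimplexCategory).map_injective
    (((NatTrans.op shUnit).naturality ((FibDesc.toAug SimplexCategory).map f.base))))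

variable (hp : p ≫ decProj Y = 𝟙 Y)

/-- `id ⟶ shift` on presheaves over the part. -/
def shiftUnitPre (G : PSh Y) : G.obj ⟶ ((inclRes Y).obj ((shiftAug p).obj G)).obj :=
  Functor.whiskerRight (NatTrans.op (projCounitPart Y)) G.obj ≫
    Functor.whiskerLeft ((FibDesc.incl (FibDesc.topAug Y)).op ⋙ projPull.op)
      (((secAdj p).unit.app ((decRes Y).obj G)).hom) ≫
    Functor.whiskerLeft (FibDesc.incl (FibDesc.topAug Y)).op
      (Functor.whiskerRight (NatTrans.op (secProjIso p hp).inv) ((shiftAug p).obj G).obj)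

/-- The transformation `id ⟶ shift`. -/
def shiftUnit : 𝟭 (PSh Y) ⟶ shiftAug p ⋙ inclRes Y where
  app G := ⟨shiftUnitPre p hp G⟩
  naturality G G' φ := Sheaf.hom_ext (NatTrans.ext (funext fun A => by
    have h1 := φ.hom.naturality ((projCounitPart Y).app A.unop).op
    have h2 := NatTrans.congr_app (congrArg (fun t => t.hom) ((secAdj p).unit.naturality ((decRes Y).map φ)))
      (op (projPull.obj ((FibDesc.incl (FibDesc.topAug Y)).obj A.unop)))
    have h3 := ((shiftAug p).map φ).hom.naturality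
      ((secProjIso p hp).inv.app ((FibDesc.incl (FibDesc.topAug Y)).obj A.unop)).op
    simp [shiftUnitPre]
    refine ((reassoc_of% h1) _).symm.trans ?_
    refine (congrArg (_ ≫ ·) ((reassoc_of% h2) _)).trans ?_
    exact congrArg (_ ≫ ·) (Category.assoc _ _ _)))

/-- `id ⟶ shift` on sheaves over the augmented family. -/
def shiftUnitAug (M : Sheaf (totA Y) Ab0.{u}) : M ⟶ (shiftAug p).obj ((inclRes Y).obj M) :=
  ⟨Functor.whiskerRight (NatTrans.op (projCounit (Y := Y))) M.obj ≫
    Functor.whiskerLeft projPull.op (((secAdj p).unit.app ((decRes Y).obj ((inclRes Y).obj M))).hom) ≫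
    Functor.whiskerRight (NatTrans.op (secProjIso p hp).inv) ((shiftAug p).obj ((inclRes Y).obj M)).obj⟩

theorem shiftUnit_inclRes (M : Sheaf (totA Y) Ab0.{u}) :
    (shiftUnit p hp).app ((inclRes Y).obj M) = (inclRes Y).map (shiftUnitAug p hp M) :=
  Sheaf.hom_ext (NatTrans.ext (funext fun A => by
    simp [shiftUnit, shiftUnitPre, shiftUnitAug]
    rfl))

theorem shiftUnitAug_naturality {M M' : Sheaf (totA Y) Ab0.{u}} (φ : M ⟶ M') :
    φ ≫ shiftUnitAug p hp M' = shiftUnitAug p hp M ≫ (shiftAug p).map ((inclRes Y).map φ) :=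
  Sheaf.hom_ext (NatTrans.ext (funext fun A => by
    have h1 := φ.hom.naturality ((projCounit (Y := Y)).app A.unop).op
    have h2 := NatTrans.congr_app (congrArg (fun t => t.hom)
      ((secAdj p).unit.naturality ((decRes Y).map ((inclRes Y).map φ)))) (op (projPull.obj A.unop))
    simp [shiftUnitAug]
    refine ((reassoc_of% h1) _).symm.trans ?_
    refine (congrArg (_ ≫ ·) ((reassoc_of% h2) _)).trans ?_
    exact congrArg (_ ≫ ·) (Category.assoc _ _ _)))

theorem isIso_shiftUnitAug_ext (H : Sheaf (botTop Y) Ab0.{u}) :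
    IsIso (shiftUnitAug p hp ((extY Y).obj H)) := by
  let E := (extY Y).obj H
  let Z := (shiftAug p).obj ((inclRes Y).obj E)
  suffices ∀ M : Sheaf (totA Y) Ab0.{u},
      Function.Bijective fun f : Z ⟶ M => shiftUnitAug p hp E ≫ f by
    obtain ⟨r, hr⟩ := (this E).2 (𝟙 _)
    exact ⟨r, hr, (this Z).1 (by
      show shiftUnitAug p hp E ≫ r ≫ shiftUnitAug p hp E = shiftUnitAug p hp E ≫ 𝟙 _
      have hr' : shiftUnitAug p hp E ≫ r = 𝟙 _ := hr
      rw [reassoc_of% hr', Category.comp_id])⟩
  intro M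
  let Q := ((secPull p).sheafPushforwardContinuous Ab0.{u} (totA (dec Y)) (totA Y)).obj M
  let e := (secAdj p).homEquiv ((decRes Y).obj ((inclRes Y).obj E)) M
  have hg : Function.Bijective fun g : (decRes Y).obj ((inclRes Y).obj E) ⟶ Q => g.hom :=
    ⟨fun a b h => Sheaf.hom_ext h, fun g => ⟨⟨g⟩, rfl⟩⟩
  let τ : (decBase Y).op ⋙ Q.obj ⟶ (epsY Y).op ⋙ M.obj :=
    Functor.whiskerLeft (epsY Y).op (Functor.whiskerRight (NatTrans.op (secProjIso p hp).inv) M.obj)
  haveI : IsIso τ := by
    haveI : IsIso (NatTrans.op (secProjIso p hp).inv) :=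
      inferInstanceAs (IsIso (NatIso.op (secProjIso p hp).symm).hom)
    infer_instance
  have hτ : Function.Bijective fun φ : H.obj ⟶ (decBase Y).op ⋙ Q.obj => φ ≫ τ := (asIso τ).homToEquiv.bijective
  let R := fun f : E ⟶ M => ((extAdj Y).homEquiv H M f).hom
  have hR : Function.Bijective R :=
    (show Function.Bijective fun g : H ⟶ (restrY Y).obj M => g.hom from
      ⟨fun a b h => Sheaf.hom_ext h, fun g => ⟨⟨g⟩, rfl⟩⟩).comp ((extAdj Y).homEquiv H M).bijective
  refine (Function.Bijective.of_comp_iff' hR _).1 ?_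
  refine (congrArg Function.Bijective ?_).mpr
    (hτ.comp ((bijective_decUnit H Q).comp (hg.comp e.bijective)))
  funext f
  refine NatTrans.ext (funext fun U => ?_)
  simp [R, e, τ, Q, shiftUnitAug, Adjunction.homEquiv_unit]
  rfl

end Groth.Agent.FibDescLib
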