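import Groth.Agent.FibDescLib.Spaces

/-!
# The decalage of an augmented simplicial space
-/

set_option autoImplicit false
set_option backward.isDefEq.respectTransparency false
set_option backward.isDefEq.respectTransparency.types false

universe u

noncomputable section

open CategoryTheory CategoryTheory.Limits Opposite TopologicalSpace Pseudofunctor.CoGrothendieck

namespace Groth.Agent.FibDescLib

/-- Adding a first point to a map of finite ordinals. -/
def shMap {a b : SimplexCategory} (f : a ⟶ b) :
    SimplexCategory.mk (a.len + 1) ⟶ SimplexCategory.mk (b.len + 1) :=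
  SimplexCategory.Hom.mk ⟨Fin.cases 0 fun i => (f.toOrderHom i).succ, fun i j h => by
    induction i using Fin.cases with
    | zero => simp
    | succ i =>
      induction j using Fin.cases with
      | zero => exact absurd h (Fin.succ_pos i).not_ge
      | succ j =>
        simp only [Fin.cases_succ, Fin.succ_le_succ_iff]
        exact f.toOrderHom.monotone (Fin.succ_le_succ_iff.1 h)⟩

/-- The underlying ordinal of the shift. -/
def shObj : WithInitial SimplexCategory → SimplexCategory
  | .star => SimplexCategory.mk 0
  | .of a => SimplexCategory.mk (a.len + 1)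

/-- The shift on arrows. -/
def shHom : ∀ {a b : WithInitial SimplexCategory}, (a ⟶ b) → (shObj a ⟶ shObj b)
  | .star, .star, _ => 𝟙 _
  | .star, .of b, _ => SimplexCategory.const (SimplexCategory.mk 0) (SimplexCategory.mk (b.len + 1)) 0
  | .of a, .star, f => (f : PEmpty).elim
  | .of _, .of _, f => shMap (WithInitial.down f)

/-- Adjoining a first point. -/
def sh : WithInitial SimplexCategory ⥤ SimplexCategory where
  obj := shObj
  map := shHom
  map_id a := by
    cases a with
    | star => rfl
    | of a =>
      refine SimplexCategory.Hom.ext _ _ (OrderHom.ext _ _ (funext fun i => ?_))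
      induction i using Fin.cases with
      | zero => rfl
      | succ i => rfl
  map_comp {a b c} f g := by
    cases a with
    | star =>
      cases b with
      | star =>
        cases c with
        | star => rfl
        | of c => exact (Category.id_comp _).symm
      | of b =>
        cases c with
        | star => exact (g : PEmpty).elim
        | of c =>
          refine SimplexCategory.Hom.ext _ _ (OrderHom.ext _ _ (funext fun i => ?_))
          rfl
    | of a =>
      cases b with
      | star => exact (f : PEmpty).elim
      | of b =>
        cases c with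
        | star => exact (g : PEmpty).elim
        | of c =>
          refine SimplexCategory.Hom.ext _ _ (OrderHom.ext _ _ (funext fun i => ?_))
          induction i using Fin.cases with
          | zero => rfl
          | succ i => rfl

/-- The inclusion into the shift. -/
def shUnit : 𝟭 (WithInitial SimplexCategory) ⟶ sh ⋙ WithInitial.incl where
  app a := match a with
    | .star => (show WithInitial.star ⟶ _ from PUnit.unit)
    | .of a => (SimplexCategory.δ (n := a.len) 0 : SimplexCategory.mk a.len ⟶ SimplexCategory.mk (a.len + 1))
  naturality a b f := by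
    cases a with
    | star => exact Subsingleton.elim (α := PUnit) _ _
    | of a =>
      cases b with
      | star => exact (f : PEmpty).elim
      | of b =>
        refine SimplexCategory.Hom.ext _ _ (OrderHom.ext _ _ (funext fun i => ?_))
        rfl

variable (Y : Idx ⥤ TopCat.{u})

/-- The decalage. -/
abbrev dec : Idx ⥤ TopCat.{u} := sh.op ⋙ FibDesc.toAug SimplexCategory ⋙ Y

/-- The projection of the decalage. -/
def decProj : dec Y ⟶ Y := Functor.whiskerRight (NatTrans.op shUnit) Y

/-- The decalage as a family inside the part. -/
def decIncl : Tot (dec Y) ⥤ ∫ᶜ (FibDesc.part (FibDesc.topAug Y)) where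
  obj A := ⟨sh.op.obj A.base, A.fiber⟩
  map {A B} f := mkHom (sh.op.map f.base) f.fiber
  map_id A := hom_ext' (sh.op.map_id A.base)
  map_comp f g := hom_ext' (sh.op.map_comp f.base g.base)

/-- The decalage inside the augmented family. -/
abbrev decAug : Tot (dec Y) ⥤ Tot Y := decIncl Y ⋙ FibDesc.incl (FibDesc.topAug Y)

instance isContinuous_decIncl : (decIncl Y).IsContinuous (totA (dec Y)) (totP Y) :=
  isContinuous_of_fibrewise _ (hJ (dec Y)) _ (hasMeetsPart Y) (decIncl Y) sh.op.obj (fun _ => 𝟭 _)
    (fun S => NatIso.ofComponents (fun U => Iso.refl _) fun {U V} j => by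
      simp only [Iso.refl_hom, Category.comp_id, Category.id_comp]
      exact hom_ext' (sh.op.map_id S))
    fun S => (inferInstanceAs ((𝟭 (Opens ((dec Y).obj S))).IsContinuous
      (Opens.grothendieckTopology ((dec Y).obj S)) (Opens.grothendieckTopology ((dec Y).obj S))))

instance isCocontinuous_decIncl : (decIncl Y).IsCocontinuous (totA (dec Y)) (totP Y) :=
  isCocontinuous_of_fibrewise _ (hJ (dec Y)) _ (hJpart Y) (decIncl Y) fun A R hR =>
    (FibDesc.topAugTop (dec Y) _).superset_covering (fun V j hj => by
      have e : (decIncl Y).map (fibHom j) =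
          fibHom (F := FibDesc.part (FibDesc.topAug Y)) (S := sh.op.obj A.base) j :=
        hom_ext' (sh.op.map_id A.base)
      show R.arrows ((decIncl Y).map (fibHom j))
      rw [e]
      exact hj) hR

variable {Y} (p : Y ⟶ dec Y)

theorem preimage_naturality {R S : Idx} (b : R ⟶ S) (W : Opens ((dec Y).obj S)) :
    (Opens.map (Y.map b)).obj ((Opens.map (p.app S)).obj W) =
      (Opens.map (p.app R)).obj ((Opens.map ((dec Y).map b)).obj W) := by
  ext x
  have h := ConcreteCategory.congr_hom (p.naturality b) x
  show p.app S (Y.map b x) ∈ W ↔ (dec Y).map b (p.app R x) ∈ W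
  rw [show p.app S (Y.map b x) = (dec Y).map b (p.app R x) from h]

/-- Pulling back along a section of the decalage. -/
def secPull : Tot (dec Y) ⥤ Tot Y where
  obj A := tObj A.base ((Opens.map (p.app A.base)).obj (fib A))
  map {A B} f := tHom f.base (by
    show (Opens.map (p.app A.base)).obj (fib A) ≤ _
    rw [preimage_naturality p f.base (fib B)]
    exact leOfHom ((Opens.map (p.app A.base)).map (homOfLE (tHom_le f))))
  map_id A := hom_ext' rfl
  map_comp f g := hom_ext' rfl

instance isContinuous_secPull : (secPull p).IsContinuous (totA (dec Y)) (totA Y) :=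
  isContinuous_of_fibrewise _ (hJ (dec Y)) _ (hasMeets Y) (secPull p) id (fun S => Opens.map (p.app S))
    (fun S => NatIso.ofComponents (fun U => Iso.refl _) fun {U V} j => by
      simp only [Iso.refl_hom, Category.comp_id, Category.id_comp]
      exact hom_ext' rfl)
    fun S => inferInstanceAs ((Opens.map (p.app S)).IsContinuous
      (Opens.grothendieckTopology ((dec Y).obj S)) (Opens.grothendieckTopology (Y.obj S)))

instance representablyFlat_secPull : RepresentablyFlat (secPull p) := by
  constructor
  intro A
  have key : ∀ V : StructuredArrow A (secPull p),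
      fib A ≤ (Opens.map (p.app A.base)).obj ((Opens.map ((dec Y).map V.hom.base)).obj (fib V.right)) := fun V => by
    rw [← preimage_naturality p V.hom.base (fib V.right)]
    exact tHom_le V.hom
  have mem : ∀ (W : Opens ((dec Y).obj A.base)), fib A ≤ (Opens.map (p.app A.base)).obj W →
      fib A ≤ (Opens.map (Y.map (𝟙 A.base))).obj ((Opens.map (p.app A.base)).obj W) := fun W h => by
    rw [Y.map_id]; exact h
  refine @IsCofiltered.mk _ _ ?_ ?_
  · constructor
    · intro V V'
      let W : Opens ((dec Y).obj A.base) :=
        (Opens.map ((dec Y).map V.hom.base)).obj (fib V.right) ⊓ (Opens.map ((dec Y).map V'.hom.base)).obj (fib V'.right)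
      let Z : StructuredArrow A (secPull p) := StructuredArrow.mk (Y := tObj (Y := dec Y) A.base W)
        (tHom (Y := Y) (B := (secPull p).obj (tObj (Y := dec Y) A.base W)) (𝟙 A.base) (mem W (le_inf (key V) (key V'))))
      exact ⟨Z, StructuredArrow.homMk (tHom (Y := dec Y) V.hom.base inf_le_left) (hom_ext' (Category.id_comp _)),
        StructuredArrow.homMk (tHom (Y := dec Y) V'.hom.base inf_le_right) (hom_ext' (Category.id_comp _)), trivial⟩
    · intro V V' f g
      let W : Opens ((dec Y).obj A.base) := (Opens.map ((dec Y).map V.hom.base)).obj (fib V.right)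
      let Z : StructuredArrow A (secPull p) := StructuredArrow.mk (Y := tObj (Y := dec Y) A.base W)
        (tHom (Y := Y) (B := (secPull p).obj (tObj (Y := dec Y) A.base W)) (𝟙 A.base) (mem W (key V)))
      let h : Z ⟶ V := StructuredArrow.homMk (tHom (Y := dec Y) V.hom.base le_rfl) (hom_ext' (Category.id_comp _))
      refine ⟨Z, h, StructuredArrow.ext _ _ (hom_ext' ?_)⟩
      exact (congrArg (fun φ => φ.base) (StructuredArrow.w f)).trans
        (congrArg (fun φ => φ.base) (StructuredArrow.w g)).symm
  · exact ⟨StructuredArrow.mk (Y := tObj (Y := dec Y) A.base ⊤)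
      (tHom (Y := Y) (B := (secPull p).obj (tObj (Y := dec Y) A.base ⊤)) (𝟙 A.base) (mem ⊤ le_top))⟩

/-- Pulling back along the projection of the decalage. -/
def projPull : Tot Y ⥤ Tot (dec Y) where
  obj A := tObj (Y := dec Y) A.base ((Opens.map ((decProj Y).app A.base)).obj (fib A))
  map {A B} f := tHom (Y := dec Y) f.base (fun x hx => by
    have h := ConcreteCategory.congr_hom ((decProj Y).naturality f.base) x
    show (decProj Y).app B.base ((dec Y).map f.base x) ∈ fib B
    rw [show (decProj Y).app B.base ((dec Y).map f.base x) = Y.map f.base ((decProj Y).app A.base x) from h]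
    exact tHom_le f hx)
  map_id A := hom_ext' rfl
  map_comp f g := hom_ext' rfl

/-- The comparison `decAug ∘ projPull ⟶ id`. -/
def projCounit : projPull ⋙ decAug Y ⟶ 𝟭 (Tot Y) where
  app A := tHom ((NatTrans.op shUnit).app A.base) le_rfl
  naturality A B f := hom_ext' ((NatTrans.op shUnit).naturality f.base)

/-- `secPull ∘ projPull` is the identity. -/
def secProjIso (hp : p ≫ decProj Y = 𝟙 Y) : projPull ⋙ secPull p ≅ 𝟭 (Tot Y) :=
  have h : ∀ A : Tot Y, (Opens.map (p.app A.base)).obj ((Opens.map ((decProj Y).app A.base)).obj (fib A)) = fib A :=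
    fun A => by
      ext x
      show (decProj Y).app A.base (p.app A.base x) ∈ fib A ↔ x ∈ fib A
      rw [show (decProj Y).app A.base (p.app A.base x) = x from
        ConcreteCategory.congr_hom (NatTrans.congr_app hp A.base) x]
  NatIso.ofComponents
    (fun A =>
      { hom := tHom (𝟙 A.base) (by show _ ≤ (Opens.map (Y.map (𝟙 A.base))).obj (fib A); rw [Y.map_id]; exact (h A).le)
        inv := tHom (𝟙 A.base) (by show _ ≤ (Opens.map (Y.map (𝟙 A.base))).obj _; rw [Y.map_id]; exact (h A).ge)
        hom_inv_id := hom_ext' (Category.id_comp _)
        inv_hom_id := hom_ext' (Category.id_comp _) })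
    fun {A B} f => hom_ext' ((Category.comp_id _).trans (Category.id_comp _).symm)

end Groth.Agent.FibDescLib
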