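import Mathlib.Algebra.Homology.DerivedCategory.ExactFunctor
import Mathlib.Algebra.Homology.DerivedCategory.DerivabilityStructureInjectives
import Mathlib.CategoryTheory.Adjunction.Additive

/-!
# Full faithfulness of a derived inverse image through the unit, and its base change
-/

set_option autoImplicit false
set_option backward.isDefEq.respectTransparency false
set_option backward.isDefEq.respectTransparency.types false
set_option linter.style.haveILetI false

universe v v' v'' v''' u u' u'' u'''

noncomputable section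

open CategoryTheory CategoryTheory.Limits

attribute [local instance] HasDerivedCategory.standard

namespace Groth.Agent.FibDescLib

section Criterion

variable {A : Type u} [Category.{v} A] [Abelian A] {B : Type u'} [Category.{v'} B] [Abelian B]
  {P : A ⥤ B} {R : B ⥤ A} (adj : P ⊣ R) [P.Additive] [R.Additive]

/-- The transpose of a map of complexes. -/
def transposeC {K : CochainComplex A ℤ} {I : CochainComplex B ℤ}
    (f : (P.mapHomologicalComplex (ComplexShape.up ℤ)).obj K ⟶ I) :
    K ⟶ (R.mapHomologicalComplex (ComplexShape.up ℤ)).obj I where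
  f i := adj.homEquiv _ _ (f.f i)
  comm' i j _ := by
    show _ ≫ R.map (I.d i j) = _
    rw [← adj.homEquiv_naturality_right, ← adj.homEquiv_naturality_left]
    exact congrArg _ (f.comm i j)

/-- The counit on complexes. -/
def counitC (I : CochainComplex B ℤ) :
    (P.mapHomologicalComplex (ComplexShape.up ℤ)).obj ((R.mapHomologicalComplex (ComplexShape.up ℤ)).obj I) ⟶ I where
  f i := adj.counit.app (I.X i)
  comm' i j _ := (adj.counit.naturality (I.d i j)).symm

theorem transposeC_counit {K : CochainComplex A ℤ} {I : CochainComplex B ℤ}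
    (f : (P.mapHomologicalComplex (ComplexShape.up ℤ)).obj K ⟶ I) :
    (P.mapHomologicalComplex (ComplexShape.up ℤ)).map (transposeC adj f) ≫ counitC adj I = f := by
  ext i
  show P.map (adj.homEquiv _ _ (f.f i)) ≫ adj.counit.app _ = f.f i
  exact (Eq.symm (adj.homEquiv_counit (X := K.X i) (Y := I.X i) (g := adj.homEquiv _ _ (f.f i)))).trans
    (Equiv.symm_apply_apply _ _)

theorem counit_transposeC {K : CochainComplex A ℤ} {I : CochainComplex B ℤ}
    (a : K ⟶ (R.mapHomologicalComplex (ComplexShape.up ℤ)).obj I) :
    transposeC adj ((P.mapHomologicalComplex (ComplexShape.up ℤ)).map a ≫ counitC adj I) = a := by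
  ext i
  show adj.homEquiv _ _ (P.map (a.f i) ≫ adj.counit.app _) = a.f i
  exact (congrArg _ (adj.homEquiv_counit (X := K.X i) (Y := I.X i) (g := a.f i)).symm).trans
    (Equiv.apply_symm_apply _ _)

/-- Transposing a homotopy. -/
def transposeHomotopy {K : CochainComplex A ℤ} {I : CochainComplex B ℤ}
    {f g : (P.mapHomologicalComplex (ComplexShape.up ℤ)).obj K ⟶ I} (h : Homotopy f g) :
    Homotopy (transposeC adj f) (transposeC adj g) := by
  let η : K ⟶ (R.mapHomologicalComplex (ComplexShape.up ℤ)).obj
      ((P.mapHomologicalComplex (ComplexShape.up ℤ)).obj K) :=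
    { f := fun i => adj.unit.app (K.X i)
      comm' := fun i j _ => (adj.unit.naturality (K.d i j)).symm }
  have e : ∀ t : (P.mapHomologicalComplex (ComplexShape.up ℤ)).obj K ⟶ I,
      η ≫ (R.mapHomologicalComplex (ComplexShape.up ℤ)).map t = transposeC adj t := fun t => by
    ext i
    exact (adj.homEquiv_unit _ _ _).symm
  exact ((Homotopy.ofEq (e f).symm).trans ((R.mapHomotopy h).compLeft η)).trans (Homotopy.ofEq (e g))

theorem exists_eq_Q_map {C : Type u} [Category.{v} C] [Abelian C] {K L : CochainComplex C ℤ} [L.IsKInjective]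
    (h : DerivedCategory.Q.obj K ⟶ DerivedCategory.Q.obj L) : ∃ a : K ⟶ L, DerivedCategory.Q.map a = h := by
  let e := DerivedCategory.quotientCompQhIso C
  obtain ⟨a', ha'⟩ := (CochainComplex.IsKInjective.Qh_map_bijective ((HomotopyCategory.quotient _ _).obj K) L).2
    (e.hom.app K ≫ h ≫ e.inv.app L)
  obtain ⟨a, rfl⟩ := (HomotopyCategory.quotient _ _).map_surjective a'
  refine ⟨a, ?_⟩
  have hn := e.hom.naturality a
  dsimp at hn
  rw [← cancel_epi (e.hom.app K), ← hn, ha']
  simp

theorem homotopy_of_Q_map_eq {C : Type u} [Category.{v} C] [Abelian C] {K L : CochainComplex C ℤ} [L.IsKInjective]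
    {a b : K ⟶ L} (h : DerivedCategory.Q.map a = DerivedCategory.Q.map b) : Nonempty (Homotopy a b) := by
  let e := DerivedCategory.quotientCompQhIso C
  refine ⟨HomotopyCategory.homotopyOfEq _ _
    ((CochainComplex.IsKInjective.Qh_map_bijective ((HomotopyCategory.quotient _ _).obj K) L).1 ?_)⟩
  have ha := e.hom.naturality a
  have hb := e.hom.naturality b
  dsimp at ha hb
  rw [← cancel_mono (e.hom.app L), ha, hb, h]

variable [PreservesFiniteLimits P] [PreservesFiniteColimits P]

theorem bijective_transposeD (K : CochainComplex A ℤ) (I : CochainComplex B ℤ) [I.IsKInjective]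
    [CochainComplex.IsKInjective ((R.mapHomologicalComplex (ComplexShape.up ℤ)).obj I)] :
    Function.Bijective fun h : DerivedCategory.Q.obj K ⟶
        DerivedCategory.Q.obj ((R.mapHomologicalComplex (ComplexShape.up ℤ)).obj I) =>
      P.mapDerivedCategory.map h ≫ P.mapDerivedCategoryFactors.hom.app _ ≫
        DerivedCategory.Q.map (counitC adj I) := by
  have key : ∀ a : K ⟶ (R.mapHomologicalComplex (ComplexShape.up ℤ)).obj I,
      P.mapDerivedCategory.map (DerivedCategory.Q.map a) ≫ P.mapDerivedCategoryFactors.hom.app _ ≫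
        DerivedCategory.Q.map (counitC adj I) = P.mapDerivedCategoryFactors.hom.app K ≫
        DerivedCategory.Q.map ((P.mapHomologicalComplex (ComplexShape.up ℤ)).map a ≫ counitC adj I) := fun a => by
    have hn := P.mapDerivedCategoryFactors.hom.naturality a
    dsimp at hn
    rw [reassoc_of% hn, ← Functor.map_comp]
  refine ⟨fun h h' e => ?_, fun t => ?_⟩
  · obtain ⟨a, rfl⟩ := exists_eq_Q_map h
    obtain ⟨b, rfl⟩ := exists_eq_Q_map h'
    have e' := (key a).symm.trans (e.trans (key b))
    rw [cancel_epi] at e'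
    obtain ⟨H⟩ := homotopy_of_Q_map_eq e'
    have H' := transposeHomotopy adj H
    rw [counit_transposeC, counit_transposeC] at H'
    rw [← (DerivedCategory.quotientCompQhIso A).app K |>.cancel_iso_hom_left]
    have ha := (DerivedCategory.quotientCompQhIso A).hom.naturality a
    have hb := (DerivedCategory.quotientCompQhIso A).hom.naturality b
    dsimp at ha hb ⊢
    rw [← ha, ← hb, HomotopyCategory.eq_of_homotopy _ _ H']
  · obtain ⟨c, hc⟩ := exists_eq_Q_map (P.mapDerivedCategoryFactors.inv.app K ≫ t)
    refine ⟨DerivedCategory.Q.map (transposeC adj c), ?_⟩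
    show _ ≫ _ ≫ _ = t
    rw [key, transposeC_counit, hc, Iso.hom_inv_id_app_assoc]

variable [PreservesFiniteLimits R]

include adj in
theorem isKInjective_map (I : CochainComplex B ℤ) (n : ℤ) [I.IsStrictlyGE n] [∀ i, Injective (I.X i)] :
    CochainComplex.IsKInjective ((R.mapHomologicalComplex (ComplexShape.up ℤ)).obj I) := by
  haveI : ∀ i, Injective (((R.mapHomologicalComplex (ComplexShape.up ℤ)).obj I).X i) := fun i =>
    Injective.injective_of_adjoint adj (I.X i)
  exact CochainComplex.isKInjective_of_injective _ n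

/-- Full faithfulness towards one object is the quasi-isomorphism of the unit into an injective resolution. -/
theorem quasiIso_transposeC_iff {L : CochainComplex A ℤ} {I : CochainComplex B ℤ} (n : ℤ) [L.IsStrictlyGE n]
    [I.IsStrictlyGE n] [∀ i, Injective (I.X i)]
    (f : (P.mapHomologicalComplex (ComplexShape.up ℤ)).obj L ⟶ I) [QuasiIso f] :
    QuasiIso (transposeC adj f) ↔ ∀ (K : CochainComplex A ℤ) (m : ℤ), K.IsStrictlyGE m →
      Function.Bijective fun g : DerivedCategory.Q.obj K ⟶ DerivedCategory.Q.obj L =>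
        P.mapDerivedCategory.map g := by
  haveI := CochainComplex.isKInjective_of_injective I n
  haveI := isKInjective_map adj I n
  haveI : IsIso (DerivedCategory.Q.map f) := inferInstance
  let θ : P.mapDerivedCategory.obj (DerivedCategory.Q.obj L) ⟶ DerivedCategory.Q.obj I :=
    P.mapDerivedCategoryFactors.hom.app L ≫ DerivedCategory.Q.map f
  let u := DerivedCategory.Q.map (transposeC adj f)
  let Φ := fun (K : CochainComplex A ℤ) (h : DerivedCategory.Q.obj K ⟶
      DerivedCategory.Q.obj ((R.mapHomologicalComplex (ComplexShape.up ℤ)).obj I)) =>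
    P.mapDerivedCategory.map h ≫ P.mapDerivedCategoryFactors.hom.app _ ≫ DerivedCategory.Q.map (counitC adj I)
  have key : ∀ (K : CochainComplex A ℤ) (g : DerivedCategory.Q.obj K ⟶ DerivedCategory.Q.obj L),
      Φ K (g ≫ u) = P.mapDerivedCategory.map g ≫ θ := fun K g => by
    have hn := P.mapDerivedCategoryFactors.hom.naturality (transposeC adj f)
    dsimp at hn
    simp only [Φ, u, θ, Functor.map_comp, Category.assoc]
    rw [reassoc_of% hn, ← Functor.map_comp, transposeC_counit]
  have hiff : ∀ K : CochainComplex A ℤ,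
      (Function.Bijective fun g : DerivedCategory.Q.obj K ⟶ DerivedCategory.Q.obj L =>
        P.mapDerivedCategory.map g) ↔
      Function.Bijective fun g : DerivedCategory.Q.obj K ⟶ DerivedCategory.Q.obj L => g ≫ u := fun K => by
    haveI : IsIso θ := by dsimp only [θ]; infer_instance
    rw [← Function.Bijective.of_comp_iff' (bijective_transposeD adj K I) (fun g => g ≫ u),
      ← Function.Bijective.of_comp_iff' (f := fun t => t ≫ θ)
        ⟨fun a b h => (cancel_mono θ).1 h, fun b => ⟨b ≫ inv θ, by simp⟩⟩
        (fun g : DerivedCategory.Q.obj K ⟶ DerivedCategory.Q.obj L => P.mapDerivedCategory.map g)]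
    exact iff_of_eq (congrArg _ (funext fun g => (key K g).symm))
  rw [← DerivedCategory.isIso_Q_map_iff_quasiIso]
  refine ⟨fun hu K m hK => (hiff K).2 ?_, fun h => ?_⟩
  · haveI : IsIso u := hu
    exact ⟨fun a b h => (cancel_mono u).1 h, fun b => ⟨b ≫ inv u, by simp⟩⟩
  · haveI : CochainComplex.IsStrictlyGE ((R.mapHomologicalComplex (ComplexShape.up ℤ)).obj I) n := inferInstance
    obtain ⟨v, hv⟩ := ((hiff _).1 (h _ n this)).2 (𝟙 _)
    dsimp at hv
    have hv' : u ≫ v = 𝟙 _ := ((hiff L).1 (h L n inferInstance)).1 (by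
      show (u ≫ v) ≫ u = 𝟙 _ ≫ u
      rw [Category.assoc, hv, Category.comp_id, Category.id_comp])
    exact ⟨v, hv', hv⟩

end Criterion

section Square

variable {A : Type u} [Category.{v} A] [Abelian A] {B : Type u'} [Category.{v'} B] [Abelian B]
  {A' : Type u''} [Category.{v''} A'] [Abelian A'] {B' : Type u'''} [Category.{v'''} B'] [Abelian B']
  {P : A ⥤ B} {R : B ⥤ A} (adj : P ⊣ R) {P' : A' ⥤ B'} {R' : B' ⥤ A'} (adj' : P' ⊣ R')
  {r : A ⥤ A'} {q : B ⥤ B'}

/-- The base change map of inverse images. -/
def pullBaseChange (γ : R ⋙ r ⟶ q ⋙ R') : r ⋙ P' ⟶ P ⋙ q where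
  app L := (adj'.homEquiv _ _).symm (r.map (adj.unit.app L) ≫ γ.app (P.obj L))
  naturality L L' φ := by
    show P'.map (r.map φ) ≫ _ = _ ≫ q.map (P.map φ)
    refine ((adj'.homEquiv_naturality_left_symm (r.map φ) (r.map (adj.unit.app L') ≫ γ.app (P.obj L'))).symm.trans
      ?_).trans (adj'.homEquiv_naturality_right_symm (r.map (adj.unit.app L) ≫ γ.app (P.obj L)) (q.map (P.map φ)))
    refine congrArg _ ?_
    have h := γ.naturality (P.map φ)
    dsimp at h
    rw [Category.assoc, ← h, ← Functor.map_comp_assoc, ← Functor.map_comp_assoc]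
    exact congrArg (fun t => r.map t ≫ _) (adj.unit.naturality φ)

variable [P.Additive] [R.Additive] [P'.Additive] [R'.Additive] [r.Additive] [q.Additive]
  [PreservesFiniteLimits P'] [PreservesFiniteColimits P'] [PreservesFiniteLimits R']
  [PreservesFiniteLimits q] [PreservesFiniteColimits q] [PreservesFiniteLimits r] [PreservesFiniteColimits r]

/-- The unit into an injective resolution stays a quasi-isomorphism after base change. -/
theorem quasiIso_map_transposeC (γ : R ⋙ r ⟶ q ⋙ R') (hγ : ∀ X, IsIso (γ.app X))
    (hβ : ∀ L, IsIso ((pullBaseChange adj adj' γ).app L)) (hq : ∀ J : B, Injective J → Injective (q.obj J))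
    (hbij : ∀ (K L : DerivedCategory.Plus A'),
      Function.Bijective fun g : K.obj ⟶ L.obj => P'.mapDerivedCategory.map g)
    {L : CochainComplex A ℤ} {I : CochainComplex B ℤ} (n : ℤ) [L.IsStrictlyGE n] [I.IsStrictlyGE n]
    [∀ i, Injective (I.X i)]
    (f : (P.mapHomologicalComplex (ComplexShape.up ℤ)).obj L ⟶ I) [QuasiIso f] :
    QuasiIso ((r.mapHomologicalComplex (ComplexShape.up ℤ)).map (transposeC adj f)) := by
  let c := ComplexShape.up ℤ
  let rL := (r.mapHomologicalComplex c).obj L
  let qI := (q.mapHomologicalComplex c).obj I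
  haveI : ∀ i, Injective (qI.X i) := fun i => hq _ inferInstance
  let b : (P'.mapHomologicalComplex c).obj rL ⟶
      (q.mapHomologicalComplex c).obj ((P.mapHomologicalComplex c).obj L) :=
    { f := fun i => (pullBaseChange adj adj' γ).app (L.X i)
      comm' := fun i j _ => ((pullBaseChange adj adj' γ).naturality (L.d i j)).symm }
  haveI : ∀ i, IsIso (b.f i) := fun i => hβ _
  haveI := HomologicalComplex.Hom.isIso_of_components b
  let f' : (P'.mapHomologicalComplex c).obj rL ⟶ qI := b ≫ (q.mapHomologicalComplex c).map f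
  haveI : QuasiIso f' := inferInstance
  haveI : CochainComplex.IsStrictlyGE qI n := inferInstance
  haveI : CochainComplex.IsStrictlyGE rL n := inferInstance
  have hu' : QuasiIso (transposeC adj' f') := (quasiIso_transposeC_iff adj' n f').2 fun K m hK =>
    haveI := hK
    hbij ⟨DerivedCategory.Q.obj K, m, inferInstance⟩ ⟨DerivedCategory.Q.obj rL, n, inferInstance⟩
  let g : (r.mapHomologicalComplex c).obj ((R.mapHomologicalComplex c).obj I) ⟶
      (R'.mapHomologicalComplex c).obj qI :=
    { f := fun i => γ.app (I.X i)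
      comm' := fun i j _ => (γ.naturality (I.d i j)).symm }
  haveI : ∀ i, IsIso (g.f i) := fun i => hγ _
  haveI := HomologicalComplex.Hom.isIso_of_components g
  have e : (r.mapHomologicalComplex c).map (transposeC adj f) ≫ g = transposeC adj' f' := by
    ext i
    show r.map (adj.homEquiv _ _ (f.f i)) ≫ γ.app _ =
      adj'.homEquiv _ _ ((pullBaseChange adj adj' γ).app (L.X i) ≫ q.map (f.f i))
    rw [adj'.homEquiv_naturality_right, adj.homEquiv_unit, Functor.map_comp, Category.assoc]
    simp only [pullBaseChange, Equiv.apply_symm_apply, Category.assoc]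
    exact congrArg (r.map _ ≫ ·) (γ.naturality (f.f i))
  rw [← quasiIso_iff_comp_right _ g, e]
  exact hu'

omit [P.Additive] [R.Additive] [P'.Additive] [R'.Additive] [r.Additive] [q.Additive]
  [PreservesFiniteLimits P'] [PreservesFiniteColimits P'] [PreservesFiniteLimits R']
  [PreservesFiniteLimits q] [PreservesFiniteColimits q] [PreservesFiniteLimits r] [PreservesFiniteColimits r] in
/-- The base change of inverse images is invertible when the base change of direct images is compatible
with fully faithful right adjoints of the restrictions. -/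
theorem isIso_pullBaseChange {r' : A' ⥤ A} (adjr : r ⊣ r') {q' : B' ⥤ B} (adjq : q ⊣ q')
    (δ : q' ⋙ R ≅ R' ⋙ r') (γ : R ⋙ r ⟶ q ⋙ R')
    (hγ : ∀ X, γ.app X = r.map (R.map (adjq.unit.app X)) ≫ r.map (δ.hom.app (q.obj X)) ≫
      adjr.counit.app (R'.obj (q.obj X))) (L : A) : IsIso ((pullBaseChange adj adj' γ).app L) := by
  rw [isIso_iff_coyoneda_map_bijective]
  intro Y
  let e : (q.obj (P.obj L) ⟶ Y) ≃ (P'.obj (r.obj L) ⟶ Y) :=
    (adjq.homEquiv _ _).trans ((adj.homEquiv _ _).trans
      ((Iso.homToEquiv (δ.app Y)).trans ((adjr.homEquiv _ _).symm.trans (adj'.homEquiv _ _).symm)))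
  have he : ∀ t, e t = (pullBaseChange adj adj' γ).app L ≫ t := fun t => by
    simp only [e, Equiv.trans_apply, Iso.homToEquiv_apply, Iso.app_hom, pullBaseChange]
    rw [← adj'.homEquiv_naturality_right_symm, Category.assoc, hγ]
    refine congrArg _ ?_
    show (adjr.homEquiv _ _).symm ((adj.homEquiv _ _ (adjq.homEquiv _ _ t)) ≫ δ.hom.app Y) = _
    simp only [Adjunction.homEquiv_counit, Adjunction.homEquiv_unit]
    have h1 := δ.hom.naturality t
    have h2 := adjr.counit.naturality (R'.map t)
    dsimp at h1 h2
    simp only [Functor.map_comp, Category.assoc]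
    rw [← h2, ← Functor.map_comp_assoc r (δ.hom.app (q.obj (P.obj L))), ← h1]
    simp only [Functor.map_comp, Category.assoc]
  exact (show (fun t => (pullBaseChange adj adj' γ).app L ≫ t) = e from funext fun t => (he t).symm) ▸ e.bijective

end Square

end Groth.Agent.FibDescLib
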