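import Groth.Agent.FibDescLib.Comparison
import Groth.Agent.FibDescLib.Derived

/-!
# Augmented simplicial spaces with an extra degeneracy are of cohomological descent
-/

set_option autoImplicit false
set_option backward.isDefEq.respectTransparency false
set_option backward.isDefEq.respectTransparency.types false
set_option linter.style.haveILetI false

universe u

noncomputable section

open CategoryTheory CategoryTheory.Limits Opposite TopologicalSpace Pseudofunctor.CoGrothendieck

attribute [local instance] HasDerivedCategory.standard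

namespace Groth.Agent.FibDescLib

variable {Y : Idx ⥤ TopCat.{u}}

instance preservesFiniteLimits_extY : PreservesFiniteLimits (extY Y) :=
  haveI : RepresentablyFlat (epsY Y) := representablyFlat_eps Y
  haveI : PreservesFiniteLimits ((epsY Y).op.lan : _ ⥤ (Tot Y)ᵒᵖ ⥤ Ab0.{u}) :=
    lan_preservesFiniteLimits_of_flat Ab0.{u} (epsY Y)
  Functor.sheafPullbackConstruction.preservesFiniteLimits (epsY Y) Ab0.{u} (botTop Y) (totA Y)

instance preservesFiniteLimits_secPullSh (p : Y ⟶ dec Y) : PreservesFiniteLimits (secPullSh p) :=
  haveI : PreservesFiniteLimits ((secPull p).op.lan : _ ⥤ (Tot Y)ᵒᵖ ⥤ Ab0.{u}) :=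
    lan_preservesFiniteLimits_of_flat Ab0.{u} (secPull p)
  Functor.sheafPullbackConstruction.preservesFiniteLimits (secPull p) Ab0.{u} (totA (dec Y)) (totA Y)

instance preservesFiniteColimits_extY : PreservesFiniteColimits (extY Y) :=
  haveI : PreservesColimitsOfSize.{0, 0} (extY Y) := (extAdj Y).leftAdjoint_preservesColimits
  inferInstance

instance preservesFiniteColimits_secPullSh (p : Y ⟶ dec Y) : PreservesFiniteColimits (secPullSh p) :=
  haveI : PreservesColimitsOfSize.{0, 0} (secPullSh p) := (secAdj p).leftAdjoint_preservesColimits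
  inferInstance

instance preservesFiniteColimits_inclRes : PreservesFiniteColimits (inclRes Y) :=
  haveI : PreservesColimitsOfSize.{0, 0} (inclRes Y) :=
    ((FibDesc.incl (FibDesc.topAug Y)).sheafAdjunctionCocontinuous Ab0.{u} (totP Y) (totA Y)).leftAdjoint_preservesColimits
  inferInstance

instance preservesFiniteColimits_decRes : PreservesFiniteColimits (decRes Y) :=
  haveI : PreservesColimitsOfSize.{0, 0} (decRes Y) :=
    ((decIncl Y).sheafAdjunctionCocontinuous Ab0.{u} (totA (dec Y)) (totP Y)).leftAdjoint_preservesColimits
  inferInstance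

instance preservesFiniteColimits_restrY : PreservesFiniteColimits (restrY Y) :=
  haveI : PreservesColimitsOfSize.{0, 0} (restrY Y) :=
    ((epsY Y).sheafAdjunctionCocontinuous Ab0.{u} (botTop Y) (totA Y)).leftAdjoint_preservesColimits
  inferInstance

instance preservesFiniteLimits_decRes : PreservesFiniteLimits (decRes Y) :=
  haveI : (decRes Y).IsRightAdjoint := inferInstance
  haveI : PreservesLimitsOfSize.{0, 0} (decRes Y) := (Adjunction.ofIsRightAdjoint _).rightAdjoint_preservesLimits
  inferInstance

instance preservesFiniteLimits_inclRes : PreservesFiniteLimits (inclRes Y) :=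
  haveI : (inclRes Y).IsRightAdjoint := inferInstance
  haveI : PreservesLimitsOfSize.{0, 0} (inclRes Y) := (Adjunction.ofIsRightAdjoint _).rightAdjoint_preservesLimits
  inferInstance

instance preservesFiniteLimits_restrY : PreservesFiniteLimits (restrY Y) :=
  haveI : PreservesLimitsOfSize.{0, 0} (restrY Y) := (extAdj Y).rightAdjoint_preservesLimits
  inferInstance

/-- An augmented simplicial space whose decalage projection has a section is of cohomological descent. -/
theorem isCohDescentTop_of_extra (p : Y ⟶ dec Y) (hp : p ≫ decProj Y = 𝟙 Y) :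
    FibDesc.IsCohDescentTop Y := by
  let P := extY Y ⋙ inclRes Y
  let R := shiftAug p ⋙ restrY Y
  let S := shiftAug p ⋙ inclRes Y
  haveI : PreservesFiniteLimits P := comp_preservesFiniteLimits _ _
  haveI : PreservesFiniteColimits P := comp_preservesFiniteColimits _ _
  haveI : PreservesFiniteLimits (shiftAug p) := comp_preservesFiniteLimits _ _
  haveI : PreservesFiniteColimits (shiftAug p) := comp_preservesFiniteColimits _ _
  haveI : PreservesFiniteLimits R := comp_preservesFiniteLimits _ _
  haveI : PreservesFiniteColimits R := comp_preservesFiniteColimits _ _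
  haveI : PreservesFiniteLimits S := comp_preservesFiniteLimits _ _
  haveI : PreservesFiniteColimits S := comp_preservesFiniteColimits _ _
  haveI : P.Additive := Functor.additive_of_preserves_binary_products _
  haveI : R.Additive := Functor.additive_of_preserves_binary_products _
  haveI : S.Additive := Functor.additive_of_preserves_binary_products _
  haveI := fun H => isIso_shiftUnitAug_ext p hp H
  have hα : ∀ H, IsIso ((shiftUnit p hp).app (P.obj H)) := fun H => by
    show IsIso ((shiftUnit p hp).app ((inclRes Y).obj ((extY Y).obj H)))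
    rw [shiftUnit_inclRes]
    infer_instance
  let β : R ⋙ P ⟶ S :=
    { app := fun G => (inclRes Y).map ((extAdj Y).counit.app ((shiftAug p).obj G))
      naturality := fun G G' φ => by
        show (inclRes Y).map ((extY Y).map ((restrY Y).map ((shiftAug p).map φ))) ≫ _ =
          _ ≫ (inclRes Y).map ((shiftAug p).map φ)
        rw [← Functor.map_comp, ← Functor.map_comp]
        exact congrArg (inclRes Y).map ((extAdj Y).counit.naturality ((shiftAug p).map φ)) }
  have hβ : ∀ H, IsIso (β.app (P.obj H)) := fun H => by
    haveI : IsIso ((extAdj Y).counit.app ((shiftAug p).obj ((inclRes Y).obj ((extY Y).obj H)))) :=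
      (NatTrans.isIso_app_iff_of_iso (extAdj Y).counit (asIso (shiftUnitAug p hp ((extY Y).obj H)))).1 inferInstance
    exact (inclRes Y).map_isIso ((extAdj Y).counit.app ((shiftAug p).obj ((inclRes Y).obj ((extY Y).obj H))))
  let ρ : P ⋙ R ≅ 𝟭 _ := (NatIso.ofComponents (F := 𝟭 _) (G := P ⋙ R)
    (fun H => @asIso _ _ _ _ (((extAdj Y).unit.app H : (𝟭 _).obj H ⟶ (restrY Y).obj ((extY Y).obj H)) ≫
      (restrY Y).map (shiftUnitAug p hp ((extY Y).obj H)) : (𝟭 _).obj H ⟶ (P ⋙ R).obj H) inferInstance)
    fun {H H'} φ => by
      have h1 := (extAdj Y).unit.naturality φ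
      have h2 : (extY Y).map φ ≫ shiftUnitAug p hp ((extY Y).obj H') =
          shiftUnitAug p hp ((extY Y).obj H) ≫ (shiftAug p).map ((inclRes Y).map ((extY Y).map φ)) :=
        shiftUnitAug_naturality p hp _
      show φ ≫ _ = (_ ≫ _) ≫ (restrY Y).map ((shiftAug p).map ((inclRes Y).map ((extY Y).map φ)))
      dsimp at h1 ⊢
      rw [Category.assoc, ← Functor.map_comp]
      refine Eq.trans ?_ (congrArg (fun t => _ ≫ (restrY Y).map t) h2)
      rw [Functor.map_comp, reassoc_of% h1]).symm
  exact ⟨inferInstance, inferInstance, inferInstance, inferInstance, inferInstance,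
    (inferInstanceAs (PreservesFiniteLimits P)),
    fun K L => bijective_mapDerived_of_retraction P R S (shiftUnit p hp) β ρ hα hβ K.obj L.obj⟩

end Groth.Agent.FibDescLib
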