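import Groth.Agent.FibDescLib.Decalage
import Mathlib.CategoryTheory.Sites.PreservesLocallyBijective
import Mathlib.CategoryTheory.Functor.KanExtension.Adjunction
import Mathlib.CategoryTheory.Sites.Pullback
import Mathlib.CategoryTheory.Sites.LocallyBijective
import Mathlib.CategoryTheory.Sites.Abelian
import Mathlib.CategoryTheory.Adjunction.FullyFaithful

/-!
# Inverse images from the base are invariant under the decalage
-/

set_option autoImplicit false
set_option backward.isDefEq.respectTransparency false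
set_option backward.isDefEq.respectTransparency.types false

universe u

noncomputable section

open CategoryTheory CategoryTheory.Limits Opposite TopologicalSpace Pseudofunctor.CoGrothendieck

namespace Groth.Agent.FibDescLib

/-- Abelian groups. -/
abbrev Ab0 : Type (u + 1) := AddCommGrpCat.{u}

variable (Y : Idx ⥤ TopCat.{u})

/-- The base topology. -/
abbrev botTop : GrothendieckTopology (Opens (Y.obj (FibDesc.bot SimplexCategory))) :=
  Opens.grothendieckTopology (Y.obj (FibDesc.bot SimplexCategory))

/-- The base fibre. -/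
abbrev epsY : Opens (Y.obj (FibDesc.bot SimplexCategory)) ⥤ Tot Y := FibDesc.eps (FibDesc.topAug Y)

instance isContinuous_epsY : (epsY Y).IsContinuous (botTop Y) (totA Y) := isContinuous_eps Y

/-- Extension from the base. -/
abbrev extY : Sheaf (botTop Y) Ab0.{u} ⥤ Sheaf (totA Y) Ab0.{u} :=
  (epsY Y).sheafPullback Ab0.{u} (botTop Y) (totA Y)

/-- Restriction to the base. -/
abbrev restrY : Sheaf (totA Y) Ab0.{u} ⥤ Sheaf (botTop Y) Ab0.{u} :=
  (epsY Y).sheafPushforwardContinuous Ab0.{u} (botTop Y) (totA Y)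

/-- Extension is left adjoint to restriction. -/
abbrev extAdj : extY Y ⊣ restrY Y := (epsY Y).sheafAdjunctionContinuous Ab0.{u} (botTop Y) (totA Y)

instance isCocontinuous_eps : (epsY Y).IsCocontinuous (botTop Y) (totA Y) := isCocontinuous_ι _ (hJ Y) _

instance full_eps : (epsY Y).Full where
  map_surjective {U V} f :=
    ⟨(homOfLE (show (U : Opens (Y.obj _)) ≤ V by
      have h := tHom_le f
      rw [hom_bot_ext f.base (𝟙 _), Y.map_id] at h
      exact h) : U ⟶ V), hom_ext' (hom_bot_ext _ _)⟩

instance faithful_eps : (epsY Y).Faithful where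
  map_injective _ := Subsingleton.elim _ _

theorem subsingleton_hom_eps (A : Tot Y) (U : Opens (Y.obj (FibDesc.bot SimplexCategory))) :
    Subsingleton (A ⟶ (epsY Y).obj U) :=
  ⟨fun f g => hom_ext' (hom_bot_ext _ _)⟩

variable {Y} (H : Sheaf (botTop Y) Ab0.{u})

/-- The unit on presheaves. -/
abbrev extUnit : H.obj ⟶ (epsY Y).op ⋙ ((extY Y).obj H).obj := ((extAdj Y).unit.app H).hom

/-- The presheaf extension. -/
abbrev lanY : (Tot Y)ᵒᵖ ⥤ Ab0.{u} := (epsY Y).op.leftKanExtension H.obj

/-- Its unit. -/
abbrev lanUnitY : H.obj ⟶ (epsY Y).op ⋙ lanY H := (epsY Y).op.leftKanExtensionUnit H.obj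

/-- The sheafification map. -/
def lanComparison : lanY H ⟶ ((extY Y).obj H).obj :=
  (lanY H).descOfIsLeftKanExtension (lanUnitY H) _ (extUnit H)

theorem lanUnit_comparison :
    lanUnitY H ≫ Functor.whiskerLeft (epsY Y).op (lanComparison H) = extUnit H :=
  (lanY H).descOfIsLeftKanExtension_fac _ _ _

theorem W_lanComparison : (totA Y).W (lanComparison H) := fun M hM => by
  let e₁ := ((extAdj Y).homEquiv H ⟨M, hM⟩)
  let e₂ := (lanY H).homEquivOfIsLeftKanExtension (lanUnitY H) M
  refine (Function.Bijective.of_comp_iff' e₂.bijective _).1 ?_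
  have hfun : e₂ ∘ (fun f : ((extY Y).obj H).obj ⟶ M => lanComparison H ≫ f) =
      (fun g : H ⟶ (restrY Y).obj ⟨M, hM⟩ => g.hom) ∘ e₁ ∘
        fun f => (⟨f⟩ : (extY Y).obj H ⟶ ⟨M, hM⟩) := funext fun f => by
    show lanUnitY H ≫ Functor.whiskerLeft (epsY Y).op (lanComparison H ≫ f) = _
    rw [Functor.whiskerLeft_comp, ← Category.assoc, lanUnit_comparison]
    show _ = ((extAdj Y).homEquiv H ⟨M, hM⟩ ⟨f⟩).hom
    rw [Adjunction.homEquiv_unit]
    rfl
  rw [hfun]
  have hb₁ : Function.Bijective fun g : H ⟶ (restrY Y).obj ⟨M, hM⟩ => g.hom :=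
    ⟨fun a b h => Sheaf.hom_ext h, fun g => ⟨⟨g⟩, rfl⟩⟩
  have hb₂ : Function.Bijective fun f : ((extY Y).obj H).obj ⟶ M => (⟨f⟩ : (extY Y).obj H ⟶ ⟨M, hM⟩) :=
    ⟨fun a b h => congrArg (fun t => t.hom) h, fun g => ⟨g.hom, rfl⟩⟩
  exact hb₁.comp (e₁.bijective.comp hb₂)

instance isIso_extUnit : IsIso ((extAdj Y).unit.app H) := by
  haveI : ∀ X, IsIso ((lanUnitY H).app X) := fun X =>
    ((epsY Y).op.isPointwiseLeftKanExtensionLeftKanExtensionUnit H.obj _).isIso_hom_app
  haveI : IsIso (lanUnitY H) := NatIso.isIso_of_isIso_app _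
  haveI := GrothendieckTopology.W.isLocallyInjective (W_lanComparison H)
  haveI := GrothendieckTopology.W.isLocallySurjective (W_lanComparison H)
  haveI := Presheaf.isLocallyInjective_whisker (botTop Y) (totA Y) (epsY Y) (f := lanComparison H)
  haveI := Presheaf.isLocallySurjective_whisker (botTop Y) (totA Y) (epsY Y) (f := lanComparison H)
  have h2 : (botTop Y).W (Functor.whiskerLeft (epsY Y).op (lanComparison H)) :=
    GrothendieckTopology.W_of_isLocallyBijective _ _
  have h : (botTop Y).W (lanUnitY H ≫ Functor.whiskerLeft (epsY Y).op (lanComparison H)) :=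
    MorphismProperty.RespectsIso.precomp (botTop Y).W (lanUnitY H) _ h2
  rw [lanUnit_comparison] at h
  exact ((botTop Y).W_sheafToPresheaf_map_iff_isIso _).1 h

instance isIso_extCounit : IsIso ((extAdj Y).counit.app ((extY Y).obj H)) := by
  haveI : IsIso ((extY Y).map ((extAdj Y).unit.app H) ≫ (extAdj Y).counit.app ((extY Y).obj H)) := by
    rw [(extAdj Y).left_triangle_components H]; exact IsIso.id _
  exact IsIso.of_isIso_comp_left ((extY Y).map ((extAdj Y).unit.app H)) _

/-! ### The base of the decalage -/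

variable (Y) in
/-- The base open of the decalage over a base open. -/
abbrev decBase : Opens (Y.obj (FibDesc.bot SimplexCategory)) ⥤ Tot (dec Y) := epsY Y ⋙ projPull

theorem subsingleton_hom_decBase (Z : Tot (dec Y)) (U : Opens (Y.obj (FibDesc.bot SimplexCategory))) :
    Subsingleton (Z ⟶ (decBase Y).obj U) :=
  ⟨fun f g => hom_ext' (hom_bot_ext _ _)⟩

/-- An arrow into a base open from the decalage. -/
theorem nonempty_hom_decBase (Z : Tot (dec Y)) (U : Opens (Y.obj (FibDesc.bot SimplexCategory)))
    (g : (decAug Y).obj Z ⟶ (epsY Y).obj U) : Nonempty (Z ⟶ (decBase Y).obj U) := by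
  refine ⟨tHom (Y := dec Y) (toBot Z.base) fun x hx => ?_⟩
  have h := tHom_le g hx
  show (decProj Y).app (FibDesc.bot SimplexCategory) ((dec Y).map (toBot Z.base) x) ∈ U
  have e : (dec Y).map (toBot Z.base) ≫ (decProj Y).app (FibDesc.bot SimplexCategory) = Y.map g.base := by
    show Y.map _ ≫ Y.map _ = _
    rw [← Y.map_comp]
    exact congrArg Y.map (hom_bot_ext _ _)
  exact (show (decProj Y).app (FibDesc.bot SimplexCategory) ((dec Y).map (toBot Z.base) x) = Y.map g.base x from
    ConcreteCategory.congr_hom e x) ▸ h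

variable (Y) in
/-- Arrows into base opens correspond. -/
def decCostructured (Z : Tot (dec Y)) :
    CostructuredArrow (decBase Y).op (op Z) ⥤ CostructuredArrow (epsY Y).op (op ((decAug Y).obj Z)) where
  obj j := CostructuredArrow.mk (Y := j.left)
    (((projCounit (Y := Y)).app ((epsY Y).obj j.left.unop)).op ≫ ((decAug Y).map j.hom.unop).op)
  map h := CostructuredArrow.homMk h.left (Quiver.Hom.unop_inj ((subsingleton_hom_eps Y _ _).elim _ _))
  map_id _ := CostructuredArrow.hom_ext _ _ rfl
  map_comp _ _ := CostructuredArrow.hom_ext _ _ rfl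

instance (Z : Tot (dec Y)) : (decCostructured Y Z).IsEquivalence :=
  haveI : (decCostructured Y Z).Faithful :=
    ⟨fun {j k} f g h => CostructuredArrow.hom_ext _ _ (Quiver.Hom.unop_inj (Subsingleton.elim _ _))⟩
  haveI : (decCostructured Y Z).Full :=
    ⟨fun {j k} f => ⟨CostructuredArrow.homMk f.left
        (Quiver.Hom.unop_inj ((subsingleton_hom_decBase _ _).elim _ _)),
      CostructuredArrow.hom_ext _ _ rfl⟩⟩
  haveI : (decCostructured Y Z).EssSurj :=
    ⟨fun j => by
      obtain ⟨g⟩ := nonempty_hom_decBase Z j.left.unop j.hom.unop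
      exact ⟨CostructuredArrow.mk (Y := j.left) g.op,
        ⟨CostructuredArrow.isoMk (Iso.refl _) (Quiver.Hom.unop_inj ((subsingleton_hom_eps Y _ _).elim _ _))⟩⟩⟩
  {}

/-- The unit of the extension to the decalage. -/
def decUnit : H.obj ⟶ (decBase Y).op ⋙ ((decAug Y).op ⋙ lanY H) :=
  lanUnitY H ≫ Functor.whiskerLeft (epsY Y).op (Functor.whiskerRight (NatTrans.op (projCounit (Y := Y))) (lanY H))

theorem isLeftKanExtension_decUnit :
    ((decAug Y).op ⋙ lanY H).IsLeftKanExtension (decUnit H) := by
  refine Functor.LeftExtension.IsPointwiseLeftKanExtension.isLeftKanExtension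
    (E := Functor.LeftExtension.mk _ (decUnit H)) fun Z => ?_
  have h := (epsY Y).op.isPointwiseLeftKanExtensionLeftKanExtensionUnit H.obj (op ((decAug Y).obj Z.unop))
  refine IsColimit.ofIsoColimit (h.whiskerEquivalence (decCostructured Y Z.unop).asEquivalence)
    (Cocone.ext (Iso.refl _) fun j => ?_)
  refine (Category.comp_id _).trans ?_
  simp [decCostructured, decUnit, Functor.LeftExtension.coconeAt]
  exact congrArg ((lanUnitY H).app j.left ≫ ·) ((lanY H).map_comp _ _)

variable {p : Y ⟶ dec Y}

/-- The comparison on abelian sheaves. -/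
theorem bijective_decUnit (Q : Sheaf (totA (dec Y)) Ab0.{u}) :
    Function.Bijective fun g : (decAug Y).op ⋙ ((extY Y).obj H).obj ⟶ Q.obj =>
      (extUnit H ≫ Functor.whiskerLeft (epsY Y).op
        (Functor.whiskerRight (NatTrans.op (projCounit (Y := Y))) ((extY Y).obj H).obj)) ≫
        Functor.whiskerLeft (decBase Y).op g := by
  haveI := isLeftKanExtension_decUnit H
  haveI := GrothendieckTopology.W.isLocallyInjective (W_lanComparison H)
  haveI := GrothendieckTopology.W.isLocallySurjective (W_lanComparison H)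
  haveI : (decAug Y).IsCocontinuous (totA (dec Y)) (totA Y) := CategoryTheory.isCocontinuous_comp (decIncl Y) (FibDesc.incl (FibDesc.topAug Y)) (totA (dec Y)) (totP Y) (L := totA Y)
  haveI := Presheaf.isLocallyInjective_whisker (totA (dec Y)) (totA Y) (decAug Y) (f := lanComparison H)
  haveI := Presheaf.isLocallySurjective_whisker (totA (dec Y)) (totA Y) (decAug Y) (f := lanComparison H)
  have hW : (totA (dec Y)).W (Functor.whiskerLeft (decAug Y).op (lanComparison H)) :=
    GrothendieckTopology.W_of_isLocallyBijective _ _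
  have h := (((decAug Y).op ⋙ lanY H).homEquivOfIsLeftKanExtension (decUnit H) Q.obj).bijective.comp
    (hW Q.obj Q.property)
  refine (congrArg Function.Bijective ?_).mpr h
  funext g
  refine NatTrans.ext (funext fun U => ?_)
  have h1 := NatTrans.congr_app (lanUnit_comparison H) U
  have h2 := (lanComparison H).naturality ((projCounit (Y := Y)).app ((epsY Y).obj U.unop)).op
  simp [decUnit, Functor.homEquivOfIsLeftKanExtension] at h1 ⊢
  rw [← h1, Category.assoc]

end Groth.Agent.FibDescLib
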