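import Groth.Agent.FibDescLib.GridSheaf

/-!
# Exactness of extensions along reindexings
-/

set_option autoImplicit false
set_option backward.isDefEq.respectTransparency false
set_option backward.isDefEq.respectTransparency.types false
set_option linter.style.haveILetI false

universe u

noncomputable section

open CategoryTheory CategoryTheory.Limits Opposite TopologicalSpace Pseudofunctor.CoGrothendieck

namespace Groth.Agent.FibDescLib

section Colim

variable {C : Type u} [SmallCategory C] {K : Type u} (kf : C → K) (hk : ∀ {j j' : C}, (j ⟶ j') → kf j = kf j')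
  (D : C ⥤ Ab0.{u})

/-- The part of the diagram in a component. -/
abbrev compDiag (k : K) : ObjectProperty.FullSubcategory (fun j => kf j = k) ⥤ Ab0.{u} :=
  ObjectProperty.ι _ ⋙ D

include hk in
theorem mono_of_components {D' : C ⥤ Ab0.{u}} (φ : D ⟶ D') (hφ : ∀ j, Mono (φ.app j))
    (hF : ∀ k, IsFilteredOrEmpty (ObjectProperty.FullSubcategory (fun j => kf j = k)))
    (hne : ∀ k, Nonempty (ObjectProperty.FullSubcategory (fun j => kf j = k)))
    {c : Cocone D} (hc : IsColimit c) {c' : Cocone D'} (hc' : IsColimit c') (g : c.pt ⟶ c'.pt)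
    (hg : ∀ j, c.ι.app j ≫ g = φ.app j ≫ c'.ι.app j) : Mono g := by
  let E : ∀ (G : C ⥤ Ab0.{u}), Cocone G := fun G =>
    { pt := ∐ fun k : K => colimit (compDiag kf G k)
      ι :=
        { app := fun j => colimit.ι (compDiag kf G (kf j)) ⟨j, rfl⟩ ≫ Sigma.ι (fun k => colimit (compDiag kf G k)) (kf j)
          naturality := fun j j' f => by
            have e : ∀ (j : C) (k : K) (h : kf j = k),
                colimit.ι (compDiag kf G (kf j)) ⟨j, rfl⟩ ≫ Sigma.ι (fun k => colimit (compDiag kf G k)) (kf j) =
                  colimit.ι (compDiag kf G k) ⟨j, h⟩ ≫ Sigma.ι (fun k => colimit (compDiag kf G k)) k := by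
              intro j k h; subst h; rfl
            rw [e j (kf j') (hk f)]
            simp only [Functor.const_obj_obj, Functor.const_obj_map, Category.comp_id]
            let x : ObjectProperty.FullSubcategory (fun i => kf i = kf j') := ⟨j, hk f⟩
            let y : ObjectProperty.FullSubcategory (fun i => kf i = kf j') := ⟨j', rfl⟩
            let f' : x ⟶ y := ObjectProperty.homMk f
            exact (Category.assoc _ _ _).symm.trans (congrArg (· ≫ _) (colimit.w (compDiag kf G (kf j')) f')) } }
  have hE : ∀ G, IsColimit (E G) := fun G =>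
    { desc := fun s => Sigma.desc fun k => colimit.desc (compDiag kf G k)
        { pt := s.pt
          ι := { app := fun j => s.ι.app j.obj
                 naturality := fun j j' f => by simp } }
      fac := fun s j => by simp [E]
      uniq := fun s m hm => Sigma.hom_ext _ _ fun k => colimit.hom_ext fun j => by
        obtain ⟨j, rfl⟩ := j
        simpa [E] using hm j }
  haveI : ∀ k, IsFiltered (ObjectProperty.FullSubcategory (fun j => kf j = k)) := fun k =>
    haveI := hF k
    haveI := hne k
    {}
  let a : ∀ k, colimit (compDiag kf D k) ⟶ colimit (compDiag kf D' k) := fun k =>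
    colim.map (Functor.whiskerLeft (ObjectProperty.ι _) φ)
  haveI : ∀ k, Mono (a k) := fun k => by
    haveI : ∀ j, Mono ((Functor.whiskerLeft (ObjectProperty.ι (fun j => kf j = k)) φ).app j) := fun j => hφ j.obj
    haveI : Mono (Functor.whiskerLeft (ObjectProperty.ι (fun j => kf j = k)) φ) := NatTrans.mono_of_mono_app _
    exact (colim (J := ObjectProperty.FullSubcategory (fun j => kf j = k)) (C := Ab0.{u})).map_mono _
  let Φ : Discrete.functor (fun k => colimit (compDiag kf D k)) ⟶ Discrete.functor (fun k => colimit (compDiag kf D' k)) :=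
    Discrete.natTrans fun k => a k.as
  haveI : ∀ k, Mono (Φ.app k) := fun k => inferInstanceAs (Mono (a k.as))
  haveI : Mono Φ := NatTrans.mono_of_mono_app _
  haveI : Mono (colim.map Φ) := (colim (J := Discrete K) (C := Ab0.{u})).map_mono _
  have e : g = ((hc.coconePointUniqueUpToIso (hE D)).hom ≫ colim.map Φ) ≫
      (hc'.coconePointUniqueUpToIso (hE D')).inv := by
    refine hc.hom_ext fun j => ?_
    rw [hg, ← Category.assoc, ← Category.assoc, hc.comp_coconePointUniqueUpToIso_hom]
    simp only [E, Category.assoc]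
    rw [colimit.ι_map_assoc]
    simp only [Φ, a, Discrete.natTrans_app, colim_map, ι_colimMap_assoc]
    exact congrArg (φ.app j ≫ ·) (hc'.comp_coconePointUniqueUpToIso_inv (hE D') j).symm
  rw [e]
  exact @mono_comp _ _ _ _ _ _ (@mono_comp _ _ _ _ _ _ inferInstance _ inferInstance) _ inferInstance

end Colim

variable {𝒮 𝒯 : Type} [SmallCategory 𝒮] [SmallCategory 𝒯]
  {Z : 𝒮 ⥤ TopCat.{u}} {W : 𝒯 ⥤ TopCat.{u}} (m : FamMap W Z) (A : TT Z)

/-- The index of a structured arrow. -/
abbrev baseArrow (V : StructuredArrow A m.re) : StructuredArrow A.base m.idx :=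
  StructuredArrow.mk (Y := V.right.base) V.hom.base

variable {A}

theorem exists_over_two {c : StructuredArrow A.base m.idx} {V V' : StructuredArrow A m.re}
    (k : c ⟶ baseArrow m A V) (k' : c ⟶ baseArrow m A V') :
    ∃ (Z' : StructuredArrow A m.re) (_ : Z' ⟶ V) (_ : Z' ⟶ V'), Nonempty (c ⟶ baseArrow m A Z') := by
  let r : 𝒯 := c.right
  let f : A.base ⟶ m.idx.obj r := c.hom
  let a : r ⟶ V.right.base := k.right
  let a' : r ⟶ V'.right.base := k'.right
  have ha : f ≫ m.idx.map a = V.hom.base := StructuredArrow.w k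
  have ha' : f ≫ m.idx.map a' = V'.hom.base := StructuredArrow.w k'
  have key : ∀ (V : StructuredArrow A m.re) (a : r ⟶ V.right.base), f ≫ m.idx.map a = V.hom.base →
      gfib A ≤ (Opens.map (Z.map f)).obj ((Opens.map (m.back r)).obj ((Opens.map (W.map a)).obj (gfib V.right))) := by
    intro V a ha x hx
    show W.map a (m.iso.inv.app r (Z.map f x)) ∈ gfib V.right
    rw [iso_inv_map]
    have h : m.iso.inv.app V.right.base (Z.map V.hom.base x) ∈ gfib V.right := gHom_le V.hom hx
    rw [← ha, Z.map_comp] at h
    exact h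
  let U : Opens (W.obj r) := (Opens.map (W.map a)).obj (gfib V.right) ⊓ (Opens.map (W.map a')).obj (gfib V'.right)
  let Z' : StructuredArrow A m.re := StructuredArrow.mk (Y := gObj r U)
    (gHom f (fun x hx => ⟨key V a ha hx, key V' a' ha' hx⟩))
  exact ⟨Z', StructuredArrow.homMk (gHom a inf_le_left) (hom_ext' ha),
    StructuredArrow.homMk (gHom a' inf_le_right) (hom_ext' ha'),
    ⟨StructuredArrow.homMk (𝟙 r) ((congrArg (f ≫ ·) (m.idx.map_id r)).trans (Category.comp_id f))⟩⟩

theorem exists_equalizing {c : StructuredArrow A.base m.idx} {V V' : StructuredArrow A m.re}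
    (k : c ⟶ baseArrow m A V) (hu : Subsingleton (c ⟶ baseArrow m A V')) (f g : V ⟶ V') :
    ∃ (Z' : StructuredArrow A m.re) (h : Z' ⟶ V), h ≫ f = h ≫ g ∧ Nonempty (c ⟶ baseArrow m A Z') := by
  let r : 𝒯 := c.right
  let e : A.base ⟶ m.idx.obj r := c.hom
  let a : r ⟶ V.right.base := k.right
  have ha : e ≫ m.idx.map a = V.hom.base := StructuredArrow.w k
  let Z' : StructuredArrow A m.re := StructuredArrow.mk (Y := gObj r ((Opens.map (W.map a)).obj (gfib V.right)))
    (gHom e (fun x hx => by
      show W.map a (m.iso.inv.app r (Z.map e x)) ∈ gfib V.right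
      rw [iso_inv_map]
      have h : m.iso.inv.app V.right.base (Z.map V.hom.base x) ∈ gfib V.right := gHom_le V.hom hx
      rw [← ha, Z.map_comp] at h
      exact h))
  refine ⟨Z', StructuredArrow.homMk (gHom a le_rfl) (hom_ext' ha), StructuredArrow.ext _ _ (hom_ext' ?_),
    ⟨StructuredArrow.homMk (𝟙 r) ((congrArg (e ≫ ·) (m.idx.map_id r)).trans (Category.comp_id e))⟩⟩
  exact congrArg CommaMorphism.right (hu.elim
    (k ≫ StructuredArrow.homMk (f := baseArrow m A V) (f' := baseArrow m A V') f.right.base
      (congrArg (fun t => t.base) (StructuredArrow.w f)))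
    (k ≫ StructuredArrow.homMk (f := baseArrow m A V) (f' := baseArrow m A V') g.right.base
      (congrArg (fun t => t.base) (StructuredArrow.w g))))

theorem representablyFlat_re (h : ∀ a : 𝒮, HasInitial (StructuredArrow a m.idx)) : RepresentablyFlat m.re := by
  constructor
  intro A
  haveI := h A.base
  refine @IsCofiltered.mk _ _ ?_ ?_
  · constructor
    · intro V V'
      obtain ⟨Z', a, b, -⟩ := exists_over_two m (initial.to (baseArrow m A V)) (initial.to (baseArrow m A V'))
      exact ⟨Z', a, b, trivial⟩
    · intro V V' f g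
      obtain ⟨Z', a, e, -⟩ := exists_equalizing m (initial.to (baseArrow m A V)) inferInstance f g
      exact ⟨Z', a, e⟩
  · let c := ⊥_ (StructuredArrow A.base m.idx)
    exact ⟨StructuredArrow.mk (Y := gObj c.right ⊤) (gHom c.hom (by intro x _; trivial))⟩

/-- The indices of the structured arrows fall into components each having an initial object. -/
def HasComponentwiseInitial (φ : 𝒯 ⥤ 𝒮) : Prop :=
  ∀ a : 𝒮, ∃ (K : Type) (c : K → StructuredArrow a φ), ∀ j, ∃! x : Σ k, (c k ⟶ j), True

theorem preservesMonomorphisms_lan (h : HasComponentwiseInitial m.idx) :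
    (m.re.op.lan (H := Ab0.{u})).PreservesMonomorphisms := ⟨fun {P Q} φ _ => by
  haveI : ∀ B, Mono ((m.re.op.lan.map φ).app B) := fun B => by
    obtain ⟨A⟩ := B
    obtain ⟨K, c, hc⟩ := h A.base
    let J := CostructuredArrow m.re.op (op A)
    let sa : J → StructuredArrow A m.re := fun j => StructuredArrow.mk j.hom.unop
    let kf : J → ULift.{u} K := fun j => ⟨(hc (baseArrow m A (sa j))).choose.1⟩
    have kspec : ∀ (j : J) (k : K), (c k ⟶ baseArrow m A (sa j)) → kf j = ⟨k⟩ := fun j k f => by
      have := (hc (baseArrow m A (sa j))).choose_spec.2 ⟨k, f⟩ trivial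
      exact congrArg ULift.up (congrArg Sigma.fst this).symm
    have kne : ∀ j : J, Nonempty (c (kf j).down ⟶ baseArrow m A (sa j)) := fun j =>
      ⟨(hc (baseArrow m A (sa j))).choose.2⟩
    have hu : ∀ (k : K) (j : StructuredArrow A m.re), Subsingleton (c k ⟶ baseArrow m A j) := fun k j =>
      ⟨fun f g => eq_of_heq (Sigma.mk.inj_iff.1 ((hc (baseArrow m A j)).unique (y₁ := ⟨k, f⟩) (y₂ := ⟨k, g⟩) trivial trivial)).2⟩
    have hk : ∀ {j j' : J}, (j ⟶ j') → kf j = kf j' := fun {j j'} f => by
      obtain ⟨e⟩ := kne j'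
      exact kspec j (kf j').down (e ≫ StructuredArrow.homMk
        (f := baseArrow m A (sa j')) (f' := baseArrow m A (sa j)) f.left.unop.base
        (congrArg (fun t => t.unop.base) (CostructuredArrow.w f)))
    refine mono_of_components kf hk (D := CostructuredArrow.proj _ _ ⋙ P)
      (Functor.whiskerLeft (CostructuredArrow.proj _ _) φ)
      (fun j => inferInstanceAs (Mono (φ.app j.left))) (fun k => ⟨fun j j' => ?_, fun {j j'} f g => ?_⟩) (fun k => ?_)
      (m.re.op.isPointwiseLeftKanExtensionLeftKanExtensionUnit P (op A))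
      (m.re.op.isPointwiseLeftKanExtensionLeftKanExtensionUnit Q (op A)) _ fun j => ?_
    · obtain ⟨e⟩ : Nonempty (c k.down ⟶ baseArrow m A (sa j.obj)) := by
        have := kne j.obj
        rwa [show kf j.obj = k from j.property] at this
      obtain ⟨e'⟩ : Nonempty (c k.down ⟶ baseArrow m A (sa j'.obj)) := by
        have := kne j'.obj
        rwa [show kf j'.obj = k from j'.property] at this
      obtain ⟨Z', a, b, ⟨ez⟩⟩ := exists_over_two m (c := c k.down) e e'
      let z : J := CostructuredArrow.mk (Y := op Z'.right) Z'.hom.op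
      exact ⟨⟨z, kspec z k.down ez⟩,
        ObjectProperty.homMk (CostructuredArrow.homMk a.right.op (Quiver.Hom.unop_inj (StructuredArrow.w a))),
        ObjectProperty.homMk (CostructuredArrow.homMk b.right.op (Quiver.Hom.unop_inj (StructuredArrow.w b))), trivial⟩
    · obtain ⟨e'⟩ : Nonempty (c k.down ⟶ baseArrow m A (sa j'.obj)) := by
        have := kne j'.obj
        rwa [show kf j'.obj = k from j'.property] at this
      obtain ⟨Z', a, ea, ⟨ez⟩⟩ := exists_equalizing m (V := sa j'.obj) (V' := sa j.obj) (c := c k.down)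
        e' (hu _ _)
        (StructuredArrow.homMk f.hom.left.unop (congrArg Quiver.Hom.unop (CostructuredArrow.w f.hom)))
        (StructuredArrow.homMk g.hom.left.unop (congrArg Quiver.Hom.unop (CostructuredArrow.w g.hom)))
      let z : J := CostructuredArrow.mk (Y := op Z'.right) Z'.hom.op
      exact ⟨⟨z, kspec z k.down ez⟩,
        ObjectProperty.homMk (CostructuredArrow.homMk a.right.op (Quiver.Hom.unop_inj (StructuredArrow.w a))),
        ObjectProperty.hom_ext _ (CostructuredArrow.hom_ext _ _
          (Quiver.Hom.unop_inj (congrArg CommaMorphism.right ea)))⟩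
    · let z : J := CostructuredArrow.mk (Y := op (gObj (c k.down).right (⊤ : Opens (W.obj (c k.down).right))))
        (gHom (B := m.re.obj (gObj (c k.down).right ⊤)) (c k.down).hom (by intro x _; trivial)).op
      exact ⟨⟨z, kspec z k.down (𝟙 (c k.down))⟩⟩
    · have h1 := NatTrans.congr_app (m.re.op.lanUnit.naturality φ) j.left
      dsimp [Functor.lanUnit] at h1
      show ((m.re.op.leftKanExtensionUnit P).app j.left ≫ (m.re.op.lan.obj P).map j.hom) ≫ (m.re.op.lan.map φ).app (op A) =
        φ.app j.left ≫ (m.re.op.leftKanExtensionUnit Q).app j.left ≫ (m.re.op.lan.obj Q).map j.hom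
      refine (Category.assoc _ _ _).trans ?_
      refine (congrArg (_ ≫ ·) ((m.re.op.lan.map φ).naturality j.hom)).trans ?_
      refine (Category.assoc _ _ _).symm.trans ?_
      refine (congrArg (· ≫ _) h1.symm).trans ?_
      exact Category.assoc _ _ _
  exact NatTrans.mono_of_mono_app _⟩

/-- Restriction preserves injective objects. -/
theorem injective_res (h : HasComponentwiseInitial m.idx) (J : GSh Z) (hJ : Injective J) :
    Injective (m.res.obj J) := by
  haveI := preservesMonomorphisms_lan m h
  haveI : (presheafToSheaf (TJ Z) Ab0.{u}).PreservesMonomorphisms := inferInstance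
  haveI : (sheafToPresheaf (TJ W) Ab0.{u}).PreservesMonomorphisms := inferInstance
  haveI : (Functor.sheafPullbackConstruction.sheafPullback m.re Ab0.{u} (TJ W) (TJ Z)).PreservesMonomorphisms :=
    inferInstanceAs (sheafToPresheaf (TJ W) Ab0.{u} ⋙ m.re.op.lan ⋙ presheafToSheaf (TJ Z) Ab0.{u}).PreservesMonomorphisms
  haveI := hJ
  exact Injective.injective_of_adjoint
    (Functor.sheafPullbackConstruction.sheafAdjunctionContinuous m.re Ab0.{u} (TJ W) (TJ Z)) J

end Groth.Agent.FibDescLib
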