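import Groth.Agent.FibDescLib.RestrictSheaf
import Mathlib.CategoryTheory.Abelian.GrothendieckAxioms.Sheaf

/-!
# Cohomological descent is local on the base
-/

set_option autoImplicit false
set_option backward.isDefEq.respectTransparency false
set_option backward.isDefEq.respectTransparency.types false
set_option linter.style.haveILetI false

universe u

noncomputable section

open CategoryTheory CategoryTheory.Limits Opposite TopologicalSpace Pseudofunctor.CoGrothendieck Topology

attribute [local instance] HasDerivedCategory.standard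

namespace Groth.Agent.FibDescLib

variable {Y Y' : Idx ⥤ TopCat.{u}} {h : Y' ⟶ Y} (hh : IsRestriction h)

theorem mono_lan_map_app {P Q : (∫ᶜ (FibDesc.part (FibDesc.topAug Y')))ᵒᵖ ⥤ Ab0.{u}} (φ : P ⟶ Q) [Mono φ]
    (A : (∫ᶜ (FibDesc.part (FibDesc.topAug Y)))ᵒᵖ) :
    Mono (((resImPart hh).op.lan.map φ).app A) := by
  obtain ⟨A⟩ := A
  let L := (resImPart hh).op
  have hP := L.isPointwiseLeftKanExtensionLeftKanExtensionUnit P (op A)
  have hQ := L.isPointwiseLeftKanExtensionLeftKanExtensionUnit Q (op A)
  by_cases hA : ∃ B, Nonempty (A ⟶ (resImPart hh).obj B)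
  · obtain ⟨B, ⟨g⟩⟩ := hA
    have hsub := subset_range_of_hom hh (B := inclObj B)
      (A := inclObj A) ((FibDesc.incl (FibDesc.topAug Y)).map g)
    haveI := isIso_resAdjPart_counit hh hsub
    let c' : A ⟶ (resImPart hh).obj ((resPrePart h).obj A) :=
      partHom (Z := Y) (R := A.base) (U := fib (inclObj A))
        (V := (imOpen hh _).obj ((Opens.map (h.app _)).obj (fib (inclObj A)))) (fun x hx => by
          obtain ⟨y, rfl⟩ := hsub hx
          exact ⟨y, hx, rfl⟩)
    let T : CostructuredArrow L (op A) := CostructuredArrow.mk (Y := op ((resPrePart h).obj A)) c'.op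
    have hT : IsTerminal T := IsTerminal.ofUniqueHom
      (fun j => CostructuredArrow.homMk
        (((resPrePart h).map j.hom.unop ≫
          (mkHom (X := (resPrePart h).obj ((resImPart hh).obj j.left.unop)) (Y := j.left.unop) (𝟙 _)
            (partHom (Z := Y') (R := j.left.unop.base) (pre_im_le hh (inclObj j.left.unop))).fiber)).op)
        (Quiver.Hom.unop_inj (hom_ext' (by
          show 𝟙 A.base ≫ (j.hom.unop.base ≫ 𝟙 j.left.unop.base) = j.hom.unop.base
          exact (Category.id_comp _).trans (Category.comp_id _)))))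
      fun j m => CostructuredArrow.hom_ext _ _ (Quiver.Hom.unop_inj (hom_ext' (by
        have e := congrArg (fun t => t.unop.base) (CostructuredArrow.w m)
        show m.left.unop.base = j.hom.unop.base ≫ 𝟙 _
        rw [Category.comp_id]
        exact ((Category.id_comp _).symm).trans e)))
    haveI := hP.isIso_ι_app_of_isTerminal T hT
    haveI := hQ.isIso_ι_app_of_isTerminal T hT
    let cP := (Functor.LeftExtension.mk _ (L.leftKanExtensionUnit P)).coconeAt (op A)
    let cQ := (Functor.LeftExtension.mk _ (L.leftKanExtensionUnit Q)).coconeAt (op A)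
    have e : cP.ι.app T ≫ (L.lan.map φ).app (op A) = φ.app T.left ≫ cQ.ι.app T := by
      have h1 := NatTrans.congr_app (L.lanUnit.naturality φ) T.left
      dsimp [Functor.lanUnit] at h1
      show ((L.leftKanExtensionUnit P).app T.left ≫ (L.lan.obj P).map T.hom) ≫ (L.lan.map φ).app (op A) =
        φ.app T.left ≫ (L.leftKanExtensionUnit Q).app T.left ≫ (L.lan.obj Q).map T.hom
      refine (Category.assoc _ _ _).trans ?_
      refine (congrArg (_ ≫ ·) ((L.lan.map φ).naturality T.hom)).trans ?_
      refine (Category.assoc _ _ _).symm.trans ?_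
      refine (congrArg (· ≫ _) h1.symm).trans ?_
      exact Category.assoc _ _ _
    haveI : IsIso (cP.ι.app T) := hP.isIso_ι_app_of_isTerminal T hT
    haveI : IsIso (cQ.ι.app T) := hQ.isIso_ι_app_of_isTerminal T hT
    haveI : Mono (φ.app T.left) := inferInstance
    haveI : Mono (cP.ι.app T ≫ (L.lan.map φ).app (op A)) := by
      rw [e]; exact mono_comp _ _
    have e2 : (L.lan.map φ).app (op A) = inv (cP.ι.app T) ≫ (cP.ι.app T ≫ (L.lan.map φ).app (op A)) := by simp
    rw [e2]
    exact mono_comp _ _
  · have hzero : IsZero ((L.lan.obj P).obj (op A)) := by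
      refine (IsZero.iff_id_eq_zero _).2 (hP.hom_ext fun j => ?_)
      exact absurd ⟨j.left.unop, ⟨j.hom.unop⟩⟩ hA
    exact ⟨fun {Z} a b _ => hzero.eq_of_tgt a b⟩

theorem preservesMonomorphisms_qPartLeft :
    (Functor.sheafPullbackConstruction.sheafPullback (resImPart hh) Ab0.{u}
      (totP Y') (totP Y)).PreservesMonomorphisms := by
  haveI : ((resImPart hh).op.lan (H := Ab0.{u})).PreservesMonomorphisms := ⟨fun φ _ => by
    haveI : ∀ A, Mono (((resImPart hh).op.lan.map φ).app A) := mono_lan_map_app hh φ
    exact NatTrans.mono_of_mono_app _⟩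
  haveI : (presheafToSheaf (totP Y) Ab0.{u}).PreservesMonomorphisms := inferInstance
  haveI : (sheafToPresheaf (totP Y') Ab0.{u}).PreservesMonomorphisms := inferInstance
  exact inferInstanceAs
    (sheafToPresheaf (totP Y') Ab0.{u} ⋙ (resImPart hh).op.lan ⋙ presheafToSheaf (totP Y) Ab0.{u}).PreservesMonomorphisms

theorem injective_qPart (J : PSh Y) (hJ : Injective J) : Injective ((qPart hh).obj J) := by
  haveI := preservesMonomorphisms_qPartLeft hh
  haveI := hJ
  exact Injective.injective_of_adjoint
    (Functor.sheafPullbackConstruction.sheafAdjunctionContinuous (resImPart hh) Ab0.{u} (totP Y') (totP Y)) J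

instance preservesFiniteLimits_pullY (Z : Idx ⥤ TopCat.{u}) : PreservesFiniteLimits (pullY Z) :=
  comp_preservesFiniteLimits _ _

instance preservesFiniteColimits_pullY (Z : Idx ⥤ TopCat.{u}) : PreservesFiniteColimits (pullY Z) :=
  comp_preservesFiniteColimits _ _

instance additive_pullY (Z : Idx ⥤ TopCat.{u}) : (pullY Z).Additive :=
  Functor.additive_of_preserves_binary_products _

instance preservesFiniteLimits_pushY (Z : Idx ⥤ TopCat.{u}) : PreservesFiniteLimits (pushY Z) :=
  haveI : PreservesLimitsOfSize.{0, 0} (pushY Z) := (pullPushAdj Z).rightAdjoint_preservesLimits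
  inferInstance

instance additive_pushY (Z : Idx ⥤ TopCat.{u}) : (pushY Z).Additive :=
  Functor.additive_of_preserves_binary_products _

instance preservesFiniteLimits_rBot : PreservesFiniteLimits (rBot hh) :=
  haveI : (rBot hh).IsRightAdjoint := inferInstance
  haveI : PreservesLimitsOfSize.{0, 0} (rBot hh) := (Adjunction.ofIsRightAdjoint _).rightAdjoint_preservesLimits
  inferInstance

instance preservesFiniteColimits_rBot : PreservesFiniteColimits (rBot hh) :=
  haveI : PreservesColimitsOfSize.{0, 0} (rBot hh) := (rBotAdj hh).leftAdjoint_preservesColimits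
  inferInstance

instance additive_rBot : (rBot hh).Additive := Functor.additive_of_preserves_binary_products _

instance preservesFiniteLimits_qPart : PreservesFiniteLimits (qPart hh) :=
  haveI : (qPart hh).IsRightAdjoint := inferInstance
  haveI : PreservesLimitsOfSize.{0, 0} (qPart hh) := (Adjunction.ofIsRightAdjoint _).rightAdjoint_preservesLimits
  inferInstance

instance preservesFiniteColimits_qPart : PreservesFiniteColimits (qPart hh) :=
  haveI : PreservesColimitsOfSize.{0, 0} (qPart hh) := (qPartAdj hh).leftAdjoint_preservesColimits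
  inferInstance

instance additive_qPart : (qPart hh).Additive := Functor.additive_of_preserves_binary_products _

variable {ι : Type*} {Z : ι → Idx ⥤ TopCat.{u}} {g : ∀ i, Z i ⟶ Y} (hg : ∀ i, IsRestriction (g i))
  (hcov : ∀ y : Y.obj (FibDesc.bot SimplexCategory), ∃ i, y ∈ Set.range ((g i).app (FibDesc.bot SimplexCategory)))

include hcov in
/-- Restrictions along a covering of the base reflect isomorphisms. -/
theorem isIso_of_isIso_rBot {F G : BSh Y} (φ : F ⟶ G) (hφ : ∀ i, IsIso ((rBot (hg i)).map φ)) : IsIso φ := by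
  have key : ∀ (i : ι) (W : Opens (Y.obj (FibDesc.bot SimplexCategory))),
      (W : Set (Y.obj (FibDesc.bot SimplexCategory))) ⊆ Set.range ((g i).app _) →
      IsIso (φ.hom.app (op W)) := fun i W hW => by
    haveI : IsIso (φ.hom.app (op ((imBot (hg i)).obj ((Opens.map ((g i).app _)).obj W)))) :=
      haveI := hφ i
      inferInstanceAs (IsIso (((sheafToPresheaf _ _).map ((rBot (hg i)).map φ)).app
        (op ((Opens.map ((g i).app _)).obj W))))
    have e : (imBot (hg i)).obj ((Opens.map ((g i).app _)).obj W) = W := by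
      ext x
      exact ⟨fun ⟨y, hy, e⟩ => e ▸ hy, fun hx => by obtain ⟨y, rfl⟩ := hW hx; exact ⟨y, hx, rfl⟩⟩
    exact e ▸ this
  let rng : ι → Opens (Y.obj (FibDesc.bot SimplexCategory)) := fun i =>
    ⟨Set.range ((g i).app _), ((hg i).isOpenEmbedding _).isOpen_range⟩
  haveI : Presheaf.IsLocallyInjective (botTop Y) φ.hom := ⟨fun {W} s t hst x hx => by
    obtain ⟨i, hi⟩ := hcov x
    refine ⟨W.unop ⊓ rng i, homOfLE inf_le_left, ?_, ⟨hx, hi⟩⟩
    haveI := key i (W.unop ⊓ rng i) (fun y hy => hy.2)
    apply ((ConcreteCategory.bijective_of_isIso (φ.hom.app (op (W.unop ⊓ rng i))))).1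
    rw [NatTrans.naturality_apply, NatTrans.naturality_apply, hst]⟩
  haveI : Presheaf.IsLocallySurjective (botTop Y) φ.hom := ⟨fun {W} s x hx => by
    obtain ⟨i, hi⟩ := hcov x
    refine ⟨W ⊓ rng i, homOfLE inf_le_left, ?_, ⟨hx, hi⟩⟩
    haveI := key i (W ⊓ rng i) (fun y hy => hy.2)
    exact ((ConcreteCategory.bijective_of_isIso (φ.hom.app (op (W ⊓ rng i))))).2 _⟩
  exact ((botTop Y).W_sheafToPresheaf_map_iff_isIso _).1 (GrothendieckTopology.W_of_isLocallyBijective (botTop Y) φ.hom)

include hcov in
/-- Restrictions along a covering of the base reflect quasi-isomorphisms. -/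
theorem quasiIso_of_quasiIso_rBot {K L : CochainComplex (BSh Y) ℤ} (u : K ⟶ L)
    (hu : ∀ i, QuasiIso (((rBot (hg i)).mapHomologicalComplex (ComplexShape.up ℤ)).map u)) : QuasiIso u := by
  refine (quasiIso_iff _).2 fun n => ?_
  rw [quasiIsoAt_iff]
  let φ := (HomologicalComplex.shortComplexFunctor (BSh Y) (ComplexShape.up ℤ) n).map u
  have γ : ShortComplex.LeftHomologyMapData φ (K.sc n).leftHomologyData (L.sc n).leftHomologyData := default
  rw [γ.quasiIso_iff]
  refine isIso_of_isIso_rBot hg hcov γ.φH fun i => ?_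
  have h1 := (quasiIso_iff _).1 (hu i) n
  rw [quasiIsoAt_iff] at h1
  have h2 := (γ.map (rBot (hg i))).quasiIso_iff.1 h1
  rwa [ShortComplex.LeftHomologyMapData.map_φH] at h2

include hg hcov in
/-- An augmented simplicial space is of cohomological descent if it is so locally on the base. -/
theorem isCohDescentTop_of_local (hd : ∀ i, FibDesc.IsCohDescentTop (Z i)) : FibDesc.IsCohDescentTop Y := by
  refine ⟨inferInstance, inferInstance, inferInstance, inferInstance, inferInstance,
    preservesFiniteLimits_pullY Y, fun K L => ?_⟩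
  show Function.Bijective fun t : K.obj ⟶ L.obj => (pullY Y).mapDerivedCategory.map t
  obtain ⟨n, hn⟩ := L.property
  haveI : L.obj.IsGE n := hn
  obtain ⟨Lc, _, ⟨eL⟩⟩ := DerivedCategory.exists_iso_Q_obj_of_isGE L.obj n
  obtain ⟨m, hm⟩ := K.property
  haveI : K.obj.IsGE m := hm
  obtain ⟨Kc, _, ⟨eK⟩⟩ := DerivedCategory.exists_iso_Q_obj_of_isGE K.obj m
  haveI : CochainComplex.IsStrictlyGE (((pullY Y).mapHomologicalComplex (ComplexShape.up ℤ)).obj Lc) n :=
    inferInstance
  obtain ⟨I, f, hI₁, hI₂, hI₃⟩ := CochainComplex.Plus.modelCategoryQuillen.exists_quasiIso_injective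
    (((pullY Y).mapHomologicalComplex (ComplexShape.up ℤ)).obj Lc) n
  have hu : QuasiIso (transposeC (pullPushAdj Y) f) := quasiIso_of_quasiIso_rBot hg hcov _ fun i => by
    obtain ⟨_, _, _, _, _, _, hbij⟩ := hd i
    exact quasiIso_map_transposeC (pullPushAdj Y) (pullPushAdj (Z i)) (pushBaseChange (hg i))
      (isIso_pushBaseChange (hg i)) (isIso_pullBaseChange_restrict (hg i)) (injective_qPart (hg i)) hbij n f
  have hb := (quasiIso_transposeC_iff (pullPushAdj Y) n f).1 hu Kc m inferInstance
  let e : (K.obj ⟶ L.obj) ≃ (DerivedCategory.Q.obj Kc ⟶ DerivedCategory.Q.obj Lc) := eK.homCongr eL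
  let F := (pullY Y).mapDerivedCategory
  refine (Function.Bijective.of_comp_iff' ((F.mapIso eK).homCongr (F.mapIso eL)).bijective _).1 ?_
  have hfun : ((F.mapIso eK).homCongr (F.mapIso eL)) ∘ (fun t : K.obj ⟶ L.obj => F.map t) =
      (fun t => F.map t) ∘ e := funext fun t => by
    simp [e, Iso.homCongr]
  rw [hfun]
  exact hb.comp e.bijective

end Groth.Agent.FibDescLib
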