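import Groth.Agent.FibDescLib.GridFlat
import Groth.Agent.FibDescLib.DerivedComp
import Groth.Agent.FibDescLib.LocalDescent

/-!
# Augmented diagrams of spaces: full faithfulness levelwise
-/

set_option autoImplicit false
set_option backward.isDefEq.respectTransparency false
set_option backward.isDefEq.respectTransparency.types false
set_option linter.style.haveILetI false

universe u

noncomputable section

open CategoryTheory CategoryTheory.Limits Opposite TopologicalSpace Pseudofunctor.CoGrothendieck

attribute [local instance] HasDerivedCategory.standard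

namespace Groth.Agent.FibDescLib

variable {SB SP SH : Type} [SmallCategory SB] [SmallCategory SP] [SmallCategory SH]
  {B : SB ⥤ TopCat.{u}} {P : SP ⥤ TopCat.{u}} {H : SH ⥤ TopCat.{u}}

instance preservesFiniteLimits_res {W : SP ⥤ TopCat.{u}} {Z : SH ⥤ TopCat.{u}} (m : FamMap W Z) :
    PreservesFiniteLimits m.res :=
  haveI : PreservesLimitsOfSize.{0, 0} m.res := m.extAdj.rightAdjoint_preservesLimits
  inferInstance

instance preservesFiniteColimits_res {W : SP ⥤ TopCat.{u}} {Z : SH ⥤ TopCat.{u}} (m : FamMap W Z) :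
    PreservesFiniteColimits m.res :=
  haveI : PreservesColimitsOfSize.{0, 0} m.res := m.ranAdj.leftAdjoint_preservesColimits
  inferInstance

instance preservesFiniteColimits_ext {W : SP ⥤ TopCat.{u}} {Z : SH ⥤ TopCat.{u}} (m : FamMap W Z) :
    PreservesFiniteColimits m.ext :=
  haveI : PreservesColimitsOfSize.{0, 0} m.ext := m.extAdj.leftAdjoint_preservesColimits
  inferInstance

instance preservesFiniteLimits_ext {W : SP ⥤ TopCat.{u}} {Z : SH ⥤ TopCat.{u}} (m : FamMap W Z)
    [RepresentablyFlat m.re] : PreservesFiniteLimits m.ext :=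
  haveI : PreservesFiniteLimits (m.re.op.lan : _ ⥤ (TT Z)ᵒᵖ ⥤ Ab0.{u}) :=
    lan_preservesFiniteLimits_of_flat Ab0.{u} m.re
  Functor.sheafPullbackConstruction.preservesFiniteLimits m.re Ab0.{u} (TJ W) (TJ Z)

instance additive_res {W : SP ⥤ TopCat.{u}} {Z : SH ⥤ TopCat.{u}} (m : FamMap W Z) : m.res.Additive :=
  Functor.additive_of_preserves_binary_products _

/-- The inverse image of an augmentation. -/
abbrev legPull (e : FamMap B H) (p : FamMap P H) : GSh B ⥤ GSh P := e.ext ⋙ p.res

/-- The direct image of an augmentation. -/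
abbrev legPush (e : FamMap B H) (p : FamMap P H) : GSh P ⥤ GSh B := p.ran ⋙ e.res

/-- Their adjunction. -/
abbrev legAdj (e : FamMap B H) (p : FamMap P H) : legPull e p ⊣ legPush e p := e.extAdj.comp p.ranAdj

variable (e : FamMap B H) (p : FamMap P H)

instance preservesFiniteColimits_legPull : PreservesFiniteColimits (legPull e p) :=
  comp_preservesFiniteColimits _ _

instance additive_ext {W : SP ⥤ TopCat.{u}} {Z : SH ⥤ TopCat.{u}} (m : FamMap W Z) : m.ext.Additive :=
  m.extAdj.left_adjoint_additive

instance additive_legPull : (legPull e p).Additive := inferInstance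

instance preservesFiniteLimits_legPush : PreservesFiniteLimits (legPush e p) :=
  haveI : PreservesLimitsOfSize.{0, 0} (legPush e p) := (legAdj e p).rightAdjoint_preservesLimits
  inferInstance

instance additive_legPush : (legPush e p).Additive := Functor.additive_of_preserves_binary_products _

instance preservesFiniteLimits_legPull [RepresentablyFlat e.re] : PreservesFiniteLimits (legPull e p) :=
  comp_preservesFiniteLimits _ _

section Restrict

variable {SB' SP' SH' : Type} [SmallCategory SB'] [SmallCategory SP'] [SmallCategory SH']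
  {B' : SB' ⥤ TopCat.{u}} {P' : SP' ⥤ TopCat.{u}} {H' : SH' ⥤ TopCat.{u}}
  {e p} {e' : FamMap B' H'} {p' : FamMap P' H'} {b : FamMap B' B} {q : FamMap P' P} {h : FamMap H' H}
  (sE : FamSquare e' b h e) (sP : FamSquare q p' p h)

/-- The base change of direct images of augmentations. -/
def legBaseChange : legPush e p ⋙ b.res ⟶ q.res ⋙ legPush e' p' where
  app X := sE.resIso.hom.app (p.ran.obj X) ≫ e'.res.map (sP.ranBC.app X)
  naturality X X' φ := by
    have h1 := sE.resIso.hom.naturality (p.ran.map φ)
    have h2 := sP.ranBC.naturality φ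
    dsimp only [Functor.comp_obj, Functor.comp_map] at h1 h2 ⊢
    rw [reassoc_of% h1, Category.assoc, ← Functor.map_comp, h2, Functor.map_comp]

theorem isIso_legBaseChange (hP : sP.idxSquare.GuitartExact) (X : GSh P) : IsIso ((legBaseChange sE sP).app X) := by
  haveI := sP.isIso_ranBC_app hP X
  dsimp only [legBaseChange]
  infer_instance

theorem isIso_legPullBaseChange (hE : sE.idxSquare.GuitartExact) (X : GSh B) :
    IsIso ((pullBaseChange (legAdj e p) (legAdj e' p') (legBaseChange sE sP)).app X) := by
  haveI := sE.isIso_extBC hE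
  let z : e'.ext.obj (b.res.obj X) ⟶ h.res.obj (e.ext.obj X) := sE.extBC.app X
  let κ : p'.res.obj (h.res.obj (e.ext.obj X)) ⟶ q.res.obj (p.res.obj (e.ext.obj X)) :=
    sP.resIso.hom.app (e.ext.obj X)
  have hκ : p'.ranAdj.homEquiv _ _ κ =
      h.res.map (p.ranAdj.unit.app (e.ext.obj X)) ≫ sP.ranBC.app (p.res.obj (e.ext.obj X)) := by
    refine Eq.trans ?_ (p'.ranAdj.homEquiv_naturality_left _ _)
    refine congrArg _ ?_
    have h1 := sP.resIso.hom.naturality (p.ranAdj.unit.app (e.ext.obj X))
    dsimp only [Functor.comp_obj, Functor.comp_map] at h1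
    refine Eq.symm ((Category.assoc _ _ _).symm.trans ((congrArg (· ≫ _) h1).trans ((Category.assoc _ _ _).trans ?_)))
    refine (congrArg (_ ≫ ·) ?_).trans (Category.comp_id _)
    exact (q.res.map_comp _ _).symm.trans ((congrArg q.res.map (p.ranAdj.left_triangle_components _)).trans
      (q.res.map_id _))
  have heq : (pullBaseChange (legAdj e p) (legAdj e' p') (legBaseChange sE sP)).app X = p'.res.map z ≫ κ := by
    refine ((legAdj e' p').homEquiv _ _).injective ?_
    simp only [pullBaseChange, Equiv.apply_symm_apply]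
    rw [Adjunction.comp_homEquiv]
    show _ = e'.extAdj.homEquiv _ _ (p'.ranAdj.homEquiv _ _ (p'.res.map z ≫ κ))
    have hz : e'.extAdj.homEquiv _ _ z = b.res.map (e.extAdj.unit.app X) ≫ sE.resIso.hom.app (e.ext.obj X) :=
      sE.homEquiv_extBC X
    rw [Adjunction.homEquiv_naturality_left, hκ, Adjunction.homEquiv_naturality_right, hz]
    simp only [Adjunction.comp_unit_app, Functor.comp_obj, Functor.comp_map, Functor.map_comp, Category.assoc,
      legBaseChange]
    have h2 := sE.resIso.hom.naturality (p.ranAdj.unit.app (e.ext.obj X))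
    dsimp only [Functor.comp_obj, Functor.comp_map] at h2
    rw [reassoc_of% h2]
  rw [heq]
  infer_instance

end Restrict

/-- The levels of an augmented diagram. -/
structure LegLevel (e : FamMap B H) (p : FamMap P H) where
  /-- The base index. -/
  SB' : Type
  /-- The part index. -/
  SP' : Type
  /-- The total index. -/
  SH' : Type
  [catB : SmallCategory SB']
  [catP : SmallCategory SP']
  [catH : SmallCategory SH']
  /-- The base. -/
  B' : SB' ⥤ TopCat.{u}
  /-- The part. -/
  P' : SP' ⥤ TopCat.{u}
  /-- The total diagram. -/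
  H' : SH' ⥤ TopCat.{u}
  /-- The base map. -/
  e' : FamMap B' H'
  /-- The part map. -/
  p' : FamMap P' H'
  /-- The restriction of the base. -/
  b : FamMap B' B
  /-- The restriction of the part. -/
  q : FamMap P' P
  /-- The restriction of the total diagram. -/
  h : FamMap H' H
  sE : FamSquare e' b h e
  sP : FamSquare q p' p h
  hE : sE.idxSquare.GuitartExact
  hP : sP.idxSquare.GuitartExact
  hq : HasComponentwiseInitial q.idx
  flat : RepresentablyFlat e'.re
  ff : @FFPlus _ _ _ _ _ _ (legPull e' p') (additive_legPull e' p')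
    (@preservesFiniteLimits_legPull _ _ _ _ _ _ _ _ _ e' p' flat) (preservesFiniteColimits_legPull e' p')

attribute [instance] LegLevel.catB LegLevel.catP LegLevel.catH

variable {e p}

theorem isIso_of_isIso_levels {ι : Type} (l : ι → LegLevel e p)
    (hcov : ∀ a : SB, ∃ (i : ι) (a' : (l i).SB'), Nonempty ((l i).b.idx.obj a' ≅ a))
    {F G : GSh B} (φ : F ⟶ G) (hφ : ∀ i, IsIso ((l i).b.res.map φ)) : IsIso φ := by
  haveI : ∀ A, IsIso (φ.hom.app A) := fun A => by
    obtain ⟨A⟩ := A
    obtain ⟨i, a', ⟨ι₀⟩⟩ := hcov A.base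
    let m := (l i).b
    let A' : TT (l i).B' := gObj a' ((Opens.map (m.iso.hom.app a' ≫ B.map ι₀.hom)).obj (gfib A))
    let f : m.re.obj A' ⟶ A := gHom ι₀.hom (fun x hx => by
      have h' : B.map ι₀.hom (m.iso.hom.app a' (m.iso.inv.app a' x)) ∈ gfib A := hx
      rw [iso_hom_inv] at h'
      exact h')
    let g : A ⟶ m.re.obj A' := gHom ι₀.inv (fun x hx => by
      show B.map ι₀.hom (m.iso.hom.app a' (m.iso.inv.app a' (B.map ι₀.inv x))) ∈ gfib A
      rw [iso_hom_inv, ← TopCat.comp_app, ← B.map_comp, ι₀.inv_hom_id, B.map_id]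
      exact hx)
    let eA : m.re.obj A' ≅ A := ⟨f, g, hom_ext' ι₀.hom_inv_id, hom_ext' ι₀.inv_hom_id⟩
    haveI := hφ i
    haveI : IsIso (φ.hom.app (op (m.re.obj A'))) :=
      inferInstanceAs (IsIso (((sheafToPresheaf _ _).map (m.res.map φ)).app (op A')))
    exact (NatTrans.isIso_app_iff_of_iso φ.hom eA.op).2 inferInstance
  haveI : IsIso ((sheafToPresheaf _ _).map φ) := NatIso.isIso_of_isIso_app φ.hom
  exact isIso_of_reflects_iso φ (sheafToPresheaf _ _)

/-- An augmented diagram is fully faithful if it is so on every level. -/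
theorem ffPlus_of_levels [RepresentablyFlat e.re] {ι : Type} (l : ι → LegLevel e p)
    (hcov : ∀ a : SB, ∃ (i : ι) (a' : (l i).SB'), Nonempty ((l i).b.idx.obj a' ≅ a)) :
    FFPlus (legPull e p) := fun K L => by
  obtain ⟨n, hn⟩ := L.property
  haveI : L.obj.IsGE n := hn
  obtain ⟨Lc, _, ⟨eL⟩⟩ := DerivedCategory.exists_iso_Q_obj_of_isGE L.obj n
  obtain ⟨m, hm⟩ := K.property
  haveI : K.obj.IsGE m := hm
  obtain ⟨Kc, _, ⟨eK⟩⟩ := DerivedCategory.exists_iso_Q_obj_of_isGE K.obj m
  haveI : CochainComplex.IsStrictlyGE (((legPull e p).mapHomologicalComplex (ComplexShape.up ℤ)).obj Lc) n :=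
    inferInstance
  obtain ⟨I, f, hI₁, hI₂, hI₃⟩ := CochainComplex.Plus.modelCategoryQuillen.exists_quasiIso_injective
    (((legPull e p).mapHomologicalComplex (ComplexShape.up ℤ)).obj Lc) n
  have hu : QuasiIso (transposeC (legAdj e p) f) := by
    refine (quasiIso_iff _).2 fun k => ?_
    rw [quasiIsoAt_iff]
    let φ := (HomologicalComplex.shortComplexFunctor (GSh B) (ComplexShape.up ℤ) k).map (transposeC (legAdj e p) f)
    have γ : ShortComplex.LeftHomologyMapData φ (Lc.sc k).leftHomologyData
        (HomologicalComplex.sc (((legPush e p).mapHomologicalComplex (ComplexShape.up ℤ)).obj I) k).leftHomologyData :=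
      default
    rw [γ.quasiIso_iff]
    refine isIso_of_isIso_levels l hcov γ.φH fun i => ?_
    haveI := (l i).flat
    have hq := quasiIso_map_transposeC (legAdj e p) (legAdj (l i).e' (l i).p') (legBaseChange (l i).sE (l i).sP)
      (isIso_legBaseChange (l i).sE (l i).sP (l i).hP) (isIso_legPullBaseChange (l i).sE (l i).sP (l i).hE)
      (injective_res (l i).q (l i).hq) (l i).ff n f
    have h1 := (quasiIso_iff _).1 hq k
    rw [quasiIsoAt_iff] at h1
    have h2 := (γ.map (l i).b.res).quasiIso_iff.1 h1
    rwa [ShortComplex.LeftHomologyMapData.map_φH] at h2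
  have hb := (quasiIso_transposeC_iff (legAdj e p) n f).1 hu Kc m inferInstance
  let F := (legPull e p).mapDerivedCategory
  refine (Function.Bijective.of_comp_iff' ((F.mapIso eK).homCongr (F.mapIso eL)).bijective _).1 ?_
  have hfun : ((F.mapIso eK).homCongr (F.mapIso eL)) ∘ (fun t : K.obj ⟶ L.obj => F.map t) =
      (fun t => F.map t) ∘ eK.homCongr eL := funext fun t => by
    simp [Iso.homCongr]
  rw [hfun]
  exact hb.comp (eK.homCongr eL).bijective

end Groth.Agent.FibDescLib
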