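import Groth.Agent.FibDescLib.GridLeg

/-!
# Augmented simplicial spaces as augmented diagrams
-/

set_option autoImplicit false
set_option backward.isDefEq.respectTransparency false
set_option backward.isDefEq.respectTransparency.types false
set_option linter.style.haveILetI false

universe u

noncomputable section

open CategoryTheory CategoryTheory.Limits Opposite TopologicalSpace Pseudofunctor.CoGrothendieck

attribute [local instance] HasDerivedCategory.standard

namespace Groth.Agent.FibDescLib

section Maps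

variable {𝒮 𝒯 𝒰 : Type} [SmallCategory 𝒮] [SmallCategory 𝒯] [SmallCategory 𝒰]
  {Z : 𝒮 ⥤ TopCat.{u}}

/-- Reindexing along a functor. -/
abbrev FamMap.ofIdx (φ : 𝒯 ⥤ 𝒮) : FamMap (φ ⋙ Z) Z := ⟨φ, Iso.refl _⟩

variable (Z) in
/-- The identity. -/
abbrev FamMap.id : FamMap Z Z := ⟨𝟭 𝒮, (Functor.leftUnitor Z).symm⟩

variable (Z) in
/-- Restriction along the identity. -/
def FamMap.idResIso : (FamMap.id Z).res ≅ 𝟭 (GSh Z) :=
  NatIso.ofComponents (fun G => (fullyFaithfulSheafToPresheaf _ _).preimageIso
    (NatIso.ofComponents (fun A => Iso.refl _) fun {A B} f => by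
      refine (Category.comp_id _).trans (Eq.trans ?_ (Category.id_comp _).symm)
      exact congrArg G.obj.map (Quiver.Hom.unop_inj (hom_ext' rfl))))
    fun {G G'} φ => Sheaf.hom_ext (NatTrans.ext (funext fun A =>
      (Category.comp_id _).trans (Category.id_comp _).symm))

variable {W : 𝒯 ⥤ TopCat.{u}} {V : 𝒰 ⥤ TopCat.{u}}

/-- Restriction along a composition. -/
def FamMap.resCompIso (m : FamMap V W) (n : FamMap W Z) (k : FamMap V Z) (w : m.idx ⋙ n.idx ≅ k.idx)
    (h : ∀ a, m.iso.hom.app a ≫ n.iso.hom.app (m.idx.obj a) ≫ Z.map (w.hom.app a) = k.iso.hom.app a) :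
    n.res ⋙ m.res ≅ k.res :=
  (FamSquare.resIso (mT := m) (mL := k) (mR := n) (mB := FamMap.id Z)
    { w := w ≪≫ (Functor.rightUnitor _).symm
      compat := fun a => by
        refine Eq.trans ?_ (Category.comp_id _).symm
        exact (congrArg (fun t => m.iso.hom.app a ≫ n.iso.hom.app (m.idx.obj a) ≫ Z.map t)
          (Category.comp_id (w.hom.app a))).trans (h a) }).symm ≪≫
    Functor.isoWhiskerRight (FamMap.idResIso Z) _ ≪≫ Functor.leftUnitor _

/-- Extension along a composition. -/
def FamMap.extCompIso (m : FamMap V W) (n : FamMap W Z) (k : FamMap V Z) (w : m.idx ⋙ n.idx ≅ k.idx)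
    (h : ∀ a, m.iso.hom.app a ≫ n.iso.hom.app (m.idx.obj a) ≫ Z.map (w.hom.app a) = k.iso.hom.app a) :
    m.ext ⋙ n.ext ≅ k.ext :=
  Adjunction.leftAdjointUniq ((m.extAdj.comp n.extAdj).ofNatIsoRight (FamMap.resCompIso m n k w h)) k.extAdj

/-- Mutually inverse reindexings give an equivalence of sheaves. -/
theorem FamMap.isEquivalence_res (m : FamMap W Z) (n : FamMap Z W) (w₁ : m.idx ⋙ n.idx ≅ 𝟭 𝒯)
    (h₁ : ∀ a, m.iso.hom.app a ≫ n.iso.hom.app (m.idx.obj a) ≫ W.map (w₁.hom.app a) = 𝟙 _)
    (w₂ : n.idx ⋙ m.idx ≅ 𝟭 𝒮)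
    (h₂ : ∀ a, n.iso.hom.app a ≫ m.iso.hom.app (n.idx.obj a) ≫ Z.map (w₂.hom.app a) = 𝟙 _) :
    m.res.IsEquivalence :=
  (CategoryTheory.Equivalence.mk m.res n.res
    ((FamMap.resCompIso n m (FamMap.id Z) w₂ h₂ ≪≫ FamMap.idResIso Z).symm)
    (FamMap.resCompIso m n (FamMap.id W) w₁ h₁ ≪≫ FamMap.idResIso W)).isEquivalence_functor

end Maps

/-- One point. -/
abbrev Pt : Type := Discrete PUnit.{1}

/-- The base index. -/
abbrev botIdx : Pt ⥤ Idx := Functor.fromPUnit (FibDesc.bot SimplexCategory)

/-- The part index. -/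
abbrev augIdx : SimplexCategoryᵒᵖ ⥤ Idx := FibDesc.toAug SimplexCategory

variable (Y : Idx ⥤ TopCat.{u})

/-- The base of an augmented simplicial space. -/
abbrev baseFam : Pt ⥤ TopCat.{u} := botIdx ⋙ Y

/-- The base leg. -/
abbrev baseMap : FamMap (baseFam Y) Y := FamMap.ofIdx botIdx

/-- The part leg. -/
abbrev partMap : FamMap (augIdx ⋙ Y) Y := FamMap.ofIdx augIdx

instance hasInitial_botIdx (a : Idx) : HasInitial (StructuredArrow a botIdx) :=
  (IsInitial.ofUniqueHom (X := StructuredArrow.mk (Y := (⟨PUnit.unit⟩ : Pt)) (f := toBot a))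
    (fun j => StructuredArrow.homMk (𝟙 _) (hom_bot_ext _ _))
    (fun j f => StructuredArrow.ext _ _ (Subsingleton.elim _ _))).hasInitial

instance representablyFlat_baseMap : RepresentablyFlat (baseMap Y).re :=
  representablyFlat_re (baseMap Y) (fun a => hasInitial_botIdx a)

/-- The single fibre. -/
abbrev ptFibre : Opens (Y.obj (FibDesc.bot SimplexCategory)) ⥤ TT (baseFam Y) :=
  ι (fam (baseFam Y)) (⟨PUnit.unit⟩ : Pt)

/-- The fibre of the single point. -/
def ptOpen : TT (baseFam Y) ⥤ Opens (Y.obj (FibDesc.bot SimplexCategory)) where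
  obj A := gfib A
  map {A B} f := homOfLE (fun x hx => by
    have h := gHom_le f hx
    have e : (baseFam Y).map f.base = 𝟙 _ := Y.map_id _
    rw [e] at h
    exact h)

instance isContinuous_ptFibre : (ptFibre Y).IsContinuous (botTop Y) (TJ (baseFam Y)) :=
  isContinuous_ι (famTop (baseFam Y)) (hasMeetsFam _) _

instance isContinuous_ptOpen : (ptOpen Y).IsContinuous (TJ (baseFam Y)) (botTop Y) where
  op_comp_isSheaf_of_types G := by
    refine isSheaf_of_fibres _ (famJ _) _ fun S => ?_
    exact Presieve.isSheaf_iso _ (NatIso.ofComponents (fun U => Iso.refl _) fun {U V} j => by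
      exact (Category.comp_id _).trans (Eq.trans (congrArg G.obj.map (Subsingleton.elim _ _))
        (Category.id_comp _).symm)) ((isSheaf_iff_isSheaf_of_type _ _).1 G.property)

/-- Sheaves on the single point. -/
def ptEquiv : GSh (baseFam Y) ≌ BSh Y :=
  CategoryTheory.Equivalence.mk ((ptFibre Y).sheafPushforwardContinuous Ab0.{u} (botTop Y) (TJ (baseFam Y)))
    ((ptOpen Y).sheafPushforwardContinuous Ab0.{u} (TJ (baseFam Y)) (botTop Y))
    (NatIso.ofComponents (fun G => (fullyFaithfulSheafToPresheaf _ _).preimageIso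
      (NatIso.ofComponents (fun A => Iso.refl _) fun {A B} f => by
        refine (Category.comp_id _).trans (Eq.trans ?_ (Category.id_comp _).symm)
        exact congrArg G.obj.map (Quiver.Hom.unop_inj (hom_ext' (Subsingleton.elim _ _)))))
      fun {G G'} φ => Sheaf.hom_ext (NatTrans.ext (funext fun A =>
        (Category.comp_id _).trans (Category.id_comp _).symm)))
    (NatIso.ofComponents (fun G => (fullyFaithfulSheafToPresheaf _ _).preimageIso
      (NatIso.ofComponents (fun A => Iso.refl _) fun {A B} f => by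
        refine (Category.comp_id _).trans (Eq.trans ?_ (Category.id_comp _).symm)
        exact congrArg G.obj.map (Subsingleton.elim _ _)))
      fun {G G'} φ => Sheaf.hom_ext (NatTrans.ext (funext fun A =>
        (Category.comp_id _).trans (Category.id_comp _).symm)))

/-- Restriction to the base. -/
def baseResIso : (baseMap Y).res ⋙ (ptEquiv Y).functor ≅ restrY Y :=
  NatIso.ofComponents (fun G => (fullyFaithfulSheafToPresheaf _ _).preimageIso
    (NatIso.ofComponents (fun A => Iso.refl _) fun {A B} f => by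
      refine (Category.comp_id _).trans (Eq.trans ?_ (Category.id_comp _).symm)
      exact congrArg G.obj.map (Quiver.Hom.unop_inj (hom_ext' rfl))))
    fun {G G'} φ => Sheaf.hom_ext (NatTrans.ext (funext fun A =>
      (Category.comp_id _).trans (Category.id_comp _).symm))

/-- Restriction to the part. -/
def partResIso : (partMap Y).res ≅ inclRes Y :=
  NatIso.ofComponents (fun G => (fullyFaithfulSheafToPresheaf _ _).preimageIso
    (NatIso.ofComponents (fun A => Iso.refl _) fun {A B} f => by
      refine (Category.comp_id _).trans (Eq.trans ?_ (Category.id_comp _).symm)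
      exact congrArg G.obj.map (Quiver.Hom.unop_inj (hom_ext' rfl))))
    fun {G G'} φ => Sheaf.hom_ext (NatTrans.ext (funext fun A =>
      (Category.comp_id _).trans (Category.id_comp _).symm))

/-- The inverse image of the augmentation as a leg. -/
def pullYIso : (ptEquiv Y).inverse ⋙ legPull (baseMap Y) (partMap Y) ≅ pullY Y :=
  (Functor.associator _ _ _).symm ≪≫ Functor.isoWhiskerLeft _ (partResIso Y) ≪≫
    Functor.isoWhiskerRight
      (Adjunction.leftAdjointUniq (((ptEquiv Y).symm.toAdjunction.comp (baseMap Y).extAdj).ofNatIsoRight (baseResIso Y))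
        (extAdj Y)) _

theorem ffPlus_leg_of_isCohDescentTop (hY : FibDesc.IsCohDescentTop Y) :
    FFPlus (legPull (baseMap Y) (partMap Y)) := by
  obtain ⟨_, _, _, _, _, _, hb⟩ := hY
  have h : FFPlus (pullY Y) := hb
  haveI : (ptEquiv Y).functor.Additive := Functor.additive_of_preserves_binary_products _
  haveI : PreservesFiniteLimits ((ptEquiv Y).functor ⋙ pullY Y) := comp_preservesFiniteLimits _ _
  haveI : PreservesFiniteColimits ((ptEquiv Y).functor ⋙ pullY Y) := comp_preservesFiniteColimits _ _
  haveI : ((ptEquiv Y).functor ⋙ pullY Y).Additive := Functor.additive_of_preserves_binary_products _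
  exact FFPlus.of_iso
    (Functor.isoWhiskerLeft (ptEquiv Y).functor (pullYIso Y).symm ≪≫ (Functor.associator _ _ _).symm ≪≫
      Functor.isoWhiskerRight (ptEquiv Y).unitIso.symm _ ≪≫ Functor.leftUnitor _)
    (FFPlus.comp (ffPlus_of_equivalence (ptEquiv Y).functor) h)

theorem isCohDescentTop_of_ffPlus_leg (hY : FFPlus (legPull (baseMap Y) (partMap Y))) :
    FibDesc.IsCohDescentTop Y := by
  haveI : (ptEquiv Y).inverse.Additive := Functor.additive_of_preserves_binary_products _
  haveI : PreservesFiniteLimits ((ptEquiv Y).inverse ⋙ legPull (baseMap Y) (partMap Y)) := comp_preservesFiniteLimits _ _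
  haveI : PreservesFiniteColimits ((ptEquiv Y).inverse ⋙ legPull (baseMap Y) (partMap Y)) := comp_preservesFiniteColimits _ _
  haveI : ((ptEquiv Y).inverse ⋙ legPull (baseMap Y) (partMap Y)).Additive := Functor.additive_of_preserves_binary_products _
  have h : FFPlus (pullY Y) := FFPlus.of_iso (pullYIso Y) (FFPlus.comp (ffPlus_of_equivalence (ptEquiv Y).inverse) hY)
  exact ⟨inferInstance, inferInstance, inferInstance, inferInstance, inferInstance,
    preservesFiniteLimits_pullY Y, h⟩

end Groth.Agent.FibDescLib
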