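import Groth.Agent.FibDescLib.GridSite
import Groth.Agent.FibDescLib.Descent
import Mathlib.CategoryTheory.Adjunction.Mates

/-!
# Base change of sheaves along exact squares of diagrams of spaces
-/

set_option autoImplicit false
set_option backward.isDefEq.respectTransparency false
set_option backward.isDefEq.respectTransparency.types false

universe u

noncomputable section

open CategoryTheory CategoryTheory.Limits Opposite TopologicalSpace Pseudofunctor.CoGrothendieck

namespace Groth.Agent.FibDescLib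

variable {𝒮 𝒯 : Type} [SmallCategory 𝒮] [SmallCategory 𝒯]

/-- Abelian sheaves on the total site of a diagram of spaces. -/
abbrev GSh (Z : 𝒮 ⥤ TopCat.{u}) := Sheaf (TJ Z) Ab0.{u}

variable {Z : 𝒮 ⥤ TopCat.{u}} {W : 𝒯 ⥤ TopCat.{u}} (m : FamMap W Z)

/-- Restriction. -/
abbrev FamMap.res : GSh Z ⥤ GSh W := m.re.sheafPushforwardContinuous Ab0.{u} (TJ W) (TJ Z)

/-- Extension. -/
abbrev FamMap.ext : GSh W ⥤ GSh Z := m.re.sheafPullback Ab0.{u} (TJ W) (TJ Z)

/-- Extension is left adjoint to restriction. -/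
abbrev FamMap.extAdj : m.ext ⊣ m.res := m.re.sheafAdjunctionContinuous Ab0.{u} (TJ W) (TJ Z)

/-- Right Kan extension. -/
abbrev FamMap.ran : GSh W ⥤ GSh Z := m.re.sheafPushforwardCocontinuous Ab0.{u} (TJ W) (TJ Z)

/-- Restriction is left adjoint to right Kan extension. -/
abbrev FamMap.ranAdj : m.res ⊣ m.ran := m.re.sheafAdjunctionCocontinuous Ab0.{u} (TJ W) (TJ Z)

section Square

variable {𝒮₁ 𝒮₂ 𝒮₃ 𝒮₄ : Type} [SmallCategory 𝒮₁] [SmallCategory 𝒮₂] [SmallCategory 𝒮₃] [SmallCategory 𝒮₄]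
  {Z₁ : 𝒮₁ ⥤ TopCat.{u}} {Z₂ : 𝒮₂ ⥤ TopCat.{u}} {Z₃ : 𝒮₃ ⥤ TopCat.{u}} {Z₄ : 𝒮₄ ⥤ TopCat.{u}}
  {mT : FamMap Z₁ Z₂} {mL : FamMap Z₁ Z₃} {mR : FamMap Z₂ Z₄} {mB : FamMap Z₃ Z₄}
  (s : FamSquare mT mL mR mB)

/-- The commutation of restrictions. -/
def FamSquare.resIso : mB.res ⋙ mL.res ≅ mR.res ⋙ mT.res where
  hom :=
    { app := fun G => ⟨Functor.whiskerRight (NatTrans.op s.reIso.hom) G.obj⟩
      naturality := fun G G' φ => Sheaf.hom_ext (NatTrans.ext (funext fun A =>
        (φ.hom.naturality (s.reIso.hom.app A.unop).op).symm)) }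
  inv :=
    { app := fun G => ⟨Functor.whiskerRight (NatTrans.op s.reIso.inv) G.obj⟩
      naturality := fun G G' φ => Sheaf.hom_ext (NatTrans.ext (funext fun A =>
        (φ.hom.naturality (s.reIso.inv.app A.unop).op).symm)) }
  hom_inv_id := by
    ext G : 2
    refine Sheaf.hom_ext (NatTrans.ext (funext fun A => ?_))
    show G.obj.map (s.reIso.hom.app A.unop).op ≫ G.obj.map (s.reIso.inv.app A.unop).op = 𝟙 _
    rw [← G.obj.map_comp, ← op_comp, s.reIso.inv_hom_id_app, op_id, G.obj.map_id]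
  inv_hom_id := by
    ext G : 2
    refine Sheaf.hom_ext (NatTrans.ext (funext fun A => ?_))
    show G.obj.map (s.reIso.inv.app A.unop).op ≫ G.obj.map (s.reIso.hom.app A.unop).op = 𝟙 _
    rw [← G.obj.map_comp, ← op_comp, s.reIso.hom_inv_id_app, op_id, G.obj.map_id]

/-- The base change of right Kan extensions. -/
def FamSquare.ranBC : mR.ran ⋙ mB.res ⟶ mT.res ⋙ mL.ran where
  app H := mL.ranAdj.homEquiv _ _ (s.resIso.hom.app (mR.ran.obj H) ≫ mT.res.map (mR.ranAdj.counit.app H))
  naturality H H' φ := by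
    show mB.res.map (mR.ran.map φ) ≫ _ = _ ≫ mL.ran.map (mT.res.map φ)
    refine (mL.ranAdj.homEquiv_naturality_left _ _).symm.trans
      ((congrArg _ ?_).trans (mL.ranAdj.homEquiv_naturality_right _ _))
    have h1 := s.resIso.hom.naturality (mR.ran.map φ)
    have h2 := mR.ranAdj.counit.naturality φ
    dsimp only [Functor.comp_obj, Functor.comp_map, Functor.id_map, Functor.id_obj] at h1 h2
    rw [reassoc_of% h1, Category.assoc, ← Functor.map_comp, h2, Functor.map_comp]

theorem FamSquare.ranBC_pre (H : GSh Z₂) :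
    Functor.whiskerLeft mL.re.op (s.ranBC.app H).hom ≫ mL.re.op.ranCounit.app (mT.re.op ⋙ H.obj) =
      Functor.whiskerRight (NatTrans.op s.reIso.hom) (mR.re.op.ran.obj H.obj) ≫
        Functor.whiskerLeft mT.re.op (mR.re.op.ranCounit.app H.obj) := by
  have h : mL.res.map (s.ranBC.app H) ≫ mL.ranAdj.counit.app (mT.res.obj H) =
      s.resIso.hom.app (mR.ran.obj H) ≫ mT.res.map (mR.ranAdj.counit.app H) :=
    (mL.ranAdj.homEquiv_counit (g := s.ranBC.app H)).symm.trans (Equiv.symm_apply_apply _ _)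
  have h' := congrArg (fun t => t.hom) h
  simp only [ObjectProperty.FullSubcategory.comp_hom, Functor.sheafAdjunctionCocontinuous_counit_app_hom] at h'
  exact h'

theorem FamSquare.isIso_ranBC_app (hw : s.idxSquare.GuitartExact) (H : GSh Z₂) : IsIso (s.ranBC.app H) := by
  haveI := s.guitartExact hw
  haveI : ∀ A, IsIso ((s.ranBC.app H).hom.app A) := fun A => by
    let F := s.totSquare.op.structuredArrowDownwards A
    haveI : F.Initial := inferInstance
    let D := StructuredArrow.proj (mB.re.op.obj A) mR.re.op ⋙ H.obj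
    haveI : IsIso (limit.pre D F) := inferInstance
    have e : (s.ranBC.app H).hom.app A ≫ (mL.re.op.ranObjObjIsoLimit (mT.re.op ⋙ H.obj) A).hom =
        (mR.re.op.ranObjObjIsoLimit H.obj (mB.re.op.obj A)).hom ≫ limit.pre D F := by
      refine limit.hom_ext fun j => ?_
      rw [Category.assoc, Category.assoc]
      refine (congrArg (_ ≫ ·) (Functor.ranObjObjIsoLimit_hom_π _ _ _ _)).trans ?_
      refine Eq.trans ?_ (congrArg (_ ≫ ·) (limit.pre_π D F j)).symm
      refine Eq.trans ?_ (mR.re.op.ranObjObjIsoLimit_hom_π H.obj (mB.re.op.obj A) (F.obj j)).symm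
      have hn := (s.ranBC.app H).hom.naturality j.hom
      have hp := NatTrans.congr_app (s.ranBC_pre H) j.right
      refine ((Category.assoc _ _ _).symm.trans ((congrArg (· ≫ _) hn.symm).trans (Category.assoc _ _ _))).trans ?_
      refine (congrArg (_ ≫ ·) hp).trans ?_
      refine (Category.assoc _ _ _).symm.trans ?_
      exact congrArg (· ≫ _) ((mR.re.op.ran.obj H.obj).map_comp _ _).symm
    haveI : IsIso ((s.ranBC.app H).hom.app A ≫ (mL.re.op.ranObjObjIsoLimit (mT.re.op ⋙ H.obj) A).hom) := by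
      rw [e]; infer_instance
    exact IsIso.of_isIso_comp_right _ (mL.re.op.ranObjObjIsoLimit (mT.re.op ⋙ H.obj) A).hom
  haveI : IsIso ((sheafToPresheaf _ _).map (s.ranBC.app H)) := NatIso.isIso_of_isIso_app (s.ranBC.app H).hom
  exact isIso_of_reflects_iso (s.ranBC.app H) (sheafToPresheaf _ _)

/-- The base change of extensions. -/
def FamSquare.extBC : mL.res ⋙ mT.ext ⟶ mB.ext ⋙ mR.res :=
  (conjugateEquiv (mB.extAdj.comp mR.ranAdj) (mL.ranAdj.comp mT.extAdj)).symm s.ranBC

theorem FamSquare.isIso_extBC (hw : s.idxSquare.GuitartExact) : IsIso s.extBC := by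
  haveI := fun H => s.isIso_ranBC_app hw H
  haveI : IsIso s.ranBC := NatIso.isIso_of_isIso_app _
  dsimp only [FamSquare.extBC]
  infer_instance

theorem FamSquare.homEquiv_extBC (G : GSh Z₃) :
    mT.extAdj.homEquiv _ _ (s.extBC.app G) =
      mL.res.map (mB.extAdj.unit.app G) ≫ s.resIso.hom.app (mB.ext.obj G) := by
  have h := unit_conjugateEquiv_symm (mB.extAdj.comp mR.ranAdj) (mL.ranAdj.comp mT.extAdj) s.ranBC G
  simp only [Adjunction.comp_unit_app, Functor.comp_obj, Functor.comp_map, Category.assoc] at h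
  apply (mL.ranAdj.homEquiv _ _).injective
  rw [Adjunction.homEquiv_unit, Adjunction.homEquiv_unit, Functor.map_comp]
  refine h.symm.trans ?_
  have hn : mB.res.map (mR.ranAdj.unit.app (mB.ext.obj G)) ≫ s.ranBC.app (mR.res.obj (mB.ext.obj G)) =
      mL.ranAdj.homEquiv _ _ (s.resIso.hom.app (mB.ext.obj G)) := by
    refine (mL.ranAdj.homEquiv_naturality_left _ _).symm.trans (congrArg _ ?_)
    have h1 := s.resIso.hom.naturality (mR.ranAdj.unit.app (mB.ext.obj G))
    dsimp only [Functor.comp_obj, Functor.comp_map] at h1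
    refine (Category.assoc _ _ _).symm.trans ((congrArg (· ≫ _) h1).trans ((Category.assoc _ _ _).trans ?_))
    refine (congrArg (_ ≫ ·) ?_).trans (Category.comp_id _)
    exact (mT.res.map_comp _ _).symm.trans ((congrArg mT.res.map (mR.ranAdj.left_triangle_components _)).trans
      (mT.res.map_id _))
  refine (congrArg (_ ≫ ·) hn).trans ?_
  exact (mL.ranAdj.homEquiv_naturality_left _ _).symm

end Square

end Groth.Agent.FibDescLib
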