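import Groth.Agent.FibDescLib.Spaces
import Mathlib.CategoryTheory.GuitartExact.Opposite
import Mathlib.CategoryTheory.GuitartExact.KanExtension

/-!
# Total sites of diagrams of spaces and their reindexings
-/

set_option autoImplicit false
set_option backward.isDefEq.respectTransparency false
set_option backward.isDefEq.respectTransparency.types false

universe u

noncomputable section

open CategoryTheory CategoryTheory.Limits Opposite TopologicalSpace Pseudofunctor.CoGrothendieck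

namespace Groth.Agent.FibDescLib

variable {𝒮 : Type} [SmallCategory 𝒮]

/-- The family of sites of opens of a diagram of spaces. -/
abbrev fam (Z : 𝒮 ⥤ TopCat.{u}) : Pseudofunctor (LocallyDiscrete 𝒮ᵒᵖ) Cat.{u, u} :=
  (Z.op ⋙ FibDesc.opensCat).toPseudofunctor'

variable (Z : 𝒮 ⥤ TopCat.{u})

/-- Its total category. -/
abbrev TT := ∫ᶜ (fam Z)

/-- Its fibre topologies. -/
abbrev famTop : FibSite.Topologies (fam Z) := fun i => Opens.grothendieckTopology (Z.obj i)

/-- Its total topology. -/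
abbrev TJ : GrothendieckTopology (TT Z) := FibSite.totalTopology (fam Z) (famTop Z)

instance isThin_fam (i : 𝒮) : Quiver.IsThin ((fam Z).obj ⟨op i⟩) :=
  fun (U V : Opens (Z.obj i)) => inferInstanceAs (Subsingleton (U ⟶ V))

variable {Z}

/-- An object. -/
abbrev gObj (i : 𝒮) (U : Opens (Z.obj i)) : TT Z := ⟨i, U⟩

/-- The open of an object. -/
abbrev gfib (A : TT Z) : Opens (Z.obj A.base) := A.fiber

/-- An arrow. -/
def gHom {A B : TT Z} (b : A.base ⟶ B.base) (h : gfib A ≤ (Opens.map (Z.map b)).obj (gfib B)) : A ⟶ B :=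
  mkHom b (homOfLE h : gfib A ⟶ (Opens.map (Z.map b)).obj (gfib B))

theorem gHom_le {A B : TT Z} (f : A ⟶ B) : gfib A ≤ (Opens.map (Z.map f.base)).obj (gfib B) :=
  leOfHom (f.fiber : gfib A ⟶ (Opens.map (Z.map f.base)).obj (gfib B))

theorem famJ (Z : 𝒮 ⥤ TopCat.{u}) : ∀ ⦃R S : 𝒮⦄ (f : R ⟶ S),
    CoverPreserving (famTop Z S) (famTop Z R) (FibSite.invImage (fam Z) f) :=
  fun _ _ f => coverPreserving_opens_map (Z.map f)

theorem hasMeetsFam (Z : 𝒮 ⥤ TopCat.{u}) : HasMeets (fam Z) :=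
  fun S V₁ V₂ =>
    let U₁ : Opens (Z.obj S) := V₁
    let U₂ : Opens (Z.obj S) := V₂
    ⟨(U₁ ⊓ U₂ : Opens (Z.obj S)), (homOfLE inf_le_left : U₁ ⊓ U₂ ⟶ U₁), (homOfLE inf_le_right : U₁ ⊓ U₂ ⟶ U₂),
    fun R b W h₁ h₂ =>
      let W' : Opens (Z.obj R) := W
      let a₁ : W' ⟶ (Opens.map (Z.map b)).obj U₁ := h₁
      let a₂ : W' ⟶ (Opens.map (Z.map b)).obj U₂ := h₂
      ⟨(homOfLE (le_inf (leOfHom a₁) (leOfHom a₂)) : W' ⟶ (Opens.map (Z.map b)).obj (U₁ ⊓ U₂))⟩⟩

variable {𝒯 : Type} [SmallCategory 𝒯]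

/-- A map of diagrams of spaces which is levelwise an isomorphism. -/
structure FamMap (W : 𝒯 ⥤ TopCat.{u}) (Z : 𝒮 ⥤ TopCat.{u}) where
  /-- The map of indices. -/
  idx : 𝒯 ⥤ 𝒮
  /-- The identification of spaces. -/
  iso : W ≅ idx ⋙ Z

variable {W : 𝒯 ⥤ TopCat.{u}} (m : FamMap W Z)

theorem iso_inv_map {a b : 𝒯} (f : a ⟶ b) (x : Z.obj (m.idx.obj a)) :
    W.map f (m.iso.inv.app a x) = m.iso.inv.app b (Z.map (m.idx.map f) x) :=
  (ConcreteCategory.congr_hom (m.iso.inv.naturality f) x).symm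

theorem iso_hom_map {a b : 𝒯} (f : a ⟶ b) (x : W.obj a) :
    Z.map (m.idx.map f) (m.iso.hom.app a x) = m.iso.hom.app b (W.map f x) :=
  (ConcreteCategory.congr_hom (m.iso.hom.naturality f) x).symm

theorem iso_inv_hom (a : 𝒯) (x : W.obj a) : m.iso.inv.app a (m.iso.hom.app a x) = x :=
  ConcreteCategory.congr_hom (m.iso.hom_inv_id_app a) x

theorem iso_hom_inv (a : 𝒯) (x : Z.obj (m.idx.obj a)) : m.iso.hom.app a (m.iso.inv.app a x) = x :=
  ConcreteCategory.congr_hom (m.iso.inv_hom_id_app a) x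

/-- The inverse identification at an index. -/
abbrev FamMap.back (a : 𝒯) : Z.obj (m.idx.obj a) ⟶ W.obj a := m.iso.inv.app a

/-- The functor of total categories. -/
def FamMap.re : TT W ⥤ TT Z where
  obj A := gObj (m.idx.obj A.base) ((Opens.map (m.iso.inv.app A.base)).obj (gfib A))
  map {A B} f := gHom (m.idx.map f.base) (fun x hx => by
    show m.iso.inv.app B.base (Z.map (m.idx.map f.base) x) ∈ gfib B
    rw [← iso_inv_map m f.base x]
    exact gHom_le f hx)
  map_id A := hom_ext' (m.idx.map_id _)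
  map_comp f g := hom_ext' (m.idx.map_comp _ _)

instance isContinuous_re : m.re.IsContinuous (TJ W) (TJ Z) :=
  isContinuous_of_fibrewise _ (famJ W) _ (hasMeetsFam Z) m.re m.idx.obj
    (fun S => Opens.map (m.back S))
    (fun S => NatIso.ofComponents (fun U => Iso.refl _) fun {U V} j => by
      simp only [Iso.refl_hom, Category.comp_id, Category.id_comp]
      exact hom_ext' (m.idx.map_id S))
    fun S => inferInstanceAs ((Opens.map (m.back S)).IsContinuous
      (Opens.grothendieckTopology (W.obj S)) (Opens.grothendieckTopology (Z.obj (m.idx.obj S))))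

instance isCocontinuous_re : m.re.IsCocontinuous (TJ W) (TJ Z) :=
  isCocontinuous_of_fibrewise _ (famJ W) _ (famJ Z) m.re fun A R hR x hx => by
    obtain ⟨V, j, hj, hxV⟩ := hR (m.iso.hom.app A.base x) (by
      show m.iso.inv.app A.base (m.iso.hom.app A.base x) ∈ gfib A
      rw [iso_inv_hom]; exact hx)
    let V' : Opens (W.obj A.base) := (Opens.map (m.iso.hom.app A.base)).obj V
    have hle : V' ≤ gfib A := fun y hy => by
      have h' : m.iso.inv.app A.base (m.iso.hom.app A.base y) ∈ gfib A := leOfHom j hy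
      rw [iso_inv_hom] at h'
      exact h'
    refine ⟨V', homOfLE hle, ?_, hxV⟩
    · let c : m.re.obj (gObj A.base V') ⟶ gObj (m.idx.obj A.base) V := gHom (𝟙 _) (by
        rw [Z.map_id]
        intro y hy
        have h' : m.iso.hom.app A.base (m.iso.inv.app A.base y) ∈ V := hy
        rwa [iso_hom_inv] at h')
      show R.arrows (m.re.map (fibHom _))
      have e : m.re.map (fibHom (F := fam W) (S := A.base)
          (homOfLE hle : V' ⟶ gfib A)) = c ≫ fibHom (F := fam Z) j := hom_ext' (by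
        show m.idx.map (𝟙 _) = 𝟙 _ ≫ 𝟙 _
        simp)
      exact e ▸ R.downward_closed hj c

section Square

variable {𝒮₁ 𝒮₂ 𝒮₃ 𝒮₄ : Type} [SmallCategory 𝒮₁] [SmallCategory 𝒮₂] [SmallCategory 𝒮₃] [SmallCategory 𝒮₄]
  {Z₁ : 𝒮₁ ⥤ TopCat.{u}} {Z₂ : 𝒮₂ ⥤ TopCat.{u}} {Z₃ : 𝒮₃ ⥤ TopCat.{u}} {Z₄ : 𝒮₄ ⥤ TopCat.{u}}
  (mT : FamMap Z₁ Z₂) (mL : FamMap Z₁ Z₃) (mR : FamMap Z₂ Z₄) (mB : FamMap Z₃ Z₄)

/-- A commutative square of maps of diagrams. -/
structure FamSquare where
  /-- The commutation of indices. -/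
  w : mT.idx ⋙ mR.idx ≅ mL.idx ⋙ mB.idx
  /-- The compatibility of spaces. -/
  compat : ∀ a : 𝒮₁, mT.iso.hom.app a ≫ mR.iso.hom.app (mT.idx.obj a) ≫ Z₄.map (w.hom.app a) =
    mL.iso.hom.app a ≫ mB.iso.hom.app (mL.idx.obj a)

variable {mT mL mR mB} (s : FamSquare mT mL mR mB)

theorem FamSquare.compat_inv (a : 𝒮₁) (x : Z₄.obj (mR.idx.obj (mT.idx.obj a))) :
    mL.iso.inv.app a (mB.iso.inv.app _ (Z₄.map (s.w.hom.app a) x)) = mT.iso.inv.app a (mR.iso.inv.app _ x) := by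
  have h : Z₄.map (s.w.hom.app a) (mR.iso.hom.app _ (mT.iso.hom.app a (mT.iso.inv.app a (mR.iso.inv.app _ x)))) =
      mB.iso.hom.app _ (mL.iso.hom.app a (mT.iso.inv.app a (mR.iso.inv.app _ x))) :=
    ConcreteCategory.congr_hom (s.compat a) _
  refine (congrArg (fun z => mL.iso.inv.app a (mB.iso.inv.app _ (Z₄.map (s.w.hom.app a) z))) ?_).trans
    ((congrArg (fun z => mL.iso.inv.app a (mB.iso.inv.app _ z)) h).trans ?_)
  · exact ((congrArg _ (iso_hom_inv mT a _)).trans (iso_hom_inv mR _ x)).symm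
  · exact (congrArg _ (iso_inv_hom mB _ _)).trans (iso_inv_hom mL a _)

theorem FamSquare.compat_arrows {x₂ : 𝒮₂} {x₁ : 𝒮₁} {x₃ : 𝒮₃} (α : x₂ ⟶ mT.idx.obj x₁) (β : mL.idx.obj x₁ ⟶ x₃)
    (x : Z₂.obj x₂) :
    mB.iso.inv.app x₃ (Z₄.map (mR.idx.map α ≫ s.w.hom.app x₁ ≫ mB.idx.map β) (mR.iso.hom.app x₂ x)) =
      Z₃.map β (mL.iso.hom.app x₁ (mT.iso.inv.app x₁ (Z₂.map α x))) := by
  have h : Z₄.map (s.w.hom.app x₁) (mR.iso.hom.app _ (mT.iso.hom.app x₁ (mT.iso.inv.app x₁ (Z₂.map α x)))) =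
      mB.iso.hom.app _ (mL.iso.hom.app x₁ (mT.iso.inv.app x₁ (Z₂.map α x))) :=
    ConcreteCategory.congr_hom (s.compat x₁) _
  rw [Z₄.map_comp, Z₄.map_comp]
  show mB.iso.inv.app x₃ (Z₄.map (mB.idx.map β) (Z₄.map (s.w.hom.app x₁) (Z₄.map (mR.idx.map α) (mR.iso.hom.app x₂ x)))) = _
  rw [iso_hom_map]
  refine (congrArg (fun z => mB.iso.inv.app x₃ (Z₄.map (mB.idx.map β) (Z₄.map (s.w.hom.app x₁) z)))
    (congrArg _ (iso_hom_inv mT x₁ (Z₂.map α x)).symm)).trans ?_
  refine (congrArg (fun z => mB.iso.inv.app x₃ (Z₄.map (mB.idx.map β) z)) h).trans ?_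
  refine (iso_inv_map mB β _).symm.trans ?_
  exact congrArg (Z₃.map β) (iso_inv_hom mB _ _)

/-- The induced isomorphism of total categories. -/
def FamSquare.reIso : mT.re ⋙ mR.re ≅ mL.re ⋙ mB.re :=
  have key : ∀ (A : TT Z₁) (x : Z₄.obj (mR.idx.obj (mT.idx.obj A.base))),
      mL.iso.inv.app A.base (mB.iso.inv.app _ (Z₄.map (s.w.hom.app A.base) x)) =
        mT.iso.inv.app A.base (mR.iso.inv.app _ x) := fun A x => s.compat_inv A.base x
  NatIso.ofComponents
    (fun A =>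
      { hom := gHom (s.w.hom.app A.base) (fun x hx => by
          show mL.iso.inv.app A.base (mB.iso.inv.app _ (Z₄.map (s.w.hom.app A.base) x)) ∈ gfib A
          rw [key]; exact hx)
        inv := gHom (s.w.inv.app A.base) (fun x hx => by
          show mT.iso.inv.app A.base (mR.iso.inv.app _ (Z₄.map (s.w.inv.app A.base) x)) ∈ gfib A
          rw [← key, ← TopCat.comp_app, ← Z₄.map_comp, s.w.inv_hom_id_app, Z₄.map_id]
          exact hx)
        hom_inv_id := hom_ext' (s.w.hom_inv_id_app A.base)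
        inv_hom_id := hom_ext' (s.w.inv_hom_id_app A.base) })
    fun {A B} f => hom_ext' (s.w.hom.naturality f.base)

/-- The square of indices. -/
abbrev FamSquare.idxSquare : TwoSquare mT.idx mL.idx mR.idx mB.idx := s.w.hom

/-- The square of total categories. -/
abbrev FamSquare.totSquare : TwoSquare mT.re mL.re mR.re mB.re := s.reIso.hom

/-- An exact square of indices gives an exact square of total categories. -/
theorem FamSquare.guitartExact (hw : s.idxSquare.GuitartExact) : s.totSquare.GuitartExact := by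
  rw [TwoSquare.guitartExact_iff_isConnected_downwards] at hw ⊢
  intro X₂ X₃ g
  let g₀ : mR.idx.obj X₂.base ⟶ mB.idx.obj X₃.base := g.base
  haveI := hw g₀
  let D := s.totSquare.CostructuredArrowDownwards g
  let D₀ := s.idxSquare.CostructuredArrowDownwards g₀
  let x₁ : D₀ → 𝒮₁ := fun c => c.left.right
  let α : ∀ c : D₀, X₂.base ⟶ mT.idx.obj (x₁ c) := fun c => c.left.hom
  let β : ∀ c : D₀, mL.idx.obj (x₁ c) ⟶ X₃.base := fun c => c.hom.right
  have hc : ∀ c : D₀, mR.idx.map (α c) ≫ s.w.hom.app (x₁ c) ≫ mB.idx.map (β c) = g₀ := fun c => by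
    refine Eq.trans ?_ (StructuredArrow.w c.hom)
    exact (Category.assoc _ _ _).symm
  let U₁ : ∀ c : D₀, Opens (Z₁.obj (x₁ c)) := fun c =>
    (Opens.map (mL.iso.hom.app (x₁ c))).obj ((Opens.map (Z₃.map (β c))).obj (gfib X₃))
  have hα : ∀ c : D₀, gfib X₂ ≤ (Opens.map (Z₂.map (α c))).obj
      ((Opens.map (mT.iso.inv.app (x₁ c))).obj (U₁ c)) := fun c x hx => by
    show Z₃.map (β c) (mL.iso.hom.app (x₁ c) (mT.iso.inv.app (x₁ c) (Z₂.map (α c) x))) ∈ gfib X₃
    have h1 : mR.iso.inv.app X₂.base (mR.iso.hom.app X₂.base x) ∈ gfib X₂ := by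
      rw [iso_inv_hom]; exact hx
    have h2 : mB.iso.inv.app X₃.base (Z₄.map g₀ (mR.iso.hom.app X₂.base x)) ∈ gfib X₃ := gHom_le g h1
    rw [← hc c, s.compat_arrows] at h2
    exact h2
  have hβ : ∀ c : D₀, (Opens.map (mL.iso.inv.app (x₁ c))).obj (U₁ c) ≤
      (Opens.map (Z₃.map (β c))).obj (gfib X₃) := fun c x hx => by
    have h : Z₃.map (β c) (mL.iso.hom.app (x₁ c) (mL.iso.inv.app (x₁ c) x)) ∈ gfib X₃ := hx
    rw [iso_hom_inv] at h
    exact h
  have hf : ∀ (c c' : D₀) (k : x₁ c ⟶ x₁ c'), mL.idx.map k ≫ β c' = β c →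
      U₁ c ≤ (Opens.map (Z₁.map k)).obj (U₁ c') := fun c c' k e x hx => by
    show Z₃.map (β c') (mL.iso.hom.app (x₁ c') (Z₁.map k x)) ∈ gfib X₃
    rw [← iso_hom_map mL k x]
    have e' := ConcreteCategory.congr_hom (congrArg Z₃.map e) (mL.iso.hom.app (x₁ c) x)
    rw [Z₃.map_comp] at e'
    exact e' ▸ hx
  let G : D₀ ⥤ D :=
    { obj := fun c => TwoSquare.CostructuredArrowDownwards.mk s.totSquare g (gObj (x₁ c) (U₁ c))
        (gHom (α c) (hα c)) (gHom (β c) (hβ c)) (hom_ext' (hc c))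
      map := fun {c c'} f => CostructuredArrow.homMk
        (StructuredArrow.homMk (gHom (A := gObj (x₁ c) (U₁ c)) (B := gObj (x₁ c') (U₁ c')) f.left.right
            (hf c c' f.left.right (congrArg CommaMorphism.right (CostructuredArrow.w f))))
          (hom_ext' (StructuredArrow.w f.left)))
        (StructuredArrow.ext _ _ (hom_ext' (congrArg CommaMorphism.right (CostructuredArrow.w f))))
      map_id := fun c => CostructuredArrow.hom_ext _ _ (StructuredArrow.ext _ _ (hom_ext' rfl))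
      map_comp := fun f f' => CostructuredArrow.hom_ext _ _ (StructuredArrow.ext _ _ (hom_ext' rfl)) }
  have hpt : ∀ d : D, ∃ c : D₀, Nonempty (d ⟶ G.obj c) := fun d => by
    obtain ⟨X₁, a, b, comm, rfl⟩ := TwoSquare.CostructuredArrowDownwards.mk_surjective d
    let c : D₀ := TwoSquare.CostructuredArrowDownwards.mk s.idxSquare g₀ X₁.base a.base b.base
      (congrArg (fun t => t.base) comm)
    have hU : gfib X₁ ≤ (Opens.map (Z₁.map (𝟙 X₁.base))).obj (U₁ c) := fun x hx => by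
      show Z₃.map b.base (mL.iso.hom.app X₁.base (Z₁.map (𝟙 X₁.base) x)) ∈ gfib X₃
      rw [Z₁.map_id]
      refine gHom_le b (show mL.iso.inv.app X₁.base (mL.iso.hom.app X₁.base x) ∈ gfib X₁ from ?_)
      rw [iso_inv_hom]; exact hx
    refine ⟨c, ⟨CostructuredArrow.homMk (StructuredArrow.homMk (gHom (A := X₁) (B := gObj (x₁ c) (U₁ c)) (𝟙 X₁.base) hU)
      (hom_ext' ?_)) (StructuredArrow.ext _ _ (hom_ext' ?_))⟩⟩
    · show a.base ≫ mT.idx.map (𝟙 X₁.base) = a.base
      exact (congrArg (a.base ≫ ·) (mT.idx.map_id _)).trans (Category.comp_id _)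
    · show mL.idx.map (𝟙 X₁.base) ≫ b.base = b.base
      exact (congrArg (· ≫ b.base) (mL.idx.map_id _)).trans (Category.id_comp _)
  haveI : Nonempty D := ⟨G.obj (Classical.arbitrary D₀)⟩
  refine zigzag_isConnected fun d d' => ?_
  obtain ⟨c, ⟨f⟩⟩ := hpt d
  obtain ⟨c', ⟨f'⟩⟩ := hpt d'
  exact (Zigzag.of_hom f).trans ((zigzag_obj_of_zigzag G (isPreconnected_zigzag c c')).trans (Zigzag.of_inv f'))

end Square

end Groth.Agent.FibDescLib
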