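import Groth.Agent.FibDescLib.Descent
import Mathlib.Topology.Sheaves.Functors

/-!
# Restriction of augmented simplicial spaces to an open of the base: sites
-/

set_option autoImplicit false
set_option backward.isDefEq.respectTransparency false
set_option backward.isDefEq.respectTransparency.types false
set_option linter.style.haveILetI false

universe u

noncomputable section

open CategoryTheory CategoryTheory.Limits Opposite TopologicalSpace Pseudofunctor.CoGrothendieck Topology

namespace Groth.Agent.FibDescLib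

variable {Y Y' : Idx ⥤ TopCat.{u}}

/-- A morphism which is the restriction to an open of the base. -/
structure IsRestriction (h : Y' ⟶ Y) : Prop where
  isOpenEmbedding : ∀ R, IsOpenEmbedding (h.app R)
  mem_range : ∀ (R : Idx) (x : Y.obj R),
    Y.map (toBot R) x ∈ Set.range (h.app (FibDesc.bot SimplexCategory)) → x ∈ Set.range (h.app R)

variable {h : Y' ⟶ Y} (hh : IsRestriction h)

theorem map_app_apply (h : Y' ⟶ Y) {R S : Idx} (b : R ⟶ S) (x : Y'.obj R) :
    Y.map b (h.app R x) = h.app S (Y'.map b x) :=
  (ConcreteCategory.congr_hom (h.naturality b) x).symm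

/-- The image of opens in one level. -/
abbrev imOpen (R : Idx) : Opens (Y'.obj R) ⥤ Opens (Y.obj R) := (hh.isOpenEmbedding R).isOpenMap.functor

/-- The preimage. -/
def resPre (h : Y' ⟶ Y) : Tot Y ⥤ Tot Y' where
  obj A := tObj (Y := Y') A.base ((Opens.map (h.app A.base)).obj (fib A))
  map {A B} f := tHom (Y := Y') f.base (fun x hx => by
    show h.app B.base (Y'.map f.base x) ∈ fib B
    rw [← map_app_apply h f.base x]
    exact tHom_le f hx)
  map_id A := hom_ext' rfl
  map_comp f g := hom_ext' rfl

/-- The image. -/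
def resIm : Tot Y' ⥤ Tot Y where
  obj A := tObj A.base ((imOpen hh A.base).obj (fib A))
  map {A B} f := tHom f.base (by
    rintro _ ⟨x, hx, rfl⟩
    exact ⟨Y'.map f.base x, tHom_le f hx, (map_app_apply h f.base x).symm⟩)
  map_id A := hom_ext' rfl
  map_comp f g := hom_ext' rfl

theorem le_pre_im (A : Tot Y') :
    fib A ≤ (Opens.map (h.app A.base)).obj ((imOpen hh A.base).obj (fib A)) :=
  fun x hx => ⟨x, hx, rfl⟩

theorem pre_im_le (A : Tot Y') :
    (Opens.map (h.app A.base)).obj ((imOpen hh A.base).obj (fib A)) ≤ fib A := fun x hx => by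
  obtain ⟨y, hy, e⟩ := hx
  exact (hh.isOpenEmbedding A.base).injective e ▸ hy

theorem le_map_id {Z : Idx ⥤ TopCat.{u}} {R : Idx} {U V : Opens (Z.obj R)} (e : U ≤ V) :
    U ≤ (Opens.map (Z.map (𝟙 R))).obj V := by
  rw [Z.map_id]; exact e

/-- Image is left adjoint to preimage. -/
def resAdj : resIm hh ⊣ resPre h := Adjunction.mkOfUnitCounit
  { unit :=
      { app := fun A => tHom (Y := Y') (A := A) (B := (resPre h).obj ((resIm hh).obj A)) (𝟙 A.base)
          (le_map_id (le_pre_im hh A))
        naturality := fun A B f => hom_ext' ((Category.comp_id _).trans (Category.id_comp _).symm) }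
    counit :=
      { app := fun A => tHom (A := (resIm hh).obj ((resPre h).obj A)) (B := A) (𝟙 A.base)
          (le_map_id (by rintro _ ⟨x, hx, rfl⟩; exact hx))
        naturality := fun A B f => hom_ext' ((Category.comp_id _).trans (Category.id_comp _).symm) }
    left_triangle := NatTrans.ext (funext fun A => hom_ext' (by
      show 𝟙 A.base ≫ 𝟙 A.base ≫ 𝟙 A.base = 𝟙 A.base
      simp))
    right_triangle := NatTrans.ext (funext fun A => hom_ext' (by
      show 𝟙 A.base ≫ 𝟙 A.base ≫ 𝟙 A.base = 𝟙 A.base
      simp)) }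

instance isIso_resAdj_unit (A : Tot Y') : IsIso ((resAdj hh).unit.app A) :=
  ⟨tHom (Y := Y') (A := (resPre h).obj ((resIm hh).obj A)) (B := A) (𝟙 A.base) (le_map_id (pre_im_le hh A)),
    hom_ext' (Category.comp_id _), hom_ext' (Category.comp_id _)⟩

theorem isIso_resAdj_counit {A : Tot Y} (hA : (fib A : Set (Y.obj A.base)) ⊆ Set.range (h.app A.base)) :
    IsIso ((resAdj hh).counit.app A) :=
  ⟨tHom (A := A) (B := (resIm hh).obj ((resPre h).obj A)) (𝟙 A.base) (le_map_id (fun x hx => by
      obtain ⟨y, rfl⟩ := hA hx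
      exact ⟨y, hx, rfl⟩)),
    hom_ext' (Category.comp_id _), hom_ext' (Category.comp_id _)⟩

/-- The objects under an open of the restricted base lie in the restriction. -/
theorem subset_range_of_hom {A : Tot Y} {B : Tot Y'} (f : A ⟶ (resIm hh).obj B) :
    (fib A : Set (Y.obj A.base)) ⊆ Set.range (h.app A.base) := fun x hx => by
  refine hh.mem_range A.base x ?_
  obtain ⟨y, -, e⟩ := tHom_le f hx
  refine ⟨Y'.map (toBot B.base) y, ?_⟩
  rw [← map_app_apply h (toBot B.base) y, e]
  show Y.map (toBot B.base) (Y.map f.base x) = _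
  exact ((ConcreteCategory.congr_hom (Y.map_comp f.base (toBot B.base)) x).symm).trans
    (congrArg (fun b => Y.map b x) (hom_bot_ext _ _))

/-- An object of the part seen in the augmented family. -/
abbrev inclObj {Z : Idx ⥤ TopCat.{u}} (A : ∫ᶜ (FibDesc.part (FibDesc.topAug Z))) : Tot Z :=
  (FibDesc.incl (FibDesc.topAug Z)).obj A

/-- An arrow of the part over an identity. -/
def partHom {Z : Idx ⥤ TopCat.{u}} {R : SimplexCategoryᵒᵖ}
    {U V : Opens (Z.obj ((FibDesc.toAug SimplexCategory).obj R))} (e : U ≤ V) :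
    (⟨R, U⟩ : ∫ᶜ (FibDesc.part (FibDesc.topAug Z))) ⟶ ⟨R, V⟩ :=
  mkHom (𝟙 R) (homOfLE (show U ≤ (Opens.map (Z.map ((FibDesc.toAug SimplexCategory).map (𝟙 R)))).obj V by
      rw [(FibDesc.toAug SimplexCategory).map_id]; exact le_map_id e) :
    U ⟶ (Opens.map (Z.map ((FibDesc.toAug SimplexCategory).map (𝟙 R)))).obj V)

/-- The preimage on the part. -/
def resPrePart (h : Y' ⟶ Y) :
    ∫ᶜ (FibDesc.part (FibDesc.topAug Y)) ⥤ ∫ᶜ (FibDesc.part (FibDesc.topAug Y')) where
  obj A := ⟨A.base, ((resPre h).obj ((FibDesc.incl (FibDesc.topAug Y)).obj A)).fiber⟩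
  map {A B} f := mkHom f.base ((resPre h).map ((FibDesc.incl (FibDesc.topAug Y)).map f)).fiber
  map_id A := hom_ext' rfl
  map_comp f g := hom_ext' rfl

/-- The image on the part. -/
def resImPart :
    ∫ᶜ (FibDesc.part (FibDesc.topAug Y')) ⥤ ∫ᶜ (FibDesc.part (FibDesc.topAug Y)) where
  obj A := ⟨A.base, ((resIm hh).obj ((FibDesc.incl (FibDesc.topAug Y')).obj A)).fiber⟩
  map {A B} f := mkHom f.base ((resIm hh).map ((FibDesc.incl (FibDesc.topAug Y')).map f)).fiber
  map_id A := hom_ext' rfl
  map_comp f g := hom_ext' rfl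

/-- Image is left adjoint to preimage on the part. -/
def resAdjPart : resImPart hh ⊣ resPrePart h := Adjunction.mkOfUnitCounit
  { unit :=
      { app := fun A => partHom (le_pre_im hh (inclObj A))
        naturality := fun A B f => hom_ext' ((Category.comp_id _).trans (Category.id_comp _).symm) }
    counit :=
      { app := fun A => partHom (Z := Y) (R := A.base) (U := (imOpen hh _).obj ((Opens.map (h.app _)).obj (fib (inclObj A))))
          (V := fib (inclObj A)) (by rintro _ ⟨x, hx, rfl⟩; exact hx)
        naturality := fun A B f => hom_ext' ((Category.comp_id _).trans (Category.id_comp _).symm) }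
    left_triangle := NatTrans.ext (funext fun A => hom_ext' (by
      show 𝟙 A.base ≫ 𝟙 A.base ≫ 𝟙 A.base = 𝟙 A.base
      simp))
    right_triangle := NatTrans.ext (funext fun A => hom_ext' (by
      show 𝟙 A.base ≫ 𝟙 A.base ≫ 𝟙 A.base = 𝟙 A.base
      simp)) }

theorem isIso_resAdjPart_counit {A : ∫ᶜ (FibDesc.part (FibDesc.topAug Y))}
    (hA : (fib (inclObj A) : Set (Y.obj (inclObj A).base)) ⊆ Set.range (h.app (inclObj A).base)) :
    IsIso ((resAdjPart hh).counit.app A) :=
  ⟨partHom (Z := Y) (R := A.base) (U := fib (inclObj A))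
      (V := (imOpen hh _).obj ((Opens.map (h.app _)).obj (fib (inclObj A)))) (fun x hx => by
        obtain ⟨y, rfl⟩ := hA hx
        exact ⟨y, hx, rfl⟩),
    hom_ext' (Category.comp_id _), hom_ext' (Category.comp_id _)⟩

instance isContinuous_resPre (h : Y' ⟶ Y) : (resPre h).IsContinuous (totA Y) (totA Y') :=
  isContinuous_of_fibrewise _ (hJ Y) _ (hasMeets Y') (resPre h) id (fun S => Opens.map (h.app S))
    (fun S => NatIso.ofComponents (fun U => Iso.refl _) fun {U V} j => by
      simp only [Iso.refl_hom, Category.comp_id, Category.id_comp]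
      exact hom_ext' rfl)
    fun S => inferInstanceAs ((Opens.map (h.app S)).IsContinuous
      (Opens.grothendieckTopology (Y.obj S)) (Opens.grothendieckTopology (Y'.obj S)))

instance isContinuous_resIm : (resIm hh).IsContinuous (totA Y') (totA Y) :=
  isContinuous_of_fibrewise _ (hJ Y') _ (hasMeets Y) (resIm hh) id (fun S => imOpen hh S)
    (fun S => NatIso.ofComponents (fun U => Iso.refl _) fun {U V} j => by
      simp only [Iso.refl_hom, Category.comp_id, Category.id_comp]
      exact hom_ext' rfl)
    fun S => IsOpenEmbedding.functor_isContinuous (hh.isOpenEmbedding S)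

instance isContinuous_resPrePart (h : Y' ⟶ Y) : (resPrePart h).IsContinuous (totP Y) (totP Y') :=
  isContinuous_of_fibrewise _ (hJpart Y) _ (hasMeetsPart Y') (resPrePart h) id
    (fun S => Opens.map (h.app ((FibDesc.toAug SimplexCategory).obj S)))
    (fun S => NatIso.ofComponents (fun U => Iso.refl _) fun {U V} j => by
      simp only [Iso.refl_hom, Category.comp_id, Category.id_comp]
      exact hom_ext' rfl)
    fun S => inferInstanceAs ((Opens.map (h.app ((FibDesc.toAug SimplexCategory).obj S))).IsContinuous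
      (Opens.grothendieckTopology (Y.obj _)) (Opens.grothendieckTopology (Y'.obj _)))

instance isContinuous_resImPart : (resImPart hh).IsContinuous (totP Y') (totP Y) :=
  isContinuous_of_fibrewise _ (hJpart Y') _ (hasMeetsPart Y) (resImPart hh) id
    (fun S => imOpen hh ((FibDesc.toAug SimplexCategory).obj S))
    (fun S => NatIso.ofComponents (fun U => Iso.refl _) fun {U V} j => by
      simp only [Iso.refl_hom, Category.comp_id, Category.id_comp]
      exact hom_ext' rfl)
    fun S => IsOpenEmbedding.functor_isContinuous (hh.isOpenEmbedding ((FibDesc.toAug SimplexCategory).obj S))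

end Groth.Agent.FibDescLib
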