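import Groth.Agent.FibDescLib.Restrict
import Groth.Agent.FibDescLib.DerivedUnit
import Mathlib.CategoryTheory.Abelian.GrothendieckCategory.EnoughInjectives

/-!
# Restriction of augmented simplicial spaces to an open of the base: sheaves
-/

set_option autoImplicit false
set_option backward.isDefEq.respectTransparency false
set_option backward.isDefEq.respectTransparency.types false
set_option linter.style.haveILetI false

universe u

noncomputable section

open CategoryTheory CategoryTheory.Limits Opposite TopologicalSpace Pseudofunctor.CoGrothendieck Topology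

namespace Groth.Agent.FibDescLib

section Kan

variable {C D H : Type*} [Category C] [Category D] [Category H] (L : C ⥤ D)
  [∀ F : C ⥤ H, L.HasPointwiseRightKanExtension F]

theorem isIso_ran_map_app {F F' : C ⥤ H} (κ : F ⟶ F') (X : D)
    (hκ : ∀ j : StructuredArrow X L, IsIso (κ.app j.right)) : IsIso ((L.ran.map κ).app X) := by
  haveI : ∀ j, IsIso ((Functor.whiskerLeft (StructuredArrow.proj X L) κ).app j) := hκ
  haveI : IsIso (Functor.whiskerLeft (StructuredArrow.proj X L) κ) := NatIso.isIso_of_isIso_app _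
  have e : (L.ran.map κ).app X ≫ (L.ranObjObjIsoLimit F' X).hom =
      (L.ranObjObjIsoLimit F X).hom ≫ limMap (Functor.whiskerLeft (StructuredArrow.proj X L) κ) := by
    refine limit.hom_ext fun j => ?_
    have h := NatTrans.congr_app (L.ranCounit.naturality κ) j.right
    dsimp at h
    simp only [Category.assoc, limMap_π, Functor.ranObjObjIsoLimit_hom_π, Functor.whiskerLeft_app,
      Functor.ranObjObjIsoLimit_hom_π_assoc]
    rw [← NatTrans.naturality_assoc, h]
    rfl
  haveI : IsIso (limMap (Functor.whiskerLeft (StructuredArrow.proj X L) κ)) := by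
    refine ⟨limMap (inv (Functor.whiskerLeft (StructuredArrow.proj X L) κ)),
      limit.hom_ext fun j => ?_, limit.hom_ext fun j => ?_⟩
    · simp [← NatTrans.comp_app]
    · simp [← NatTrans.comp_app]
  haveI : IsIso ((L.ran.map κ).app X ≫ (L.ranObjObjIsoLimit F' X).hom) := by rw [e]; infer_instance
  exact IsIso.of_isIso_comp_right _ (L.ranObjObjIsoLimit F' X).hom

end Kan

variable {Y Y' : Idx ⥤ TopCat.{u}} {h : Y' ⟶ Y} (hh : IsRestriction h)

/-- Sheaves on the base. -/
abbrev BSh (Y : Idx ⥤ TopCat.{u}) := Sheaf (botTop Y) Ab0.{u}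

/-- The open base level. -/
abbrev imBot : Opens (Y'.obj (FibDesc.bot SimplexCategory)) ⥤ Opens (Y.obj (FibDesc.bot SimplexCategory)) :=
  imOpen hh (FibDesc.bot SimplexCategory)

instance isContinuous_imBot : (imBot hh).IsContinuous (botTop Y') (botTop Y) :=
  IsOpenEmbedding.functor_isContinuous (hh.isOpenEmbedding (FibDesc.bot SimplexCategory))

instance isContinuous_preBot (h : Y' ⟶ Y) :
    (Opens.map (h.app (FibDesc.bot SimplexCategory))).IsContinuous (botTop Y) (botTop Y') :=
  inferInstanceAs ((Opens.map (h.app (FibDesc.bot SimplexCategory))).IsContinuous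
    (Opens.grothendieckTopology _) (Opens.grothendieckTopology _))

/-- Restriction on the base. -/
abbrev rBot : BSh Y ⥤ BSh Y' := (imBot hh).sheafPushforwardContinuous Ab0.{u} (botTop Y') (botTop Y)

/-- Direct image on the base. -/
abbrev rBot' (h : Y' ⟶ Y) : BSh Y' ⥤ BSh Y :=
  (Opens.map (h.app (FibDesc.bot SimplexCategory))).sheafPushforwardContinuous Ab0.{u} (botTop Y) (botTop Y')

/-- Their adjunction. -/
abbrev rBotAdj : rBot hh ⊣ rBot' h :=
  @Adjunction.sheafPushforwardContinuous _ _ _ _ Ab0.{u} _ _ _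
    ((hh.isOpenEmbedding (FibDesc.bot SimplexCategory)).isOpenMap.adjunction)
    (botTop Y') (botTop Y) (isContinuous_imBot hh) (isContinuous_preBot h)

/-- Restriction on the part. -/
abbrev qPart : PSh Y ⥤ PSh Y' := (resImPart hh).sheafPushforwardContinuous Ab0.{u} (totP Y') (totP Y)

/-- Direct image on the part. -/
abbrev qPart' (h : Y' ⟶ Y) : PSh Y' ⥤ PSh Y :=
  (resPrePart h).sheafPushforwardContinuous Ab0.{u} (totP Y) (totP Y')

/-- Their adjunction. -/
abbrev qPartAdj : qPart hh ⊣ qPart' h := (resAdjPart hh).sheafPushforwardContinuous (totP Y') (totP Y)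

/-- Right Kan extension from the part. -/
abbrev ranY (Y : Idx ⥤ TopCat.{u}) : PSh Y ⥤ Sheaf (totA Y) Ab0.{u} :=
  (FibDesc.incl (FibDesc.topAug Y)).sheafPushforwardCocontinuous Ab0.{u} (totP Y) (totA Y)

/-- The direct image of the augmentation. -/
abbrev pushY (Y : Idx ⥤ TopCat.{u}) : PSh Y ⥤ BSh Y := ranY Y ⋙ restrY Y

/-- The inverse image of the augmentation. -/
abbrev pullY (Y : Idx ⥤ TopCat.{u}) : BSh Y ⥤ PSh Y := extY Y ⋙ inclRes Y

/-- Their adjunction. -/
abbrev pullPushAdj (Y : Idx ⥤ TopCat.{u}) : pullY Y ⊣ pushY Y :=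
  (extAdj Y).comp ((FibDesc.incl (FibDesc.topAug Y)).sheafAdjunctionCocontinuous Ab0.{u} (totP Y) (totA Y))

/-- Restriction on the total sites. -/
abbrev qTot : Sheaf (totA Y) Ab0.{u} ⥤ Sheaf (totA Y') Ab0.{u} :=
  (resIm hh).sheafPushforwardContinuous Ab0.{u} (totA Y') (totA Y)

/-- Direct image on the total sites. -/
abbrev qTot' (h : Y' ⟶ Y) : Sheaf (totA Y') Ab0.{u} ⥤ Sheaf (totA Y) Ab0.{u} :=
  (resPre h).sheafPushforwardContinuous Ab0.{u} (totA Y) (totA Y')

/-- Restriction commutes with restriction to the part. -/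
def inclRestrictIso : qTot hh ⋙ inclRes Y' ≅ inclRes Y ⋙ qPart hh :=
  NatIso.ofComponents (fun G => (fullyFaithfulSheafToPresheaf _ _).preimageIso
    (NatIso.ofComponents (fun A => Iso.refl _) fun {A B} f => by
      refine (Category.comp_id _).trans (Eq.trans ?_ (Category.id_comp _).symm)
      exact congrArg (fun t => G.obj.map t.op) (hom_ext' rfl)))
    fun {G G'} φ => Sheaf.hom_ext (NatTrans.ext (funext fun A =>
      (Category.comp_id _).trans (Category.id_comp _).symm))

/-- Direct image commutes with right Kan extension. -/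
def ranRestrictIso : qPart' h ⋙ ranY Y ≅ ranY Y' ⋙ qTot' h :=
  Adjunction.rightAdjointUniq
    ((((FibDesc.incl (FibDesc.topAug Y)).sheafAdjunctionCocontinuous Ab0.{u} (totP Y) (totA Y)).comp
      (qPartAdj hh)).ofNatIsoLeft (inclRestrictIso hh).symm)
    ((((resAdj hh).sheafPushforwardContinuous (E := Ab0.{u}) (totA Y') (totA Y))).comp
      ((FibDesc.incl (FibDesc.topAug Y')).sheafAdjunctionCocontinuous Ab0.{u} (totP Y') (totA Y')))

/-- Direct image commutes with restriction to the base. -/
def restrRestrictIso (h : Y' ⟶ Y) : qTot' h ⋙ restrY Y ≅ restrY Y' ⋙ rBot' h :=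
  NatIso.ofComponents (fun G => (fullyFaithfulSheafToPresheaf _ _).preimageIso
    (NatIso.ofComponents (fun A => Iso.refl _) fun {A B} f => by
      refine (Category.comp_id _).trans (Eq.trans ?_ (Category.id_comp _).symm)
      exact congrArg G.obj.map (Quiver.Hom.unop_inj (hom_ext' (hom_bot_ext _ _)))))
    fun {G G'} φ => Sheaf.hom_ext (NatTrans.ext (funext fun A =>
      (Category.comp_id _).trans (Category.id_comp _).symm))

/-- Direct images commute with the augmentation. -/
def pushRestrictIso : qPart' h ⋙ pushY Y ≅ pushY Y' ⋙ rBot' h :=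
  (Functor.associator _ _ _).symm ≪≫ Functor.isoWhiskerRight (ranRestrictIso hh) _ ≪≫
    Functor.associator _ _ _ ≪≫ Functor.isoWhiskerLeft _ (restrRestrictIso h) ≪≫ (Functor.associator _ _ _).symm

instance isIso_rBot_counit (G : BSh Y') : IsIso ((rBotAdj hh).counit.app G) := by
  haveI : ∀ A, IsIso (((rBotAdj hh).counit.app G).hom.app A) := fun A => by
    obtain ⟨U⟩ := A
    let adj := (hh.isOpenEmbedding (FibDesc.bot SimplexCategory)).isOpenMap.adjunction
    haveI : IsIso (adj.unit.app U) :=
      ⟨(homOfLE (fun x hx => by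
          obtain ⟨y, hy, e⟩ := hx
          exact (hh.isOpenEmbedding _).injective e ▸ hy) :
          (Opens.map (h.app (FibDesc.bot SimplexCategory))).obj ((imBot hh).obj U) ⟶ U),
        Subsingleton.elim _ _, Subsingleton.elim _ _⟩
    simp [rBotAdj]
    infer_instance
  haveI : IsIso ((sheafToPresheaf _ _).map ((rBotAdj hh).counit.app G)) :=
    NatIso.isIso_of_isIso_app ((rBotAdj hh).counit.app G).hom
  exact isIso_of_reflects_iso ((rBotAdj hh).counit.app G) (sheafToPresheaf _ _)

instance isIso_rBot_push_unit (X : PSh Y) :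
    IsIso ((rBot hh).map ((pushY Y).map ((qPartAdj hh).unit.app X))) := by
  haveI : ∀ A, IsIso (((rBot hh).map ((pushY Y).map ((qPartAdj hh).unit.app X))).hom.app A) := fun A => by
    obtain ⟨U⟩ := A
    refine isIso_ran_map_app (FibDesc.incl (FibDesc.topAug Y)).op (((qPartAdj hh).unit.app X).hom)
      (op ((epsY Y).obj ((imBot hh).obj U))) fun j => ?_
    obtain ⟨⟨⟨⟩⟩, ⟨B⟩, f⟩ := j
    have hA := subset_range_of_hom hh (B := (epsY Y').obj U) (A := inclObj B) f.unop
    haveI := isIso_resAdjPart_counit hh hA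
    simp [qPartAdj]
    infer_instance
  haveI : IsIso ((sheafToPresheaf _ _).map ((rBot hh).map ((pushY Y).map ((qPartAdj hh).unit.app X)))) :=
    NatIso.isIso_of_isIso_app ((rBot hh).map ((pushY Y).map ((qPartAdj hh).unit.app X))).hom
  exact isIso_of_reflects_iso ((rBot hh).map ((pushY Y).map ((qPartAdj hh).unit.app X))) (sheafToPresheaf _ _)

/-- Base change of the direct image of the augmentation. -/
def pushBaseChange : pushY Y ⋙ rBot hh ⟶ qPart hh ⋙ pushY Y' where
  app X := (rBot hh).map ((pushY Y).map ((qPartAdj hh).unit.app X)) ≫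
    (rBot hh).map ((pushRestrictIso hh).hom.app ((qPart hh).obj X)) ≫
      (rBotAdj hh).counit.app ((pushY Y').obj ((qPart hh).obj X))
  naturality X X' φ := by
    have h1 := (qPartAdj hh).unit.naturality φ
    have h2 := (pushRestrictIso hh).hom.naturality ((qPart hh).map φ)
    have h3 := (rBotAdj hh).counit.naturality ((pushY Y').map ((qPart hh).map φ))
    change φ ≫ (qPartAdj hh).unit.app X' = (qPartAdj hh).unit.app X ≫ (qPart' h).map ((qPart hh).map φ) at h1
    change (pushY Y).map ((qPart' h).map ((qPart hh).map φ)) ≫ _ =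
      _ ≫ (rBot' h).map ((pushY Y').map ((qPart hh).map φ)) at h2
    change (rBot hh).map ((rBot' h).map ((pushY Y').map ((qPart hh).map φ))) ≫ _ = _ at h3
    show (rBot hh).map ((pushY Y).map φ) ≫ _ = _ ≫ (pushY Y').map ((qPart hh).map φ)
    have e1 := congrArg (fun t => (rBot hh).map ((pushY Y).map t)) h1
    have e2 := congrArg (rBot hh).map h2
    simp only [Functor.map_comp] at e1 e2
    simp only [Category.assoc]
    refine ((Category.assoc _ _ _).symm.trans ((congrArg (· ≫ _) e1).trans (Category.assoc _ _ _))).trans ?_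
    refine congrArg (_ ≫ ·) ?_
    refine ((Category.assoc _ _ _).symm.trans ((congrArg (· ≫ _) e2).trans (Category.assoc _ _ _))).trans ?_
    exact congrArg (_ ≫ ·) h3

theorem isIso_pushBaseChange (X : PSh Y) : IsIso ((pushBaseChange hh).app X) := by
  dsimp only [pushBaseChange]
  infer_instance

theorem isIso_pullBaseChange_restrict (L : BSh Y) :
    IsIso ((pullBaseChange (pullPushAdj Y) (pullPushAdj Y') (pushBaseChange hh)).app L) :=
  isIso_pullBaseChange (pullPushAdj Y) (pullPushAdj Y') (rBotAdj hh) (qPartAdj hh) (pushRestrictIso hh)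
    (pushBaseChange hh) (fun _ => rfl) L

end Groth.Agent.FibDescLib
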