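import Groth.Prelude.Def_FibSite
import Mathlib.CategoryTheory.Thin
import Mathlib.CategoryTheory.Sites.CoverPreserving

/-!
# Total sites of fibred categories with thin fibres
-/

set_option autoImplicit false
set_option backward.isDefEq.respectTransparency false
set_option backward.isDefEq.respectTransparency.types false

universe w v₃ u₃ v₂ u₂ v₁ u₁

open CategoryTheory CategoryTheory.Limits Opposite Pseudofunctor.CoGrothendieck

namespace Groth.Agent.FibDescLib

variable {𝒮 : Type u₁} [Category.{v₁} 𝒮] {F : Pseudofunctor (LocallyDiscrete 𝒮ᵒᵖ) Cat.{v₂, u₂}}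

/-- Arrows of the total category over a thin family of fibres are determined by their bases. -/
theorem hom_ext' [∀ S : 𝒮, Quiver.IsThin (F.obj ⟨op S⟩)] {X Y : ∫ᶜ F} {f g : X ⟶ Y} (h : f.base = g.base) :
    f = g :=
  Pseudofunctor.CoGrothendieck.Hom.ext _ _ h (Subsingleton.elim _ _)

/-- An arrow of the total category. -/
def mkHom {X Y : ∫ᶜ F} (b : X.base ⟶ Y.base) (φ : X.fiber ⟶ (FibSite.invImage F b).obj Y.fiber) : X ⟶ Y :=
  ⟨b, φ⟩

/-- The fibre arrow over the identity. -/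
abbrev fibHom {S : 𝒮} {V U : F.obj ⟨op S⟩} (j : V ⟶ U) : (ι F S).obj V ⟶ (ι F S).obj U := (ι F S).map j

/-- The fibre arrows contained in a sieve. -/
def fibSieve {X : ∫ᶜ F} (R : Sieve X) : Sieve X.fiber :=
  Sieve.functorPullback (ι F X.base) (X := X.fiber) R

variable (J : FibSite.Topologies F)
  (hJ : ∀ ⦃R S : 𝒮⦄ (f : R ⟶ S), CoverPreserving (J S) (J R) (FibSite.invImage F f))

variable [∀ S : 𝒮, Quiver.IsThin (F.obj ⟨op S⟩)]

/-- A fibre arrow followed by any arrow with the cartesian part split off. -/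
theorem exists_factor {X Y : ∫ᶜ F} (g : Y ⟶ X) {W : F.obj ⟨op X.base⟩} (j : W ⟶ X.fiber)
    {V : F.obj ⟨op Y.base⟩} (k : V ⟶ Y.fiber) (l : V ⟶ (FibSite.invImage F g.base).obj W) :
    ∃ g' : (ι F Y.base).obj V ⟶ (ι F X.base).obj W,
      g'.base = g.base ∧ fibHom k ≫ g = g' ≫ fibHom j :=
  ⟨mkHom g.base l, rfl, hom_ext' (show 𝟙 Y.base ≫ g.base = g.base ≫ 𝟙 X.base by simp)⟩

include hJ in
theorem fibSieve_pullback_mem {X Y : ∫ᶜ F} (g : Y ⟶ X) {R : Sieve X} (hR : fibSieve R ∈ J X.base X.fiber) :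
    fibSieve (R.pullback g) ∈ J Y.base Y.fiber := by
  have h1 := (J Y.base).pullback_stable g.fiber ((hJ g.base).cover_preserve hR)
  refine (J Y.base).superset_covering (fun V k hk => ?_) h1
  obtain ⟨W, j, l, hj, -⟩ := hk
  obtain ⟨g', -, e⟩ := exists_factor g j k l
  show R ((fibHom k) ≫ g)
  rw [e]
  exact R.downward_closed hj _

/-- The topology of fibrewise coverings. -/
def fibTop : GrothendieckTopology (∫ᶜ F) where
  sieves X := {R | fibSieve R ∈ J X.base X.fiber}
  top_mem' X := by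
    show fibSieve (⊤ : Sieve X) ∈ J X.base X.fiber
    rw [show fibSieve (⊤ : Sieve X) = ⊤ from Sieve.functorPullback_top (ι F X.base) (X := X.fiber)]
    exact (J X.base).top_mem _
  pullback_stable' {X Y R} g hR := fibSieve_pullback_mem J hJ g hR
  transitive' {X R} hR R' hR' := by
    refine (J X.base).transitive hR _ fun V j hj => ?_
    refine (J X.base).superset_covering (fun W k hk => ?_) (hR' hj)
    show R' (fibHom (k ≫ j))
    have h : R' (fibHom k ≫ fibHom j) := hk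
    exact (show fibHom (k ≫ j) = fibHom k ≫ fibHom j from (ι F X.base).map_comp k j) ▸ h

theorem totalTopology_eq : FibSite.totalTopology F J = fibTop J hJ := by
  refine le_antisymm (FibSite.totalTopology_le fun S U R hR => ?_) fun X R hR => ?_
  · exact (J S).superset_covering (fun V j hj => Sieve.image_mem_functorPushforward (ι F S) R hj) hR
  · refine (FibSite.totalTopology F J).superset_covering ?_ (FibSite.functorPushforward_mem_totalTopology hR)
    exact (Sieve.functor_galoisConnection (ι F X.base) X.fiber).l_u_le R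

include hJ in
theorem mem_totalTopology_iff {X : ∫ᶜ F} (R : Sieve X) :
    R ∈ FibSite.totalTopology F J X ↔ fibSieve R ∈ J X.base X.fiber := by
  rw [totalTopology_eq J hJ]
  rfl

include hJ in
/-- Sheaves of sets on the total site are fibrewise sheaves. -/
theorem isSheaf_of_fibres (P : (∫ᶜ F)ᵒᵖ ⥤ Type w)
    (h : ∀ S, Presieve.IsSheaf (J S) ((ι F S).op ⋙ P)) :
    Presieve.IsSheaf (FibSite.totalTopology F J) P := by
  intro X R hR
  have hR' := (mem_totalTopology_iff J hJ R).1 hR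
  have hs := h X.base (fibSieve R) hR'
  intro x hx
  let y : Presieve.FamilyOfElements ((ι F X.base).op ⋙ P) (fibSieve R).arrows :=
    fun V j hj => x (fibHom j) hj
  have hy : y.Compatible := fun V₁ V₂ W k₁ k₂ j₁ j₂ h₁ h₂ e => hx (fibHom k₁) (fibHom k₂) h₁ h₂
    (by rw [← (ι F X.base).map_comp, ← (ι F X.base).map_comp, e])
  obtain ⟨t, ht, huniq⟩ := hs y hy
  refine ⟨t, fun Y g hg => ?_, fun t' ht' => huniq t' fun V j hj => ht' (fibHom j) hj⟩
  have h1 := (J Y.base).pullback_stable g.fiber ((hJ g.base).cover_preserve hR')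
  refine ((h Y.base).isSeparated _ h1).ext fun V k hk => ?_
  obtain ⟨W, j, l, hj, -⟩ := hk
  obtain ⟨g', -, e⟩ := exists_factor g j k l
  show P.map (fibHom k).op (P.map g.op t) = P.map (fibHom k).op (x g hg)
  refine (P.map_comp_apply g.op (fibHom k).op t).symm.trans ?_
  refine (congrArg (fun φ => P.map φ.op t) e).trans ?_
  refine (P.map_comp_apply (fibHom j).op g'.op t).trans ?_
  refine (congrArg (P.map g'.op) (ht j hj)).trans ?_
  exact hx g' (fibHom k) hj hg e.symm

/-- Inverse images commute with meets. -/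
def HasMeets (F : Pseudofunctor (LocallyDiscrete 𝒮ᵒᵖ) Cat.{v₂, u₂}) : Prop :=
  ∀ (S : 𝒮) (V₁ V₂ : F.obj ⟨op S⟩), ∃ (W : F.obj ⟨op S⟩) (_ : W ⟶ V₁) (_ : W ⟶ V₂),
    ∀ ⦃R : 𝒮⦄ (b : R ⟶ S) (Z : F.obj ⟨op R⟩), (Z ⟶ (FibSite.invImage F b).obj V₁) →
      (Z ⟶ (FibSite.invImage F b).obj V₂) → Nonempty (Z ⟶ (FibSite.invImage F b).obj W)

theorem compatiblePreserving_ι (hm : HasMeets F) (S : 𝒮) :
    CompatiblePreserving.{w} (FibSite.totalTopology F J) (ι F S) :=
  ⟨fun ℱ U T x hx V₁ V₂ X f₁ f₂ g₁ g₂ hg₁ hg₂ e => by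
    obtain ⟨W, k₁, k₂, hW⟩ := hm S V₁ V₂
    have hb : f₂.base = f₁.base := by
      have := congrArg (fun φ => φ.base) e
      simpa [ι] using this.symm
    obtain ⟨l⟩ := hW f₁.base X.fiber f₁.fiber (f₂.fiber ≫ eqToHom (by rw [hb]; rfl))
    let g : X ⟶ (ι F S).obj W := mkHom f₁.base l
    have e₁ : f₁ = g ≫ fibHom k₁ := hom_ext' (by simp [g, mkHom, fibHom, ι])
    have e₂ : f₂ = g ≫ fibHom k₂ := hom_ext' (by simp [g, mkHom, fibHom, ι, hb])
    rw [e₁, e₂, op_comp, op_comp, ℱ.obj.map_comp, ℱ.obj.map_comp, ConcreteCategory.comp_apply,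
      ConcreteCategory.comp_apply]
    exact congrArg (ℱ.obj.map g.op) (hx k₁ k₂ hg₁ hg₂ (Subsingleton.elim _ _))⟩

theorem coverPreserving_ι (S : 𝒮) :
    CoverPreserving (J S) (FibSite.totalTopology F J) (ι F S) :=
  ⟨fun hR => FibSite.functorPushforward_mem_totalTopology hR⟩

theorem isContinuous_ι (hm : HasMeets F) (S : 𝒮) :
    (ι F S).IsContinuous (J S) (FibSite.totalTopology F J) :=
  Functor.isContinuous_of_coverPreserving (compatiblePreserving_ι J hm S) (coverPreserving_ι J S)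

include hJ in
theorem isCocontinuous_ι (S : 𝒮) :
    (ι F S).IsCocontinuous (J S) (FibSite.totalTopology F J) :=
  ⟨fun hR => (mem_totalTopology_iff J hJ _).1 hR⟩

section Between

variable {𝒮' : Type u₁} [Category.{v₁} 𝒮'] {F' : Pseudofunctor (LocallyDiscrete 𝒮'ᵒᵖ) Cat.{v₂, u₂}}
  (J' : FibSite.Topologies F') [∀ S : 𝒮', Quiver.IsThin (F'.obj ⟨op S⟩)] (hm : HasMeets F')

include hJ hm in
/-- A functor between total categories which is fibrewise continuous is continuous. -/
theorem isContinuous_of_fibrewise (Φ : ∫ᶜ F ⥤ ∫ᶜ F') (ψ : 𝒮 → 𝒮')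
    (φ : ∀ S, F.obj ⟨op S⟩ ⥤ F'.obj ⟨op (ψ S)⟩) (e : ∀ S, ι F S ⋙ Φ ≅ φ S ⋙ ι F' (ψ S))
    (hφ : ∀ S, (φ S).IsContinuous (J S) (J' (ψ S))) :
    Φ.IsContinuous (FibSite.totalTopology F J) (FibSite.totalTopology F' J') where
  op_comp_isSheaf_of_types G := by
    refine isSheaf_of_fibres J hJ _ fun S => ?_
    haveI := isContinuous_ι J' hm (ψ S)
    haveI := hφ S
    haveI : (φ S ⋙ ι F' (ψ S)).IsContinuous (J S) (FibSite.totalTopology F' J') :=
      Functor.isContinuous_comp _ _ (J S) (J' (ψ S)) _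
    haveI : (ι F S ⋙ Φ).IsContinuous (J S) (FibSite.totalTopology F' J') :=
      Functor.isContinuous_of_iso (e S).symm (J S) (FibSite.totalTopology F' J')
    exact Functor.op_comp_isSheaf_of_types (ι F S ⋙ Φ) (J S) (FibSite.totalTopology F' J') G

include hJ in
/-- A functor between total categories which is fibrewise cocontinuous is cocontinuous. -/
theorem isCocontinuous_of_fibrewise
    (hJ₂ : ∀ ⦃R S : 𝒮'⦄ (f : R ⟶ S), CoverPreserving (J' S) (J' R) (FibSite.invImage F' f))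
    (Φ : ∫ᶜ F ⥤ ∫ᶜ F')
    (h : ∀ (X : ∫ᶜ F) (R : Sieve (Φ.obj X)),
      fibSieve R ∈ J' (Φ.obj X).base (Φ.obj X).fiber → fibSieve (R.functorPullback Φ) ∈ J X.base X.fiber) :
    Φ.IsCocontinuous (FibSite.totalTopology F J) (FibSite.totalTopology F' J') :=
  ⟨fun hR => (mem_totalTopology_iff J hJ _).2 (h _ _ ((mem_totalTopology_iff J' hJ₂ _).1 hR))⟩

end Between

end Groth.Agent.FibDescLib
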