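import Groth.Prelude.Def_FibDesc
import Groth.Agent.FibDescLib.Total

/-!
# Total sites of augmented simplicial spaces
-/

set_option autoImplicit false
set_option backward.isDefEq.respectTransparency false
set_option backward.isDefEq.respectTransparency.types false

universe u

noncomputable section

open CategoryTheory CategoryTheory.Limits Opposite TopologicalSpace Pseudofunctor.CoGrothendieck

namespace Groth.Agent.FibDescLib

/-- The augmented index category (opposite). -/
abbrev Idx := (WithInitial SimplexCategory)ᵒᵖ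

variable (Y : Idx ⥤ TopCat.{u})

/-- The total category of an augmented simplicial space. -/
abbrev Tot := ∫ᶜ (FibDesc.topAug Y)

instance (S : Idx) : Quiver.IsThin ((FibDesc.topAug Y).obj ⟨op S⟩) :=
  fun (U V : Opens (Y.obj S)) => inferInstanceAs (Subsingleton (U ⟶ V))

instance (S : SimplexCategoryᵒᵖ) : Quiver.IsThin ((FibDesc.part (FibDesc.topAug Y)).obj ⟨op S⟩) :=
  fun (U V : Opens (Y.obj ((FibDesc.toAug SimplexCategory).obj S))) => inferInstanceAs (Subsingleton (U ⟶ V))

variable {Y}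

/-- An object. -/
abbrev tObj (i : Idx) (U : Opens (Y.obj i)) : Tot Y := ⟨i, U⟩

/-- The open underlying an object. -/
abbrev fib (A : Tot Y) : Opens (Y.obj A.base) := A.fiber

theorem invImage_obj {R S : Idx} (f : R ⟶ S) (U : Opens (Y.obj S)) :
    (FibSite.invImage (FibDesc.topAug Y) f).obj U = (Opens.map (Y.map f)).obj U := rfl

/-- An arrow from a base arrow and an inequality. -/
def tHom {A B : Tot Y} (b : A.base ⟶ B.base)
    (h : fib A ≤ (Opens.map (Y.map b)).obj (fib B)) : A ⟶ B :=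
  mkHom b (homOfLE h : fib A ⟶ (Opens.map (Y.map b)).obj (fib B))

theorem tHom_le {A B : Tot Y} (f : A ⟶ B) :
    fib A ≤ (Opens.map (Y.map f.base)).obj (fib B) :=
  leOfHom (f.fiber : fib A ⟶ (Opens.map (Y.map f.base)).obj (fib B))

theorem hJ (Y : Idx ⥤ TopCat.{u}) : ∀ ⦃R S : Idx⦄ (f : R ⟶ S),
    CoverPreserving (FibDesc.topAugTop Y S) (FibDesc.topAugTop Y R) (FibSite.invImage (FibDesc.topAug Y) f) :=
  fun _ _ f => coverPreserving_opens_map (Y.map f)

theorem hJpart (Y : Idx ⥤ TopCat.{u}) : ∀ ⦃R S : SimplexCategoryᵒᵖ⦄ (f : R ⟶ S),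
    CoverPreserving (FibDesc.partTop (FibDesc.topAug Y) (FibDesc.topAugTop Y) S)
      (FibDesc.partTop (FibDesc.topAug Y) (FibDesc.topAugTop Y) R)
      (FibSite.invImage (FibDesc.part (FibDesc.topAug Y)) f) :=
  fun _ _ f => coverPreserving_opens_map (Y.map ((FibDesc.toAug SimplexCategory).map f))

theorem hasMeets (Y : Idx ⥤ TopCat.{u}) : HasMeets (FibDesc.topAug Y) :=
  fun S V₁ V₂ =>
    let U₁ : Opens (Y.obj S) := V₁
    let U₂ : Opens (Y.obj S) := V₂
    ⟨(U₁ ⊓ U₂ : Opens (Y.obj S)), (homOfLE inf_le_left : U₁ ⊓ U₂ ⟶ U₁), (homOfLE inf_le_right : U₁ ⊓ U₂ ⟶ U₂),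
    fun R b Z h₁ h₂ =>
      let W : Opens (Y.obj R) := Z
      let a₁ : W ⟶ (Opens.map (Y.map b)).obj U₁ := h₁
      let a₂ : W ⟶ (Opens.map (Y.map b)).obj U₂ := h₂
      ⟨(homOfLE (le_inf (leOfHom a₁) (leOfHom a₂)) : W ⟶ (Opens.map (Y.map b)).obj (U₁ ⊓ U₂))⟩⟩

theorem hasMeetsPart (Y : Idx ⥤ TopCat.{u}) : HasMeets (FibDesc.part (FibDesc.topAug Y)) :=
  fun S V₁ V₂ => by
    obtain ⟨W, k₁, k₂, h⟩ := hasMeets Y ((FibDesc.toAug SimplexCategory).obj S) V₁ V₂
    exact ⟨W, k₁, k₂, fun R b Z h₁ h₂ => h ((FibDesc.toAug SimplexCategory).map b) Z h₁ h₂⟩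

/-- Abelian sheaves on the total site of the part. -/
abbrev totA (Y : Idx ⥤ TopCat.{u}) : GrothendieckTopology (Tot Y) :=
  FibDesc.totAug (FibDesc.topAug Y) (FibDesc.topAugTop Y)

/-- The topology of the part. -/
abbrev totP (Y : Idx ⥤ TopCat.{u}) : GrothendieckTopology (∫ᶜ (FibDesc.part (FibDesc.topAug Y))) :=
  FibDesc.totPart (FibDesc.topAug Y) (FibDesc.topAugTop Y)

instance isContinuous_eps (Y : Idx ⥤ TopCat.{u}) :
    (FibDesc.eps (FibDesc.topAug Y)).IsContinuous (FibDesc.topAugTop Y (FibDesc.bot SimplexCategory)) (totA Y) :=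
  isContinuous_ι _ (hasMeets Y) _

instance isContinuous_incl (Y : Idx ⥤ TopCat.{u}) :
    (FibDesc.incl (FibDesc.topAug Y)).IsContinuous (totP Y) (totA Y) :=
  isContinuous_of_fibrewise _ (hJpart Y) _ (hasMeets Y) (FibDesc.incl (FibDesc.topAug Y))
    (FibDesc.toAug SimplexCategory).obj (fun _ => 𝟭 _)
    (fun S => NatIso.ofComponents (fun U => Iso.refl _) fun {U V} j => by
      simp only [Iso.refl_hom, Category.comp_id, Category.id_comp]
      exact hom_ext' ((FibDesc.toAug SimplexCategory).map_id S))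
    fun S => inferInstanceAs ((𝟭 _).IsContinuous _ _)

theorem eq_of_hom_incl {A : Tot Y} {B : ∫ᶜ (FibDesc.part (FibDesc.topAug Y))}
    (f : A ⟶ (FibDesc.incl (FibDesc.topAug Y)).obj B) :
    ∃ A' : ∫ᶜ (FibDesc.part (FibDesc.topAug Y)), (FibDesc.incl (FibDesc.topAug Y)).obj A' = A := by
  obtain ⟨⟨a⟩, U⟩ := A
  cases a with
  | of a => exact ⟨⟨op a, U⟩, rfl⟩
  | star => exact (f.base.unop).elim

instance isCocontinuous_incl (Y : Idx ⥤ TopCat.{u}) :
    (FibDesc.incl (FibDesc.topAug Y)).IsCocontinuous (totP Y) (totA Y) :=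
  ⟨fun {B} R hR => (mem_totalTopology_iff _ (hJpart Y) _).2
    ((FibDesc.topAugTop Y _).superset_covering (fun V j hj => by
      have e : (FibDesc.incl (FibDesc.topAug Y)).map (fibHom j) =
          fibHom (F := FibDesc.topAug Y) (S := (FibDesc.toAug SimplexCategory).obj B.base) j :=
        hom_ext' ((FibDesc.toAug SimplexCategory).map_id B.base)
      show R.arrows ((FibDesc.incl (FibDesc.topAug Y)).map (fibHom j))
      rw [e]
      exact hj) ((mem_totalTopology_iff _ (hJ Y) _).1 hR))⟩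

theorem hom_bot_ext {i : Idx} (f g : i ⟶ FibDesc.bot SimplexCategory) : f = g :=
  Quiver.Hom.unop_inj (match i with
    | ⟨.of _⟩ => rfl
    | ⟨.star⟩ => rfl)

/-- The arrow to the base point. -/
def toBot (i : Idx) : i ⟶ FibDesc.bot SimplexCategory :=
  match i with
  | ⟨.of _⟩ => Quiver.Hom.op (show WithInitial.star ⟶ _ from PUnit.unit)
  | ⟨.star⟩ => 𝟙 _

/-- The base fibre inclusion is flat: the base is final. -/
instance representablyFlat_eps (Y : Idx ⥤ TopCat.{u}) :
    RepresentablyFlat (FibDesc.eps (FibDesc.topAug Y)) := by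
  constructor
  intro A
  let b : A.base ⟶ FibDesc.bot SimplexCategory := toBot A.base
  refine @IsCofiltered.mk _ _ ?_ ?_
  · constructor
    · intro V W
      let V' : Opens (Y.obj (FibDesc.bot SimplexCategory)) := V.right
      let W' : Opens (Y.obj (FibDesc.bot SimplexCategory)) := W.right
      have h1 : fib A ≤ (Opens.map (Y.map b)).obj V' := hom_bot_ext V.hom.base b ▸ tHom_le V.hom
      have h2 : fib A ≤ (Opens.map (Y.map b)).obj W' := hom_bot_ext W.hom.base b ▸ tHom_le W.hom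
      refine ⟨StructuredArrow.mk (Y := V' ⊓ W') (tHom b (le_inf h1 h2)),
        StructuredArrow.homMk (homOfLE inf_le_left : V' ⊓ W' ⟶ V') (hom_ext' (hom_bot_ext _ _)),
        StructuredArrow.homMk (homOfLE inf_le_right : V' ⊓ W' ⟶ W') (hom_ext' (hom_bot_ext _ _)), trivial⟩
    · exact fun V W f g => ⟨_, 𝟙 _, by rw [show f = g from StructuredArrow.ext _ _ (Subsingleton.elim _ _)]⟩
  · exact ⟨StructuredArrow.mk (Y := (⊤ : Opens (Y.obj (FibDesc.bot SimplexCategory))))
      (tHom b (show fib A ≤ (Opens.map (Y.map b)).obj ⊤ from le_top))⟩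

end Groth.Agent.FibDescLib
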